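import Cfsg.Agent.Lib.Goldschmidt.Consumers.FourFreeList
import Cfsg.Agent.Lib.BGroup.FieldKill.Tools
import Cfsg.Agent.Lib.Fusion.PSUThree.Two
import Cfsg.Agent.Lib.SU.Ind

/-!
# Simple groups of order prime to three, given Goldschmidt's theorem

They have no section `S₄`; of the Goldschmidt groups only the Suzuki groups have order prime to three.
-/

set_option autoImplicit false
set_option linter.style.haveILetI false

namespace CfsgLib.Gold.FourFreeList

open Subgroup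

universe u

variable {G : Type u} [Group G] [Finite G]

theorem three_dvd_psl (F : Type) [Field F] [Fintype F] :
    3 ∣ Nat.card (Matrix.ProjectiveSpecialLinearGroup (Fin 2) F) := by
  have h := CfsgLib.Classical.card_psl2 (F := F)
  have hg : Nat.gcd 2 (Fintype.card F - 1) ∣ 2 := Nat.gcd_dvd_left _ _
  have h1 : 1 ≤ Fintype.card F := Fintype.card_pos
  refine (Nat.Coprime.coprime_dvd_right hg (show Nat.Coprime 3 2 by norm_num)).dvd_of_dvd_mul_left ?_
  rw [h]
  rcases (show Fintype.card F % 3 = 0 ∨ Fintype.card F % 3 = 1 ∨ Fintype.card F % 3 = 2 by omega)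
    with h | h | h
  · exact dvd_mul_of_dvd_left (Nat.dvd_of_mod_eq_zero h) _
  · exact dvd_mul_of_dvd_right (dvd_mul_of_dvd_left (by omega) _) _
  · exact dvd_mul_of_dvd_right (dvd_mul_of_dvd_right (by omega) _) _

theorem three_dvd_psu {F : Type} [Field F] [Fintype F] {n : ℕ} (hn : 1 ≤ n)
    (hF : Fintype.card F = (2 ^ n) ^ 2) : 3 ∣ Nat.card (Cfsg.PSU 3 F (2 ^ n)) := by
  haveI : Fact (Nat.Prime 2) := ⟨Nat.prime_two⟩
  obtain ⟨C⟩ := CfsgLib.SU.exists_ctx (p := 2) (f := n) rfl hn hF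
  have h := CfsgLib.PSUThreeTwo.card_PSU_three C hF
  rw [CfsgLib.Classical.card_gu_formula C hF 2] at h
  simp only [Finset.prod_range_succ, Finset.prod_range_zero, one_mul, Nat.not_even_one, if_false,
    Even.zero, if_true, show (2 * (2 - 1) / 2 : ℕ) = 1 from rfl, pow_one] at h
  have h3 : ¬ 3 ∣ 2 ^ n := fun h0 => by
    have := Nat.Prime.dvd_of_dvd_pow (show Nat.Prime 3 by norm_num) h0
    norm_num at this
  generalize 2 ^ n = q at h h3
  have h12 : 3 ∣ q ^ 2 - 1 := by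
    have : q ^ 2 % 3 = 1 := by
      rcases (show q % 3 = 1 ∨ q % 3 = 2 by omega) with e | e <;> rw [Nat.pow_mod, e]
    omega
  rcases Nat.eq_or_lt_of_le (Nat.one_le_iff_ne_zero.2
    (Nat.gcd_ne_zero_left (show (3 : ℕ) ≠ 0 by norm_num) : Nat.gcd 3 (q + 1) ≠ 0)) with e | e
  · rw [← e, mul_one] at h
    rw [h]
    exact dvd_mul_of_dvd_left (dvd_mul_of_dvd_right (dvd_mul_of_dvd_right (by simpa using h12) _) _) _
  · have hg : Nat.gcd 3 (q + 1) = 3 := ((Nat.dvd_prime (by norm_num)).1 (Nat.gcd_dvd_left 3 (q + 1))).resolve_left (by omega)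
    have hq1 : 3 ∣ q + 1 := hg ▸ Nat.gcd_dvd_right 3 (q + 1)
    rw [hg] at h
    refine Nat.dvd_of_mul_dvd_mul_right (show 0 < 3 by norm_num) ?_
    rw [h]
    simp only [Nat.zero_add, pow_one, show (1 + 1 : ℕ) = 2 from rfl]
    exact dvd_mul_of_dvd_left (dvd_mul_of_dvd_right (mul_dvd_mul hq1 h12) _) _

/-- The simple groups of order prime to three are Suzuki groups. -/
theorem isoSuzuki_of_prime_to_three [IsSimpleGroup G]
    (hgold : ∀ (S : Sylow 2 G) (A : Subgroup G), A ≠ ⊥ → IsMulCommutative A →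
      Cfsg.IsStronglyClosed A (S : Subgroup G) →
      IsMulCommutative (S : Subgroup G) ∨ ∃ H : Subgroup G, Cfsg.IsStronglyEmbedded H)
    (hna : ¬ IsMulCommutative G) (h3 : ¬ 3 ∣ Nat.card G) : Cfsg.Lie.IsoSuzuki G := by
  have hfree : ¬ Cfsg.Involves (Equiv.Perm (Fin 4)) G := by
    rintro ⟨K, R, hR, ⟨g⟩⟩
    refine h3 (dvd_trans ?_ K.card_subgroup_dvd_card)
    refine dvd_trans ?_ (Subgroup.card_quotient_dvd_card (R.subgroupOf K))
    rw [Nat.card_congr g.toEquiv, Nat.card_perm, Nat.card_eq_fintype_card, Fintype.card_fin]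
    decide
  rcases (fourFree_iff hgold hna).1 hfree with h | ⟨F, iF, iF', n, hn, hF, ⟨e⟩⟩ | h |
    ⟨F, iF, iF', n, hn, hF, ⟨e⟩⟩ | ⟨F, iF, iF', q, hq, h5, hmod, ⟨e⟩⟩ | ⟨⟨e⟩⟩
  · obtain ⟨-, -, t, K, n, -, -, -, -, F, iF, iF', -, ⟨e⟩⟩ := h
    exact absurd (((Nat.card_congr e.toEquiv).symm ▸ three_dvd_psl F).trans K.card_subgroup_dvd_card) h3
  · exact absurd ((Nat.card_congr e.toEquiv).symm ▸ three_dvd_psl F) h3
  · exact h
  · exact absurd ((Nat.card_congr e.toEquiv).symm ▸ three_dvd_psu (n := n) (by omega)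
      (by rw [hF, ← pow_mul, mul_comm, pow_mul]; norm_num)) h3
  · exact absurd ((Nat.card_congr e.toEquiv).symm ▸ three_dvd_psl F) h3
  · obtain ⟨x, hx⟩ : (3 : ℕ) ∈ Set.range (orderOf : ↥Cfsg.Spor.J1 → ℕ) := by
      rw [CfsgLib.Char.J1.range_orderOf]; simp
    exact absurd (hx ▸ (Nat.card_congr e.toEquiv).symm ▸ orderOf_dvd_natCard x) h3

/-- The statement of S0336, given Goldschmidt's theorem. -/
theorem isSuzuki_of_prime_to_three [IsSimpleGroup G]
    (hgold : ∀ (S : Sylow 2 G) (A : Subgroup G), A ≠ ⊥ → IsMulCommutative A →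
      Cfsg.IsStronglyClosed A (S : Subgroup G) →
      IsMulCommutative (S : Subgroup G) ∨ ∃ H : Subgroup G, Cfsg.IsStronglyEmbedded H)
    (hna : ¬ IsMulCommutative G) (h3 : ¬ 3 ∣ Nat.card G) : Cfsg.IsSuzuki G :=
  CfsgLib.CIT.isSuzuki_of_isoSuzuki (isoSuzuki_of_prime_to_three hgold hna h3)

end CfsgLib.Gold.FourFreeList
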