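import Cfsg.Agent.Lib.Goldschmidt.Consumers.PrimeToThree
import Cfsg.Agent.Lib.Goldschmidt.Comp.Center
import Cfsg.Agent.Lib.Lie.Suz.Sub.Solv
import Cfsg.Agent.Lib.Coprime.Component
import Cfsg.Agent.S2112

/-!
# Components of order prime to three and an element of order three with solvable centralizer

The element normalizes the component and acts on the central quotient, a Suzuki group, as a field automorphism
of order three; its fixed group is the Suzuki group over the subfield, so this is solvable only for eight.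
-/

set_option autoImplicit false
set_option linter.style.haveILetI false
set_option linter.unusedSectionVars false

namespace CfsgLib.Gold.ComponentThree

open Subgroup

universe u

section Suzuki

open CfsgLib.Lie.Suz

variable {F : Type} [Field F] [Fintype F] {m : ℕ} (hm : 1 ≤ m) (hF : Fintype.card F = 2 ^ (2 * m + 1))

include hm hF

theorem three_not_dvd : ¬ 3 ∣ Nat.card (Cfsg.Sz F m) := by
  rw [card_Sz hm hF, hF]
  have hq : (2 ^ (2 * m + 1)) % 3 = 2 := by
    rw [pow_succ, pow_mul, Nat.mul_mod, Nat.pow_mod]; norm_num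
  have hpos : 1 ≤ 2 ^ (2 * m + 1) := Nat.one_le_two_pow
  generalize 2 ^ (2 * m + 1) = q at hq hpos
  have e1 : q ^ 2 % 3 = 1 := by rw [Nat.pow_mod, hq]
  have e2 : (q ^ 2 + 1) % 3 = 2 := by omega
  have e3 : (q - 1) % 3 = 1 := by omega
  have : (q ^ 2 * (q ^ 2 + 1) * (q - 1)) % 3 = 2 := by
    rw [Nat.mul_mod, Nat.mul_mod (q ^ 2), e1, e2, e3]
  omega

/-- The field automorphisms form a subgroup. -/
noncomputable def fieldHom : RingAut F →* MulAut (Cfsg.Sz F m) where
  toFun := sigAut hm hF
  map_one' := MulEquiv.ext fun _ => Subtype.ext (Subtype.ext (Matrix.ext fun _ _ => rfl))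
  map_mul' _ _ := MulEquiv.ext fun _ => Subtype.ext (Subtype.ext (Matrix.ext fun _ _ => rfl))

theorem fieldHom_injective : Function.Injective (fieldHom hm hF) := fun _ _ h =>
  (aut_inj hm hF (x := 1) (y := 1) (by
    rw [map_one, one_mul, one_mul]; exact h)).2

theorem index_range_fieldHom : (fieldHom hm hF).range.index = Nat.card (Cfsg.Sz F m) := by
  haveI : Fact (Nat.Prime 2) := ⟨Nat.prime_two⟩
  have h1 := (fieldHom hm hF).range.card_mul_index
  rw [← Nat.card_congr (MonoidHom.ofInjective (fieldHom_injective hm hF)).toEquiv,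
    CfsgLib.AutPSL.card_ringAut (F := F) hF, card_mulAut hm hF, mul_comm (Nat.card (Cfsg.Sz F m))] at h1
  exact Nat.eq_of_mul_eq_mul_left (by omega) h1

/-- An automorphism of order three with solvable fixed group: the field has eight elements. -/
theorem eq_one_of_solvable {θ : MulAut (Cfsg.Sz F m)} (h3 : θ ^ 3 = 1)
    (hsol : ∀ L : Subgroup (Cfsg.Sz F m), (∀ g ∈ L, θ g = g) → Group.IsSolvable L) : m = 1 := by
  haveI : Fact (Nat.Prime 3) := ⟨Nat.prime_three⟩
  haveI : Fact (Nat.Prime 2) := ⟨Nat.prime_two⟩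
  have hns := not_solvable hm hF
  have hθ1 : θ ≠ 1 := by
    rintro rfl
    haveI := hsol ⊤ fun g _ => rfl
    exact hns (Group.isSolvable_of_surjective (f := (Subgroup.topEquiv (G := Cfsg.Sz F m)).toMonoidHom)
      (Subgroup.topEquiv).surjective)
  have hθo : orderOf θ = 3 := orderOf_eq_prime h3 hθ1
  have hidx : ¬ 3 ∣ (fieldHom hm hF).range.index := index_range_fieldHom hm hF ▸ three_not_dvd hm hF
  obtain ⟨P⟩ : Nonempty (Sylow 3 (fieldHom hm hF).range) := inferInstance
  have hPidx : ¬ 3 ∣ ((P : Subgroup (fieldHom hm hF).range).map (fieldHom hm hF).range.subtype).index := by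
    rw [Subgroup.index_map_subtype]
    exact Nat.Prime.not_dvd_mul Nat.prime_three P.not_dvd_index hidx
  let Q : Sylow 3 (MulAut (Cfsg.Sz F m)) := (P.2.map (fieldHom hm hF).range.subtype).toSylow hPidx
  obtain ⟨Q', hQ'⟩ := IsPGroup.exists_le_sylow
    (IsPGroup.of_card (n := 1) (by rw [Nat.card_zpowers, hθo, pow_one]) : IsPGroup 3 (zpowers θ))
  obtain ⟨g, hg⟩ := MulAction.exists_smul_eq (MulAut (Cfsg.Sz F m)) Q' Q
  have hθQ : g * θ * g⁻¹ ∈ (Q : Subgroup (MulAut (Cfsg.Sz F m))) := by
    rw [← hg, Sylow.coe_subgroup_smul]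
    exact ⟨θ, hQ' (mem_zpowers θ), rfl⟩
  obtain ⟨⟨_, τ, rfl⟩, -, hτ⟩ := hθQ
  replace hτ : fieldHom hm hF τ = g * θ * g⁻¹ := hτ
  have hτ3 : τ ^ 3 = 1 := fieldHom_injective hm hF (by
    rw [map_pow, map_one, hτ, conj_pow, h3, mul_one, mul_inv_cancel])
  have hτ1 : τ ≠ 1 := fun e => hθ1 (by
    rw [e, map_one] at hτ
    exact conj_eq_one_iff.1 hτ.symm)
  have hτo : orderOf τ = 3 := orderOf_eq_prime hτ3 hτ1
  have hdvd : 3 ∣ 2 * m + 1 := by
    rw [← CfsgLib.AutPSL.card_ringAut (F := F) hF, ← hτo]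
    exact orderOf_dvd_natCard τ
  obtain ⟨n, hn⟩ := hdvd
  by_contra hm1
  obtain ⟨k, rfl⟩ : ∃ k, n = 2 * k + 1 := ⟨n / 2, by omega⟩
  have hk : 1 ≤ k := by omega
  set f := frobA hF (2 * k + 1)
  have hf : ∀ x, f x = x ^ 2 ^ (2 * k + 1) := frobA_apply hF _
  obtain ⟨e⟩ := CfsgLib.AutPSL.exists_ringAut_equiv (F := F) hF
  haveI : IsCyclic (RingAut F) := isCyclic_of_surjective e.symm.toMonoidHom e.symm.surjective
  have hf3 : f ^ 3 = 1 := RingEquiv.ext fun x => by
    show f (f (f x)) = x
    rw [hf, hf, hf, ← pow_mul, ← pow_mul, ← pow_add, ← pow_add,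
      show 2 * k + 1 + (2 * k + 1 + (2 * k + 1)) = 2 * m + 1 by omega, ← hF, FiniteField.pow_card]
  have hf1 : f ≠ 1 := by
    intro h1
    have hall : ∀ x : F, x ^ 2 ^ (2 * k + 1) = x := fun x => by rw [← hf, h1]; rfl
    obtain ⟨u, hu⟩ := IsCyclic.exists_generator (α := Fˣ)
    have hord : orderOf u = Fintype.card F - 1 := by
      rw [orderOf_eq_card_of_forall_mem_zpowers hu, Nat.card_units, Nat.card_eq_fintype_card]
    have hlt : 2 ^ (2 * k + 1) < Fintype.card F := hF ▸ Nat.pow_lt_pow_right one_lt_two (by omega)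
    have hpos : 2 ≤ 2 ^ (2 * k + 1) := Nat.le_self_pow (by omega) 2
    have h2 : u ^ (2 ^ (2 * k + 1) - 1) = 1 := by
      refine mul_right_cancel (b := u) ?_
      rw [one_mul, ← pow_succ, Nat.sub_add_cancel (by omega)]
      exact Units.ext (by push_cast; exact hall _)
    have := Nat.le_of_dvd (by omega) (orderOf_dvd_of_pow_eq_one h2)
    omega
  have hfo : orderOf f = 3 := orderOf_eq_prime hf3 hf1
  have hzp : τ ∈ zpowers f := by
    classical
    haveI : Finite (RingAut F) := Finite.of_equiv _ e.symm.toEquiv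
    haveI := Fintype.ofFinite (RingAut F)
    have hle := IsCyclic.card_pow_eq_one_le (α := RingAut F) (n := 3) (by norm_num)
    have hsub : (zpowers f : Set (RingAut F)).toFinset ⊆ Finset.univ.filter (fun a => a ^ 3 = 1) := fun a ha => by
      rw [Set.mem_toFinset, SetLike.mem_coe] at ha
      obtain ⟨j, rfl⟩ := mem_zpowers_iff.1 ha
      rw [Finset.mem_filter]
      exact ⟨Finset.mem_univ _, by rw [← zpow_natCast, ← zpow_mul, mul_comm, zpow_mul, zpow_natCast, hf3, one_zpow]⟩
    have hcard : (zpowers f : Set (RingAut F)).toFinset.card = 3 := by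
      rw [Set.toFinset_card, ← Nat.card_eq_fintype_card]
      exact (Nat.card_zpowers f).trans hfo
    have hmem : τ ∈ Finset.univ.filter (fun a => a ^ 3 = 1) := Finset.mem_filter.2 ⟨Finset.mem_univ _, hτ3⟩
    rw [← Finset.eq_of_subset_of_card_le hsub (by rw [hcard]; exact hle), Set.mem_toFinset] at hmem
    exact hmem
  obtain ⟨i, hi⟩ := mem_zpowers_iff.1 hzp
  have hfix : ∀ x ∈ SubSz hm hF (2 * k + 1), fieldHom hm hF τ x = x := by
    intro x hx
    have hstab : fieldHom hm hF f ∈ MulAction.stabilizer (MulAut (Cfsg.Sz F m)) x := hx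
    rw [← hi, map_zpow]
    exact zpow_mem hstab i
  haveI : Group.IsSolvable (SubSz hm hF (2 * k + 1)) := by
    haveI := hsol ((SubSz hm hF (2 * k + 1)).map g⁻¹.toMonoidHom) fun z hz => by
      obtain ⟨x, hx, rfl⟩ := hz
      have := hfix x hx
      rw [hτ] at this
      show θ (g⁻¹ x) = g⁻¹ x
      exact g.injective (by rw [show g (g⁻¹ x) = x from g.apply_symm_apply x]; exact this)
    exact Group.isSolvable_of_isSolvable_injective
      (f := ((SubSz hm hF (2 * k + 1)).equivMapOfInjective g⁻¹.toMonoidHom (g⁻¹).injective).toMonoidHom) (MulEquiv.injective _)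
  have hdiv : 2 * k + 1 ∣ 2 * m + 1 := ⟨3, by omega⟩
  let K := GaloisField 2 (2 * k + 1)
  haveI : Fintype K := Fintype.ofFinite K
  have hK : Fintype.card K = 2 ^ (2 * k + 1) := by
    rw [← Nat.card_eq_fintype_card]; exact GaloisField.card 2 _ (by omega)
  obtain ⟨φ, hφ, he⟩ := exists_embed (K := K) hm hF hK hdiv hk
  exact not_solvable hk hK (Group.isSolvable_of_isSolvable_injective
    (f := φ.codRestrict (SubSz hm hF (2 * k + 1)) fun x => he ▸ ⟨x, rfl⟩)
    fun a b h => hφ (congrArg Subtype.val h))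

end Suzuki

variable {G : Type u} [Group G] [Finite G]

theorem quotient_noncomm {K : Subgroup G} (hK : Cfsg.IsComponent K) :
    ¬ IsMulCommutative (K ⧸ center K) := by
  haveI := hK.2.2
  haveI : Group.IsPerfect K := hK.2.1
  intro h
  have h1 : commutator (K ⧸ center K) = ⊥ := by
    rw [_root_.commutator_def, commutator_eq_bot_iff_le_centralizer]
    exact fun a _ => mem_centralizer_iff.2 fun b _ => isMulCommutative_iff.1 h b a
  haveI : Nontrivial (K ⧸ center K) := IsSimpleGroup.toNontrivial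
  have h2 : commutator (K ⧸ center K) = ⊤ := by
    rw [← Subgroup.map_top_of_surjective (QuotientGroup.mk' (center K)) (QuotientGroup.mk'_surjective _),
      ← Group.isPerfect_def.1 (inferInstance : Group.IsPerfect K), _root_.commutator_def, _root_.commutator_def, map_commutator,
      Subgroup.map_top_of_surjective _ (QuotientGroup.mk'_surjective _)]
  exact top_ne_bot (α := Subgroup (K ⧸ center K)) (h2.symm.trans h1)

theorem mem_normalizer_of_solvable {K : Subgroup G} (hK : Cfsg.IsComponent K) {y : G} (hy : y ^ 3 = 1)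
    (hsol : Group.IsSolvable (centralizer ({y} : Set G))) : y ∈ normalizer (K : Set G) := by
  by_contra hne
  set c := MulAut.conj y
  have hc3 : ∀ x, c (c (c x)) = x := fun x => by
    show y * (y * (y * x * y⁻¹) * y⁻¹) * y⁻¹ = x
    rw [show y * (y * (y * x * y⁻¹) * y⁻¹) * y⁻¹ = (y * y * y) * x * (y * y * y)⁻¹ by group,
      show y * y * y = 1 by rw [← hy, pow_succ, pow_two]]
    group
  let L := K.map c.toMonoidHom
  have hL : Cfsg.IsComponent L := CfsgLib.Coprime.isComponent_map_equiv c hK
  let M := L.map c.toMonoidHom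
  have hM : Cfsg.IsComponent M := CfsgLib.Coprime.isComponent_map_equiv c hL
  have hne1 : K ≠ L := fun e => hne (mem_normalizer_fintype fun x hx => by
    rw [SetLike.mem_coe, e]; exact ⟨x, hx, rfl⟩)
  have hM3 : M.map c.toMonoidHom = K := by
    ext x
    constructor
    · rintro ⟨_, ⟨_, ⟨z, hz, rfl⟩, rfl⟩, rfl⟩
      show c (c (c z)) ∈ K
      rwa [hc3]
    · exact fun hx => ⟨c (c x), ⟨c x, ⟨x, hx, rfl⟩, rfl⟩, hc3 x⟩
  have hne2 : L ≠ M := fun e => hne1 (map_injective (f := c.toMonoidHom) c.injective e)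
  have hne3 : M ≠ K := fun e => hne2 (map_injective (f := c.toMonoidHom) c.injective
    (show L.map c.toMonoidHom = M.map c.toMonoidHom by rw [hM3, show L.map c.toMonoidHom = M from rfl, e]))
  have hcomm : ∀ {P Q : Subgroup G}, Cfsg.IsComponent P → Cfsg.IsComponent Q → P ≠ Q →
      ∀ a ∈ P, ∀ b ∈ Q, a * b = b * a := fun hP hQ hPQ a ha b hb =>
    (mem_centralizer_iff.1 ((commutator_eq_bot_iff_le_centralizer.1
      (CfsgLib.Coprime.components_commute hP hQ hPQ)) ha) b hb).symm
  have hmemL : ∀ k : K, c k ∈ L := fun k => ⟨k, k.2, rfl⟩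
  have hmemM : ∀ k : K, c (c k) ∈ M := fun k => ⟨c k, hmemL k, rfl⟩
  let f : K →* centralizer ({y} : Set G) := MonoidHom.mk'
    (fun k => ⟨(k : G) * c k * c (c k), mem_centralizer_singleton_iff.2 (by
      have h1 : c ((k : G) * c k * c (c k)) = (k : G) * c k * c (c k) := by
        rw [map_mul, map_mul, hc3, mul_assoc (c (k : G)), ← hcomm hK hM hne3.symm k k.2 _ (hmemM k),
          ← mul_assoc, ← hcomm hK hL hne1 k k.2 _ (hmemL k)]
      have h2 : y * ((k : G) * c k * c (c k)) * y⁻¹ = (k : G) * c k * c (c k) := h1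
      exact (mul_inv_eq_iff_eq_mul.1 h2).symm)⟩)
    fun a b => Subtype.ext (by
      show ((a * b : K) : G) * c (a * b : K) * c (c (a * b : K)) = _ * _
      simp only [Subgroup.coe_mul, map_mul]
      calc (a : G) * b * (c a * c b) * (c (c a) * c (c b))
          = (a : G) * (b * c a) * c b * c (c a) * c (c b) := by group
        _ = (a : G) * (c a * b) * c b * c (c a) * c (c b) := by rw [hcomm hK hL hne1 b b.2 _ (hmemL a)]
        _ = (a : G) * c a * (b * (c b * c (c a))) * c (c b) := by group
        _ = (a : G) * c a * (b * (c (c a) * c b)) * c (c b) := by rw [hcomm hL hM hne2 _ (hmemL b) _ (hmemM a)]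
        _ = (a : G) * c a * (b * c (c a)) * c b * c (c b) := by group
        _ = (a : G) * c a * (c (c a) * b) * c b * c (c b) := by rw [hcomm hK hM hne3.symm b b.2 _ (hmemM a)]
        _ = _ := by group)
  have hker : f.ker ≤ center K := by
    intro k hk
    have e : (k : G) * c k * c (c k) = 1 := congrArg Subtype.val hk
    refine mem_center_iff.2 fun x => Subtype.ext ?_
    show (x : G) * k = k * x
    have e' : (k : G) = (c k * c (c k))⁻¹ := eq_inv_of_mul_eq_one_left (by rw [← mul_assoc]; exact e)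
    have hx1 : Commute (x : G) (c k * c (c k)) :=
      (Commute.mul_right (hcomm hK hL hne1 x x.2 _ (hmemL k)) (hcomm hK hM hne3.symm x x.2 _ (hmemM k)))
    rw [e']
    exact hx1.inv_right.eq
  haveI := hsol
  haveI : Group.IsSolvable (center K) := Group.isSolvable_of_comm fun a b => Subtype.ext (mem_center_iff.1 b.2 a.1)
  haveI : Group.IsSolvable K := by
    have : Group.IsSolvable f.ker :=
      Group.isSolvable_of_isSolvable_injective (f := Subgroup.inclusion hker) (inclusion_injective hker)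
    rw [Group.isSolvable_iff_subgroup_quotient f.ker]
    exact ⟨this, Group.isSolvable_of_isSolvable_injective (f := QuotientGroup.kerLift f)
      (QuotientGroup.kerLift_injective f)⟩
  haveI := hK.2.2
  haveI : Group.IsSolvable (K ⧸ center K) := inferInstance
  exact quotient_noncomm hK (isMulCommutative_iff.2 fun a b => IsSimpleGroup.comm_iff_isSolvable.2 inferInstance a b)

/-- The statement of S2976, given Goldschmidt's theorem. -/
theorem suzuki_eight_component
    (hgold : ∀ (X : Type u) [Group X] [Finite X] [IsSimpleGroup X] (S : Sylow 2 X) (A : Subgroup X), A ≠ ⊥ →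
      IsMulCommutative A → Cfsg.IsStronglyClosed A (S : Subgroup X) →
      IsMulCommutative (S : Subgroup X) ∨ ∃ H : Subgroup X, Cfsg.IsStronglyEmbedded H)
    (K : Subgroup G) (hK : Cfsg.IsComponent K) (h3 : ¬ 3 ∣ Nat.card ↥K) (y : G) (hy : orderOf y = 3)
    (hsol : Group.IsSolvable ↥(centralizer ({y} : Set G))) :
    (∃ (F : Type) (_ : Field F) (_ : Fintype F), Fintype.card F = 8 ∧
        Nonempty (↥K ⧸ center ↥K ≃* ↥(Cfsg.Lie.Sz F 4))) ∧
      y ∈ normalizer (K : Set G) ∧ (Cfsg.pCore 2 G = ⊥ → IsSimpleGroup ↥K) := by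
  haveI := Fact.mk Nat.prime_two
  have hy3 : y ^ 3 = 1 := hy ▸ pow_orderOf_eq_one y
  have hyN := mem_normalizer_of_solvable hK hy3 hsol
  haveI := hK.2.2
  obtain ⟨F, iF, iF', m, hm, hF, ⟨e⟩⟩ := CfsgLib.Gold.FourFreeList.isoSuzuki_of_prime_to_three
    (hgold (K ⧸ center K)) (quotient_noncomm hK) fun h => h3 (h.trans (card_quotient_dvd_card _))
  obtain ⟨e'⟩ := CfsgLib.Lie.Suz.exists_twEquiv (F := F) hm hF
  let ε : K ⧸ center K ≃* Cfsg.Sz F m := e.trans e'.symm
  let α : MulAut K := K.normalizerMonoidHom ⟨y, hyN⟩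
  have hα : ∀ x : K, ((α x : K) : G) = y * x * y⁻¹ := fun x => rfl
  let αq : MulAut (K ⧸ center K) := QuotientGroup.congr (center K) (center K) α
    (characteristic_iff_map_eq.1 (inferInstance : (center K).Characteristic) α)
  let θ : MulAut (Cfsg.Sz F m) := (ε.symm.trans αq).trans ε
  have hθ : θ ^ 3 = 1 := MulEquiv.ext fun z => by
    obtain ⟨x, hx⟩ := QuotientGroup.mk'_surjective (center K) (ε.symm z)
    show θ (θ (θ z)) = z
    have hstep : ∀ w : K, θ (ε (QuotientGroup.mk' _ w)) = ε (QuotientGroup.mk' _ (α w)) := fun w => by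
      show ε (αq (ε.symm (ε _))) = _
      rw [ε.symm_apply_apply]; rfl
    have hz : z = ε (QuotientGroup.mk' _ x) := by rw [hx, ε.apply_symm_apply]
    rw [hz, hstep, hstep, hstep]
    congr 2
    refine Subtype.ext ?_
    rw [hα, hα, hα]
    rw [show y * (y * (y * (x : G) * y⁻¹) * y⁻¹) * y⁻¹ = (y * y * y) * x * (y * y * y)⁻¹ by group,
      show y * y * y = 1 by rw [← hy3, pow_succ, pow_two]]
    group
  have hm1 : m = 1 := eq_one_of_solvable hm hF hθ fun L hL => by
    let P : Subgroup K := L.comap (ε.toMonoidHom.comp (QuotientGroup.mk' (center K)))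
    have hP : ∀ x : P, (x : K)⁻¹ * α x ∈ center K := fun x => by
      have h1 := hL _ x.2
      have h2 : ε (QuotientGroup.mk' (center K) (α x)) = ε (QuotientGroup.mk' (center K) x) := by
        refine Eq.trans ?_ h1
        show _ = ε (αq (ε.symm (ε _)))
        rw [ε.symm_apply_apply]; rfl
      exact QuotientGroup.eq.1 (ε.injective h2).symm
    let ψ : P →* center K := MonoidHom.mk' (fun x => ⟨(x : K)⁻¹ * α x, hP x⟩) fun a b => Subtype.ext (by
      show ((a * b : P) : K)⁻¹ * α ((a * b : P) : K) = (a : K)⁻¹ * α a * ((b : K)⁻¹ * α b)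
      rw [Subgroup.coe_mul, map_mul, mul_inv_rev]
      rw [show (b : K)⁻¹ * (a : K)⁻¹ * (α a * α b) = (b : K)⁻¹ * ((a : K)⁻¹ * α a) * α b by group,
        mem_center_iff.1 (hP a) (b : K)⁻¹]
      group)
    haveI : Group.IsSolvable (center K) :=
      Group.isSolvable_of_comm fun a b => Subtype.ext (mem_center_iff.1 b.2 a.1)
    haveI := hsol
    haveI : Group.IsSolvable ψ.ker := by
      let ι : ψ.ker →* centralizer ({y} : Set G) :=
        ((K.subtype.comp P.subtype).comp ψ.ker.subtype).codRestrict _ fun x => by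
          have h1 : ((x : P) : K)⁻¹ * α (x : P) = 1 := congrArg Subtype.val x.2
          have h2 : y * (((x : P) : K) : G) * y⁻¹ = (((x : P) : K) : G) :=
            (hα _).symm.trans (congrArg Subtype.val (inv_mul_eq_one.1 h1).symm)
          exact mem_centralizer_singleton_iff.2 (mul_inv_eq_iff_eq_mul.1 h2).symm
      exact Group.isSolvable_of_isSolvable_injective (f := ι) fun a b h => by
        have := congrArg (fun z : centralizer ({y} : Set G) => (z : G)) h
        exact Subtype.ext (Subtype.ext (Subtype.ext this))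
    haveI : Group.IsSolvable P := by
      rw [Group.isSolvable_iff_subgroup_quotient ψ.ker]
      exact ⟨inferInstance, Group.isSolvable_of_isSolvable_injective (f := QuotientGroup.kerLift ψ)
        (QuotientGroup.kerLift_injective ψ)⟩
    exact Group.isSolvable_of_surjective
      (f := ((ε.toMonoidHom.comp (QuotientGroup.mk' (center K))).comp P.subtype).codRestrict L fun x => x.2)
      fun z => by
        obtain ⟨x, hx⟩ := (ε.surjective.comp (QuotientGroup.mk'_surjective (center K))) z
        exact ⟨⟨x, show ε (QuotientGroup.mk' _ x) ∈ L by rw [show ε _ = _ from hx]; exact z.2⟩, Subtype.ext hx⟩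
  subst hm1
  have hF8 : Fintype.card F = 8 := by rw [hF]; norm_num
  refine ⟨⟨F, iF, iF', hF8, ⟨e⟩⟩, hyN, fun hO => ?_⟩
  have hperf : commutator K = ⊤ := Group.isPerfect_def.1 hK.2.1
  have hdvd := CfsgLib.Gold.card_center_dvd (Cfsg.Agent.S2112.result hF8) hperf e
  rw [Nat.card_congr Multiplicative.toAdd, Nat.card_prod, Nat.card_zmod] at hdvd
  have hp : IsPGroup 2 ((center K).map K.subtype) := by
    obtain ⟨i, -, hi⟩ := (Nat.dvd_prime_pow Nat.prime_two).1 (show Nat.card (center K) ∣ 2 ^ 2 from hdvd)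
    exact IsPGroup.of_card (n := i) (by rw [card_map_of_injective K.subtype_injective, hi])
  have hsub : ((center K).map K.subtype).IsSubnormal :=
    (Subgroup.Normal.isSubnormal (inferInstance : (center K).Normal)).trans' hK.1
  have hZ : center K = ⊥ := (map_eq_bot_iff_of_injective _ K.subtype_injective).1
    (le_bot_iff.1 (hO ▸ CfsgLib.Coprime.le_pCore_of_isSubnormal hsub hp))
  exact ((QuotientGroup.quotientMulEquivOfEq hZ).trans QuotientGroup.quotientBot).symm.isSimpleGroup

end CfsgLib.Gold.ComponentThree
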