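import Cfsg.Agent.S1927
import Cfsg.Agent.Lib.Bender.Suzuki.Classified
import Cfsg.Agent.Lib.Bender.Binary.Models
import Cfsg.Agent.Lib.Walter.Main
import Cfsg.Agent.Lib.Walter.Consumers.ReeType
import Cfsg.Agent.Lib.Invol.TICyclic.Converse
import Cfsg.Agent.Lib.Invol.StronglyEmbedded
import Cfsg.Prelude.Def_LocalEven

/-!
# Simple groups without `S₄` are the Goldschmidt groups

One direction is the subgroup controlling fusion of S1927 and Goldschmidt's theorem. Conversely an abelian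
Sylow `2`-subgroup has no `D₈` section, and in a group with a strongly embedded subgroup every `2`-local
subgroup has a normal Sylow `2`-subgroup, which `S₄` has not.
-/

set_option autoImplicit false
set_option linter.style.haveILetI false
set_option linter.unusedSectionVars false

namespace CfsgLib.Gold.FourFreeList

open Subgroup

universe u

variable {G : Type u} [Group G] [Finite G]

theorem four_noncomm : ¬ IsMulCommutative (Equiv.Perm (Fin 4)) := fun h => by
  have := isMulCommutative_iff.1 h (Equiv.swap 0 1) (Equiv.swap 1 2)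
  exact absurd this (by decide)

/-- A Sylow `2`-subgroup of `S₄` is not abelian. -/
theorem sylow_four_noncomm (P : Sylow 2 (Equiv.Perm (Fin 4))) :
    ¬ IsMulCommutative (P : Subgroup (Equiv.Perm (Fin 4))) := by
  haveI : Fact (Nat.Prime 2) := ⟨Nat.prime_two⟩
  intro h
  let a : Equiv.Perm (Fin 4) := Equiv.swap 0 1 * Equiv.swap 1 2 * Equiv.swap 2 3
  let b : Equiv.Perm (Fin 4) := Equiv.swap 1 3
  have hsub : IsPGroup 2 (Subgroup.closure ({a, b} : Set (Equiv.Perm (Fin 4)))) := by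
    have hn : zpowers b ≤ normalizer ((zpowers a : Subgroup (Equiv.Perm (Fin 4))) : Set (Equiv.Perm (Fin 4))) := by
      refine zpowers_le.2 (mem_normalizer_fintype fun x hx => ?_)
      obtain ⟨i, hi, rfl⟩ : ∃ i < 4, a ^ i = x := by
        obtain ⟨i, rfl⟩ := (mem_powers_iff_mem_zpowers.2 hx)
        have ha : orderOf a ∣ 4 := orderOf_dvd_of_pow_eq_one (by decide)
        refine ⟨i % 4, Nat.mod_lt _ (by norm_num), ?_⟩
        exact pow_eq_pow_iff_modEq.2 ((Nat.mod_modEq i 4).of_dvd ha)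
      rw [← conj_pow, show b * a * b⁻¹ = a ^ 3 by decide]
      exact pow_mem (pow_mem (mem_zpowers a) 3) i
    have h1 : IsPGroup 2 (zpowers a) := IsPGroup.iff_orderOf.2 fun x => by
      obtain ⟨k, -, hk⟩ := (Nat.dvd_prime_pow Nat.prime_two).1
        ((orderOf_dvd_natCard x).trans
          (show Nat.card (zpowers a) ∣ 2 ^ 2 by
            rw [Nat.card_zpowers]; exact orderOf_dvd_of_pow_eq_one (by decide)))
      exact ⟨k, hk⟩
    have h2 : IsPGroup 2 (zpowers b) :=
      IsPGroup.of_card (n := 1) (by rw [Nat.card_zpowers, pow_one]; exact orderOf_eq_prime (by decide) (by decide))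
    refine (h1.to_sup_of_normal_left' h2 hn).to_le ((closure_le _).2 ?_)
    rintro x (rfl | rfl)
    · exact mem_sup_left (mem_zpowers _)
    · exact mem_sup_right (mem_zpowers _)
  obtain ⟨Q, hQ⟩ := hsub.exists_le_sylow
  let e := Sylow.equiv Q P
  have hc := isMulCommutative_iff.1 h (e ⟨a, hQ (subset_closure (Set.mem_insert _ _))⟩)
    (e ⟨b, hQ (subset_closure (Set.mem_insert_of_mem _ rfl))⟩)
  rw [← map_mul, ← map_mul] at hc
  have hab : a * b = b * a := congrArg Subtype.val (e.injective hc)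
  exact absurd hab (by decide)

/-- A Sylow `2`-subgroup of `S₄` is not normal. -/
theorem sylow_four_not_normal (P : Sylow 2 (Equiv.Perm (Fin 4))) :
    ¬ (P : Subgroup (Equiv.Perm (Fin 4))).Normal := by
  haveI : Fact (Nat.Prime 2) := ⟨Nat.prime_two⟩
  intro hn
  haveI := Sylow.unique_of_normal P hn
  have hall : ∀ x : Equiv.Perm (Fin 4), x ^ 2 = 1 → x ∈ (P : Subgroup (Equiv.Perm (Fin 4))) := by
    intro x hx
    obtain ⟨Q, hQ⟩ := (IsPGroup.iff_orderOf.2 fun y : zpowers x => by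
      obtain ⟨k, -, hk⟩ := (Nat.dvd_prime_pow Nat.prime_two).1
        ((orderOf_dvd_natCard y).trans (show Nat.card (zpowers x) ∣ 2 ^ 1 by
          rw [Nat.card_zpowers, pow_one]; exact orderOf_dvd_of_pow_eq_one hx))
      exact ⟨k, hk⟩ : IsPGroup 2 (zpowers x)).exists_le_sylow
    exact Subsingleton.elim Q P ▸ hQ (mem_zpowers x)
  obtain ⟨k, hk⟩ := IsPGroup.iff_orderOf.1 P.2 ⟨Equiv.swap 0 1 * Equiv.swap 1 2,
    mul_mem (hall _ (by decide)) (hall _ (by decide))⟩
  have h3 : orderOf (Equiv.swap 0 1 * Equiv.swap 1 2 : Equiv.Perm (Fin 4)) = 3 :=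
    haveI : Fact (Nat.Prime 3) := ⟨Nat.prime_three⟩
    orderOf_eq_prime (by decide) (by decide)
  rw [Subgroup.orderOf_mk, h3] at hk
  rcases k with _ | k
  · norm_num at hk
  · rw [pow_succ] at hk
    omega

/-- An abelian Sylow `2`-subgroup leaves no room for `S₄`. -/
theorem not_involves_of_abTwo (h : CfsgLib.Walter.AbTwo G) : ¬ Cfsg.Involves (Equiv.Perm (Fin 4)) G := by
  haveI : Fact (Nat.Prime 2) := ⟨Nat.prime_two⟩
  rintro ⟨K, R, hR, ⟨e⟩⟩
  let φ : K →* Equiv.Perm (Fin 4) := e.toMonoidHom.comp (QuotientGroup.mk' (R.subgroupOf K))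
  have hφ : Function.Surjective φ := e.surjective.comp (QuotientGroup.mk'_surjective _)
  obtain ⟨P⟩ : Nonempty (Sylow 2 K) := inferInstance
  obtain ⟨Q, hQ⟩ := (P.2.map K.subtype).exists_le_sylow
  refine sylow_four_noncomm (P.mapSurjective hφ) (isMulCommutative_iff.2 ?_)
  rintro ⟨_, x, hx, rfl⟩ ⟨_, y, hy, rfl⟩
  refine Subtype.ext ?_
  show φ x * φ y = φ y * φ x
  rw [← map_mul, ← map_mul]
  congr 1
  exact Subtype.ext (congrArg Subtype.val
    (h Q ⟨(x : G), hQ (mem_map_of_mem _ hx)⟩ ⟨(y : G), hQ (mem_map_of_mem _ hy)⟩) :)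

/-- A strongly embedded subgroup contains the normalizers of its nontrivial `2`-subgroups. -/
theorem normalizer_le {M P : Subgroup G} (hM : Cfsg.IsStronglyEmbedded M) (hP : IsPGroup 2 P) (hPM : P ≤ M)
    (hP1 : P ≠ ⊥) : normalizer (P : Set G) ≤ M := by
  haveI : Fact (Nat.Prime 2) := ⟨Nat.prime_two⟩
  intro g hg
  obtain ⟨k, hk⟩ := IsPGroup.iff_card.1 hP
  have hk0 : k ≠ 0 := fun h => hP1 (Subgroup.card_eq_one.1 (by rw [hk, h, pow_zero]))
  obtain ⟨t, ht⟩ := exists_prime_orderOf_dvd_card' (G := P) 2 (by rw [hk]; exact dvd_pow_self 2 hk0)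
  rw [← Subgroup.orderOf_coe] at ht
  exact (CfsgLib.Invol.stronglyEmbedded_iff hM.1 hM.2.1).1 hM t (hPM t.2) ht g
    (hPM ((mem_normalizer_iff.1 hg t).1 t.2))

/-- A strongly embedded subgroup leaves no room for `S₄`. -/
theorem not_involves_of_se [IsSimpleGroup G] {M : Subgroup G} (hM : Cfsg.IsStronglyEmbedded M) :
    ¬ Cfsg.Involves (Equiv.Perm (Fin 4)) G := by
  haveI : Fact (Nat.Prime 2) := ⟨Nat.prime_two⟩
  classical
  have hcore : M.normalCore = ⊥ :=
    (inferInstance : M.normalCore.Normal).eq_bot_or_eq_top.resolve_right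
      fun h => hM.1 (top_le_iff.1 (h ▸ M.normalCore_le))
  obtain ⟨Q, hQM, hMQ, hQ2, hreg⟩ := CfsgLib.Bender.Full.fullStatement G M hM hcore
    (CfsgLib.Bender.Full.hasPair_of_simple hM)
  obtain ⟨g, hg⟩ : ∃ g : G, g ∉ M := by
    by_contra h
    push Not at h
    exact hM.1 ((eq_top_iff' M).2 h)
  -- `M = Q D` with `D` of odd order
  have hsub : ∀ h ∈ M, ∃ x ∈ Q, Odd (orderOf (x⁻¹ * h)) := by
    intro h hh
    have hk : h * g ∉ M := fun hc => hg ((mul_mem_cancel_left hh).1 hc)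
    obtain ⟨x, ⟨hxQ, hx⟩, -⟩ := hreg g (h * g) hg hk
    refine ⟨x, hxQ, ?_⟩
    have h1 : x⁻¹ * h ∈ M ⊓ M.map (MulAut.conj g).toMonoidHom := by
      refine ⟨M.mul_mem (M.inv_mem (hQM hxQ)) hh, (mem_map).2 ⟨((h * g)⁻¹ * (x * g))⁻¹, M.inv_mem hx, ?_⟩⟩
      show g * _ * g⁻¹ = _
      group
    have h2 := orderOf_dvd_natCard (⟨x⁻¹ * h, h1⟩ : ↥(M ⊓ M.map (MulAut.conj g).toMonoidHom))
    rw [Subgroup.orderOf_mk] at h2
    exact (hM.2.2 g hg).of_dvd_nat h2
  rintro ⟨K, R, hR, ⟨e⟩⟩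
  let φ : K →* Equiv.Perm (Fin 4) := e.toMonoidHom.comp (QuotientGroup.mk' (R.subgroupOf K))
  have hφ : Function.Surjective φ := e.surjective.comp (QuotientGroup.mk'_surjective _)
  let W : Subgroup (Equiv.Perm (Fin 4)) := Subgroup.closure
    {Equiv.swap 0 1 * Equiv.swap 2 3, Equiv.swap 0 2 * Equiv.swap 1 3}
  have hW4 : ∀ x : Equiv.Perm (Fin 4), x ∈ W ↔ x = 1 ∨ x = Equiv.swap 0 1 * Equiv.swap 2 3 ∨
      x = Equiv.swap 0 2 * Equiv.swap 1 3 ∨ x = Equiv.swap 0 3 * Equiv.swap 1 2 := by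
    intro x
    constructor
    · intro hx
      induction hx using Subgroup.closure_induction with
      | mem y hy => rcases hy with rfl | rfl <;> tauto
      | one => exact Or.inl rfl
      | mul y z _ _ hy hz => rcases hy with rfl | rfl | rfl | rfl <;> rcases hz with rfl | rfl | rfl | rfl <;> decide
      | inv y _ hy => rcases hy with rfl | rfl | rfl | rfl <;> decide
    · rintro (rfl | rfl | rfl | rfl)
      · exact one_mem _
      · exact subset_closure (Set.mem_insert _ _)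
      · exact subset_closure (Set.mem_insert_of_mem _ rfl)
      · rw [show (Equiv.swap 0 3 * Equiv.swap 1 2 : Equiv.Perm (Fin 4)) =
          (Equiv.swap 0 1 * Equiv.swap 2 3) * (Equiv.swap 0 2 * Equiv.swap 1 3) by decide]
        exact mul_mem (subset_closure (Set.mem_insert _ _)) (subset_closure (Set.mem_insert_of_mem _ rfl))
  haveI hWn : W.Normal := ⟨fun x hx y => by
    rw [hW4] at hx ⊢
    rcases hx with rfl | rfl | rfl | rfl
    · exact Or.inl (by rw [mul_one, mul_inv_cancel])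
    all_goals revert y; decide⟩
  obtain ⟨P⟩ : Nonempty (Sylow 2 (W.comap φ)) := inferInstance
  set P₁ : Subgroup K := (P : Subgroup ↥(W.comap φ)).map (W.comap φ).subtype with hP₁
  set N : Subgroup K := normalizer (P₁ : Set K)
  have hN : N ⊔ W.comap φ = ⊤ := Sylow.normalizer_sup_eq_top P
  have himg : W ≤ P₁.map φ := by
    have hWp : IsPGroup 2 W := IsPGroup.iff_orderOf.2 fun x => by
      have h2 : (x : Equiv.Perm (Fin 4)) ^ 2 = 1 := by
        rcases (hW4 x).1 x.2 with h | h | h | h <;> rw [h] <;> decide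
      obtain ⟨k, -, hk⟩ := (Nat.dvd_prime_pow Nat.prime_two).1
        ((orderOf_dvd_of_pow_eq_one h2).trans (dvd_of_eq (pow_one 2).symm))
      exact ⟨k, by rw [← Subgroup.orderOf_coe]; exact hk⟩
    let ψ : ↥(W.comap φ) →* W := (φ.comp (W.comap φ).subtype).codRestrict W fun z => z.2
    have hψ : Function.Surjective ψ := fun w => by
      obtain ⟨z, hz⟩ := hφ w
      exact ⟨⟨z, show φ z ∈ W from hz ▸ w.2⟩, Subtype.ext hz⟩
    have htop : ((P.mapSurjective hψ : Sylow 2 W) : Subgroup W) = ⊤ :=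
      ((P.mapSurjective hψ).3 (hWp.to_subgroup ⊤) le_top).symm
    intro w hw
    obtain ⟨z, hz, hzw⟩ : (⟨w, hw⟩ : W) ∈ ((P.mapSurjective hψ : Sylow 2 W) : Subgroup W) := htop ▸ mem_top _
    exact ⟨(z : K), mem_map_of_mem _ hz, congrArg Subtype.val hzw⟩
  have hNtop : N.map φ = ⊤ := by
    have h1 : N.map φ ⊔ (W.comap φ).map φ = ⊤ := by
      rw [← Subgroup.map_sup, hN, ← MonoidHom.range_eq_map]
      exact MonoidHom.range_eq_top.2 hφ
    exact top_le_iff.1 (h1 ▸ sup_le le_rfl ((map_comap_le _ _).trans (himg.trans (map_mono le_normalizer))))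
  -- the image of `P₁` in `G`, moved into `M`
  obtain ⟨T, hT⟩ := ((P.2.map (W.comap φ).subtype).map K.subtype).exists_le_sylow
  have hP1 : P₁.map K.subtype ≠ ⊥ := fun h0 => by
    rw [map_eq_bot_iff_of_injective _ K.subtype_injective] at h0
    rw [h0, Subgroup.map_bot, le_bot_iff] at himg
    have : (Equiv.swap 0 1 * Equiv.swap 2 3 : Equiv.Perm (Fin 4)) ∈ W := subset_closure (Set.mem_insert _ _)
    rw [himg, mem_bot] at this
    exact absurd this (by decide)
  obtain ⟨T', hT'⟩ : ∃ T' : Sylow 2 G, (T' : Subgroup G) ≤ M := by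
    obtain ⟨T', hT'⟩ := (hQ2.to_le le_rfl).exists_le_sylow
    obtain ⟨P', hP'⟩ : ∃ P' : Sylow 2 M, True := ⟨Classical.choice inferInstance, trivial⟩
    obtain ⟨t, htM, hto⟩ : ∃ t ∈ M, orderOf t = 2 := by
      obtain ⟨t, ht⟩ := exists_prime_orderOf_dvd_card' (G := M) 2 (even_iff_two_dvd.1 hM.2.1)
      exact ⟨t, t.2, by rw [Subgroup.orderOf_coe]; exact ht⟩
    obtain ⟨U, hU⟩ := ((P'.2.map M.subtype)).exists_le_sylow
    refine ⟨U, ?_⟩
    by_contra hUM
    have hlt : (U : Subgroup G) ⊓ M < U := lt_of_le_of_ne inf_le_left fun h => hUM (h ▸ inf_le_right)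
    obtain ⟨n, hnU, hn, hnN⟩ : ∃ n ∈ (U : Subgroup G), n ∉ (U : Subgroup G) ⊓ M ∧
        n ∈ normalizer (((U : Subgroup G) ⊓ M : Subgroup G) : Set G) := by
      haveI : Group.IsNilpotent ↥(U : Subgroup G) := U.2.isNilpotent
      have hlt' : ((U : Subgroup G) ⊓ M).subgroupOf (U : Subgroup G) < ⊤ :=
        lt_top_iff_ne_top.2 fun h => hlt.ne (le_antisymm hlt.le (subgroupOf_eq_top.1 h))
      obtain ⟨n, hn1, hn2⟩ := SetLike.exists_of_lt (Group.normalizerCondition_of_isNilpotent _ hlt')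
      refine ⟨n, n.2, fun h => hn2 (mem_subgroupOf.2 h), mem_normalizer_fintype fun x hx => ?_⟩
      exact mem_subgroupOf.1 ((mem_normalizer_iff.1 hn1 ⟨x, hlt.le hx⟩).1 (mem_subgroupOf.2 hx))
    have hne : (U : Subgroup G) ⊓ M ≠ ⊥ := fun h0 => by
      have h1 : (P' : Subgroup M).map M.subtype ≤ ⊥ := h0 ▸ le_inf hU (map_subtype_le _)
      rw [le_bot_iff, map_eq_bot_iff_of_injective _ M.subtype_injective] at h1
      exact P'.not_dvd_index (by rw [h1, index_bot]; exact even_iff_two_dvd.1 hM.2.1)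
    exact hn ⟨hnU, normalizer_le hM (U.2.to_le inf_le_left) inf_le_right hne hnN⟩
  obtain ⟨c, hc⟩ := MulAction.exists_smul_eq G T T'
  set P₂ := (P₁.map K.subtype).map (MulAut.conj c).toMonoidHom with hP₂
  have hP₂M : P₂ ≤ M := by
    rintro _ ⟨x, hx, rfl⟩
    refine hT' ?_
    rw [← hc, Sylow.coe_subgroup_smul, mem_smul_pointwise_iff_exists]
    exact ⟨x, hT hx, rfl⟩
  have hNM : ∀ z ∈ N, c * (z : G) * c⁻¹ ∈ M := by
    intro z hz
    refine normalizer_le hM (((P.2.map _).map _).map _) hP₂M ?_ ?_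
    · rw [Ne, map_eq_bot_iff_of_injective _ (MulAut.conj c).injective]; exact hP1
    · refine mem_normalizer_fintype ?_
      rintro _ ⟨_, ⟨x, hx, rfl⟩, rfl⟩
      refine ⟨K.subtype (z * x * z⁻¹), mem_map_of_mem _ ((mem_normalizer_iff.1 hz x).1 hx), ?_⟩
      show c * ((z : G) * x * (z : G)⁻¹) * c⁻¹ = c * (z : G) * c⁻¹ * (c * x * c⁻¹) * (c * (z : G) * c⁻¹)⁻¹
      group
  -- pull `Q` back to a normal Sylow `2`-subgroup of `N`
  let ι : N →* G := ((MulAut.conj c).toMonoidHom.comp K.subtype).comp N.subtype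
  have hι : Function.Injective ι := ((MulAut.conj c).injective.comp K.subtype_injective).comp N.subtype_injective
  set Q₀ : Subgroup N := Q.comap ι
  have hQ₀ : IsPGroup 2 Q₀ := hQ2.comap_of_injective ι hι
  obtain ⟨U⟩ : Nonempty (Sylow 2 N) := inferInstance
  have hQ₀n : Q₀.Normal := ⟨fun x hx y => by
    show ι (y * x * y⁻¹) ∈ Q
    rw [map_mul, map_mul, map_inv]
    exact (mem_normalizer_iff.1 (hMQ (hNM _ y.2)) _).1 hx⟩
  have hodd : ∀ z : N, (∃ k, orderOf z = 2 ^ k) → z ∈ Q₀ := by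
    rintro z ⟨k, hk⟩
    obtain ⟨x, hx, hxo⟩ := hsub (ι z) (hNM _ z.2)
    show ι z ∈ Q
    haveI hQn : (Q.subgroupOf M).Normal := (normal_subgroupOf_iff_le_normalizer hQM).2 hMQ
    let π := QuotientGroup.mk' (Q.subgroupOf M)
    let zM : M := ⟨ι z, hNM _ z.2⟩
    let xM : M := ⟨x, hQM hx⟩
    have hxπ : π xM = 1 := (QuotientGroup.eq_one_iff xM).2 (mem_subgroupOf.2 hx)
    have heq : π zM = π (xM⁻¹ * zM) := by rw [map_mul, map_inv, hxπ, inv_one, one_mul]
    have h1 : orderOf (π zM) ∣ 2 ^ k := by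
      refine (orderOf_map_dvd _ zM).trans (dvd_of_eq ?_)
      rw [← Subgroup.orderOf_coe, show (zM : G) = ι z from rfl, orderOf_injective ι hι, hk]
    have h2 : Odd (orderOf (π zM)) := by
      rw [heq]
      refine Odd.of_dvd_nat ?_ (orderOf_map_dvd _ _)
      rw [← Subgroup.orderOf_coe]; exact hxo
    obtain ⟨j, -, hj⟩ := (Nat.dvd_prime_pow Nat.prime_two).1 h1
    rcases j with _ | j
    · rw [pow_zero, orderOf_eq_one_iff] at hj
      exact mem_subgroupOf.1 ((QuotientGroup.eq_one_iff zM).1 hj)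
    · rw [hj, pow_succ] at h2
      exact absurd h2 (by simp [parity_simps])
  have hU : (U : Subgroup N) = Q₀ := (U.3 hQ₀ fun z hz => hodd z (by
    obtain ⟨k, hk⟩ := IsPGroup.iff_orderOf.1 U.2 ⟨z, hz⟩
    exact ⟨k, by rwa [Subgroup.orderOf_mk] at hk⟩)).symm
  let χ : N →* Equiv.Perm (Fin 4) := φ.comp N.subtype
  have hχ : Function.Surjective χ := fun y => by
    obtain ⟨z, hz, rfl⟩ : y ∈ N.map φ := hNtop ▸ mem_top y
    exact ⟨⟨z, hz⟩, rfl⟩
  refine sylow_four_not_normal (U.mapSurjective hχ) ?_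
  exact Subgroup.Normal.map (hU ▸ hQ₀n) χ hχ

theorem abTwo_congr {H : Type u} [Group H] [Finite H] (e : G ≃* H) (h : CfsgLib.Walter.AbTwo H) :
    CfsgLib.Walter.AbTwo G :=
  CfsgLib.Walter.Rank.abTwo_of_injective e.toMonoidHom e.injective h

/-- Groups of Ree type have abelian Sylow `2`-subgroups. -/
theorem abTwo_of_isReeType (h : Cfsg.IsReeType G) : CfsgLib.Walter.AbTwo G := by
  haveI : Fact (Nat.Prime 2) := ⟨Nat.prime_two⟩
  obtain ⟨-, -, t, K, n, hn, ht, hodd, hdp, F, iF, iF', hF, ⟨e⟩⟩ := h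
  have hmod : Fintype.card F % 8 = 3 := by
    rw [hF, pow_succ, pow_mul, Nat.mul_mod, Nat.pow_mod]
    norm_num
  have h5 : 5 ≤ Fintype.card F := by
    have : (27 : ℕ) ≤ 3 ^ (2 * n + 1) := by
      calc (27 : ℕ) = 3 ^ 3 := by norm_num
        _ ≤ _ := Nat.pow_le_pow_right (by norm_num) (by omega)
    omega
  haveI : IsSimpleGroup (Matrix.ProjectiveSpecialLinearGroup (Fin 2) F) :=
    Matrix.ProjectiveSpecialLinearGroup.rank_two_simple (F := F) (by rw [Nat.card_eq_fintype_card]; omega)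
  haveI : IsSimpleGroup K := e.isSimpleGroup_congr.2 inferInstance
  have hKab : CfsgLib.Walter.AbTwo K := fun T a b => Subtype.ext (congrArg Subtype.val
    ((CfsgLib.Walter.Rank.sylow_isElementary inferInstance
      (Or.inl ⟨F, iF, iF', Or.inr ⟨h5, Or.inl hmod⟩, ⟨e⟩⟩) T).1.is_comm.comm a b) :)
  obtain ⟨P⟩ : Nonempty (Sylow 2 (centralizer ({t} : Set G))) := inferInstance
  have hPS : IsPGroup 2 ((P : Subgroup (centralizer ({t} : Set G))).map (centralizer ({t} : Set G)).subtype) :=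
    P.2.map _
  obtain ⟨S, hS⟩ := hPS.exists_le_sylow
  have hSP : (S : Subgroup G) = (P : Subgroup _).map (centralizer ({t} : Set G)).subtype := by
    refine (Subgroup.eq_of_le_of_card_ge hS (Nat.le_of_dvd Nat.card_pos ?_)).symm
    rw [card_map_of_injective (centralizer _).subtype_injective, P.card_eq_multiplicity,
      S.card_eq_multiplicity]
    refine pow_dvd_pow 2 ?_
    rw [← (centralizer ({t} : Set G)).card_mul_index, Nat.factorization_mul Nat.card_pos.ne'
      index_ne_zero_of_finite, Finsupp.add_apply,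
      Nat.factorization_eq_zero_of_not_dvd (n := (centralizer ({t} : Set G)).index)
        (by rw [← even_iff_two_dvd]; exact Nat.not_even_iff_odd.2 hodd), add_zero]
  refine CfsgLib.Walter.abTwo_of_sylow S (isMulCommutative_iff.2 ?_)
  obtain ⟨hAle, hKle, hcomm, hinf, hsup⟩ := hdp
  have htC : t ∈ centralizer ({t} : Set G) := mem_centralizer_singleton_iff.2 rfl
  have htS : t ∈ (S : Subgroup G) := by
    have hsub : IsPGroup 2 ((P : Subgroup _) ⊔ zpowers (⟨t, htC⟩ : centralizer ({t} : Set G)) : Subgroup _) := by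
      refine P.2.to_sup_of_normal_right' (IsPGroup.of_card (n := 1) (by
        rw [Nat.card_zpowers, Subgroup.orderOf_mk, ht, pow_one])) fun x _ => ?_
      refine CfsgLib.Coprime.centralizer_le_normalizer_self _ (mem_centralizer_iff.2 ?_)
      rintro _ ⟨i, rfl⟩
      exact ((show Commute x ⟨t, htC⟩ from Subtype.ext (mem_centralizer_singleton_iff.1 x.2)).zpow_right i).eq.symm
    rw [hSP]
    exact ⟨⟨t, htC⟩, P.3 hsub le_sup_left ▸ mem_sup_right (mem_zpowers _), rfl⟩
  have hsplit : ∀ s ∈ (S : Subgroup G), ∃ i : ℤ, ∃ k ∈ K, k ∈ (S : Subgroup G) ∧ s = t ^ i * k := by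
    intro s hs
    have hsC : s ∈ zpowers t ⊔ K := by
      rw [hsup]; rw [hSP] at hs; obtain ⟨z, -, rfl⟩ := hs; exact z.2
    obtain ⟨a, ha, k, hk, rfl⟩ := CfsgLib.Coprime.mem_sup_exists
      (fun x hx => CfsgLib.Coprime.centralizer_le_normalizer_self _
        (mem_centralizer_iff.2 fun y hy => hcomm y hy x hx)) hsC
    obtain ⟨i, rfl⟩ := mem_zpowers_iff.1 ha
    exact ⟨i, k, hk, (mul_mem_cancel_left (zpow_mem htS i)).1 hs, rfl⟩
  rintro ⟨x, hx⟩ ⟨y, hy⟩
  obtain ⟨i, k, hkK, hkS, rfl⟩ := hsplit x hx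
  obtain ⟨j, l, hlK, hlS, rfl⟩ := hsplit y hy
  have hkl : k * l = l * k := by
    obtain ⟨U, hU⟩ := (S.2.comap_of_injective K.subtype K.subtype_injective).exists_le_sylow
    exact congrArg (fun z : U => ((z : K) : G)) (hKab U ⟨⟨k, hkK⟩, hU hkS⟩ ⟨⟨l, hlK⟩, hU hlS⟩)
  refine Subtype.ext ?_
  show t ^ i * k * (t ^ j * l) = t ^ j * l * (t ^ i * k)
  have c1 := hcomm (t ^ j) (zpow_mem (mem_zpowers t) j) k hkK
  have c2 := hcomm (t ^ i) (zpow_mem (mem_zpowers t) i) l hlK
  rw [show t ^ i * k * (t ^ j * l) = t ^ i * (k * t ^ j) * l by group, ← c1,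
    show t ^ j * l * (t ^ i * k) = t ^ j * (l * t ^ i) * k by group, ← c2,
    show t ^ i * (t ^ j * k) * l = t ^ i * t ^ j * (k * l) by group,
    show t ^ j * (t ^ i * l) * k = t ^ j * t ^ i * (l * k) by group, hkl, ← zpow_add, ← zpow_add, add_comm]

/-- The first Janko group has abelian Sylow `2`-subgroups: it has no element of order four. -/
theorem abTwo_of_isoJ1 (h : Cfsg.Spor.IsoJ1 G) : CfsgLib.Walter.AbTwo G := by
  obtain ⟨e⟩ := h
  intro S a b
  have hsq : ∀ x : S, x * x = 1 := by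
    intro x
    obtain ⟨k, hk⟩ := IsPGroup.iff_orderOf.1 S.2 x
    have hmem : orderOf (e x) ∈ Set.range (orderOf : ↥Cfsg.Spor.J1 → ℕ) := ⟨_, rfl⟩
    rw [CfsgLib.Char.J1.range_orderOf, e.orderOf_eq, Subgroup.orderOf_coe, hk] at hmem
    have hk2 : k ≤ 1 := by
      by_contra hc
      push Not at hc
      obtain ⟨j, rfl⟩ := Nat.exists_eq_add_of_le hc
      rw [pow_add] at hmem
      simp only [Set.mem_insert_iff, Set.mem_singleton_iff] at hmem
      omega
    rw [← sq]
    exact orderOf_dvd_iff_pow_eq_one.1 (hk ▸ (pow_dvd_pow 2 hk2).trans (dvd_of_eq (pow_one 2)))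
  have hh := hsq (a * b)
  rw [mul_eq_one_iff_eq_inv, mul_inv_rev, inv_eq_of_mul_eq_one_right (hsq a),
    inv_eq_of_mul_eq_one_right (hsq b)] at hh
  exact hh

/-- Every Goldschmidt group is free of `S₄`. -/
theorem not_involves_of_goldschmidt [IsSimpleGroup G] (h : Cfsg.IsGoldschmidtGroup G) :
    ¬ Cfsg.Involves (Equiv.Perm (Fin 4)) G := by
  have hpsl : ∀ (F : Type) [Field F] [Fintype F],
      ((∃ n : ℕ, 2 ≤ n ∧ Fintype.card F = 2 ^ n) ∨
        (5 ≤ Fintype.card F ∧ (Fintype.card F % 8 = 3 ∨ Fintype.card F % 8 = 5))) →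
      Nonempty (G ≃* Matrix.ProjectiveSpecialLinearGroup (Fin 2) F) → CfsgLib.Walter.AbTwo G := by
    intro F _ _ hF e S a b
    exact Subtype.ext (congrArg Subtype.val
      ((CfsgLib.Walter.Rank.sylow_isElementary inferInstance (Or.inl ⟨F, _, _, hF, e⟩) S).1.is_comm.comm
        a b) :)
  rcases h with h | ⟨F, iF, iF', n, hn, hF, e⟩ | h | ⟨F, iF, iF', n, hn, hF, ⟨e⟩⟩ | ⟨F, iF, iF', q, hq, h5, hmod, e⟩ | h
  · exact not_involves_of_abTwo (abTwo_of_isReeType h)
  · exact not_involves_of_abTwo (hpsl F (Or.inl ⟨n, by omega, hF⟩) e)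
  · intro hinv
    obtain ⟨-, m, hm, hcard⟩ := CfsgLib.CIT.isSuzuki_of_isoSuzuki h
    obtain ⟨K, R, hR, ⟨g⟩⟩ := hinv
    have h24 : 3 ∣ Nat.card G := by
      refine dvd_trans ?_ (K.card_subgroup_dvd_card)
      refine dvd_trans ?_ (Subgroup.card_quotient_dvd_card (R.subgroupOf K))
      rw [Nat.card_congr g.toEquiv, Nat.card_perm, Nat.card_eq_fintype_card, Fintype.card_fin]
      decide
    have hq : (2 ^ (2 * m + 1)) % 3 = 2 := by
      rw [pow_succ, pow_mul, Nat.mul_mod, Nat.pow_mod]; norm_num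
    have hpos : 1 ≤ 2 ^ (2 * m + 1) := Nat.one_le_two_pow
    generalize hQ : 2 ^ (2 * m + 1) = q at hq hpos hcard
    rw [hcard] at h24
    have e1 : q ^ 2 % 3 = 1 := by rw [Nat.pow_mod, hq]
    have e2 : (q ^ 2 + 1) % 3 = 2 := by omega
    have e3 : (q - 1) % 3 = 1 := by omega
    have : (q ^ 2 * (q ^ 2 + 1) * (q - 1)) % 3 = 2 := by
      rw [Nat.mul_mod, Nat.mul_mod (q ^ 2), e1, e2, e3]
    omega
  · have hF' : Fintype.card F = (2 ^ n) ^ 2 := by rw [hF, ← pow_mul, mul_comm, pow_mul]; norm_num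
    obtain ⟨M, hM⟩ := CfsgLib.Bender.Binary.se_map e (CfsgLib.Bender.Binary.se_psu hn hF')
    exact not_involves_of_se hM
  · exact not_involves_of_abTwo (hpsl F (Or.inr ⟨hq ▸ h5, hq ▸ hmod⟩) e)
  · exact not_involves_of_abTwo (abTwo_of_isoJ1 h)

/-- The statement of S2754, given Goldschmidt's theorem. -/
theorem fourFree_iff [IsSimpleGroup G]
    (hgold : ∀ (S : Sylow 2 G) (A : Subgroup G), A ≠ ⊥ → IsMulCommutative A →
      Cfsg.IsStronglyClosed A (S : Subgroup G) →
      IsMulCommutative (S : Subgroup G) ∨ ∃ H : Subgroup G, Cfsg.IsStronglyEmbedded H)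
    (hna : ¬ IsMulCommutative G) :
    ¬ Cfsg.Involves (Equiv.Perm (Fin 4)) G ↔ Cfsg.IsGoldschmidtGroup G := by
  haveI : Fact (Nat.Prime 2) := ⟨Nat.prime_two⟩
  refine ⟨fun hfree => ?_, not_involves_of_goldschmidt⟩
  have hs : IsSimpleGroup G := inferInstance
  obtain ⟨S⟩ : Nonempty (Sylow 2 G) := inferInstance
  have hS1 : (S : Subgroup G) ≠ ⊥ := fun h0 => by
    have hodd : Odd (Nat.card G) := by
      rw [← Nat.not_even_iff_odd, even_iff_two_dvd, ← Subgroup.index_bot (G := G), ← h0]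
      exact S.not_dvd_index
    exact hna ⟨⟨IsSimpleGroup.comm_iff_isSolvable.2 (Cfsg.Agent.S0205.result hodd)⟩⟩
  obtain ⟨W, -, hlow, hup, hctl⟩ := Cfsg.Agent.S1927.result hfree S
  set A := W.map (S : Subgroup G).subtype with hA
  have hAS : A ≤ (S : Subgroup G) := map_subtype_le _
  have hcT : IsMulCommutative A := by
    refine isMulCommutative_iff.2 fun a b => Subtype.ext ?_
    have hle : Cfsg.omegaOne 2 (Cfsg.centerThompsonOf 2 (S : Subgroup G)) ≤
        Cfsg.centerThompsonOf 2 (S : Subgroup G) := (closure_le _).2 fun x hx => hx.1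
    exact mem_centralizer_iff.1 (hle (hup b.2)).2 a (hle (hup a.2)).1
  have hA1 : A ≠ ⊥ := by
    intro h0
    haveI : Nontrivial (S : Subgroup G) := (nontrivial_iff_ne_bot _).2 hS1
    haveI := S.2.center_nontrivial
    obtain ⟨z, hz⟩ := exists_prime_orderOf_dvd_card' (G := center ↥(S : Subgroup G)) 2 (by
      obtain ⟨k, hk⟩ := IsPGroup.iff_card.1 (S.2.to_subgroup (center ↥(S : Subgroup G)))
      have h2 := Finite.one_lt_card (α := center ↥(S : Subgroup G))
      rcases Nat.eq_zero_or_pos k with rfl | hk0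
      · rw [pow_zero] at hk; omega
      · rw [hk]; exact dvd_pow_self 2 hk0.ne')
    have hz1 : ((z : (S : Subgroup G)) : G) ∈ A := hlow (subset_closure ⟨mem_map_of_mem _ z.2, by
      have h2 : z ^ 2 = 1 := orderOf_dvd_iff_pow_eq_one.1 (dvd_of_eq hz)
      rw [← Subgroup.coe_pow, ← Subgroup.coe_pow, h2]; rfl⟩)
    rw [h0, mem_bot] at hz1
    have : z = 1 := Subtype.ext (Subtype.ext hz1)
    rw [this, orderOf_one] at hz
    norm_num at hz
  have hsc : Cfsg.IsStronglyClosed A (S : Subgroup G) := by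
    refine ⟨hAS, fun x hx g hg => ?_⟩
    obtain ⟨-, h⟩ := hctl {x} (Set.singleton_subset_iff.2 (hAS hx))
    obtain ⟨n, hn, he⟩ := h g (by rw [Set.image_singleton]; exact Set.singleton_subset_iff.2 hg)
    rw [he x rfl]
    exact (mem_normalizer_iff.1 hn x).1 hx
  rcases hgold S A hA1 hcT hsc with hab | ⟨H, hH⟩
  · have hab' := CfsgLib.Walter.abTwo_of_sylow S hab
    rcases CfsgLib.Walter.classified G hs hna hab' with ⟨F, iF, iF', ⟨n, hn, hF⟩ | ⟨h5, hmod⟩, e⟩ | hr
    · rcases Nat.lt_or_ge n 3 with h3 | h3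
      · obtain rfl : n = 2 := by omega
        obtain ⟨e⟩ := e
        haveI : Fact (Nat.Prime 5) := ⟨by norm_num⟩
        exact Or.inr (Or.inr (Or.inr (Or.inr (Or.inl ⟨ZMod 5, inferInstance, inferInstance, 5, ZMod.card 5,
          le_rfl, Or.inr rfl, CfsgLib.Walter.Consumers.iso_psl_five hF e⟩))))
      · exact Or.inr (Or.inl ⟨F, iF, iF', n, h3, hF, e⟩)
    · exact Or.inr (Or.inr (Or.inr (Or.inr (Or.inl ⟨F, iF, iF', _, rfl, h5, hmod, e⟩))))
    · rcases CfsgLib.Walter.Consumers.reeType_cases hab' hr with hj | hR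
      · exact Or.inr (Or.inr (Or.inr (Or.inr (Or.inr hj))))
      · exact Or.inl hR
  · rcases CfsgLib.Bender.Suzuki.isoFamilies_of_se CfsgLib.Bender.Suzuki.classified hH with
      ⟨F, iF, iF', ⟨n, hn, hF⟩, e⟩ | hsz | ⟨F, iF, iF', n, hn, hF, e⟩
    · rcases Nat.lt_or_ge n 3 with h3 | h3
      · obtain rfl : n = 2 := by omega
        obtain ⟨e⟩ := e
        haveI : Fact (Nat.Prime 5) := ⟨by norm_num⟩
        exact Or.inr (Or.inr (Or.inr (Or.inr (Or.inl ⟨ZMod 5, inferInstance, inferInstance, 5, ZMod.card 5,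
          le_rfl, Or.inr rfl, CfsgLib.Walter.Consumers.iso_psl_five hF e⟩))))
      · exact Or.inr (Or.inl ⟨F, iF, iF', n, h3, hF, e⟩)
    · exact Or.inr (Or.inr (Or.inl hsz))
    · exact Or.inr (Or.inr (Or.inr (Or.inl ⟨F, iF, iF', n, hn,
        by rw [hF, ← pow_mul, mul_comm, pow_mul]; norm_num, e⟩)))

end CfsgLib.Gold.FourFreeList
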