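import Cfsg.Agent.Lib.Coprime.Core
import Cfsg.Agent.Lib.Coprime.Solvable
import Mathlib.GroupTheory.PGroup
import Mathlib.GroupTheory.Nilpotent

/-!
# Fixed-point-free operator groups with nilpotent `π`-part: the quotient by an abelian normal `p`-subgroup

The operators have a normal subgroup of order prime to `p` with `p`-group quotient. Averaging makes a fixed
coset representative fixed by it, and a `p`-group with no fixed point on a `p`-group acts on the trivial one.
-/

set_option autoImplicit false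
set_option linter.style.haveILetI false

namespace CfsgLib.Gold.Fpf

open Subgroup

universe u v

/-- The operators: coprime normal subgroup with nilpotent quotient, and no nontrivial fixed point. -/
structure Ops {G : Type u} [Group G] {A : Type v} [Group A] (φ : A →* MulAut G) (K : Subgroup A) : Prop where
  normal : K.Normal
  coprime : ∀ r : ℕ, r.Prime → r ∣ Nat.card K → ¬ r ∣ Nat.card G
  nilpotent : ∀ [K.Normal], Group.IsNilpotent (A ⧸ K)
  fpf : ∀ g : G, (∀ a : A, φ a g = g) → g = 1

variable {G : Type u} [Group G] [Finite G] {A : Type v} [Group A] [Finite A] {φ : A →* MulAut G}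
  {K : Subgroup A}

/-- The `p'`-part of a nilpotent group. -/
theorem isPGroup_quotient_pPrimeCore {Q : Type v} [Group Q] [Finite Q] [Group.IsNilpotent Q] {p : ℕ}
    [Fact p.Prime] [(Cfsg.pPrimeCore p Q).Normal] : IsPGroup p (Q ⧸ Cfsg.pPrimeCore p Q) := by
  refine IsPGroup.of_card (n := (Cfsg.pPrimeCore p Q).index.primeFactorsList.length) ?_
  rw [← Subgroup.index_eq_card]
  refine Nat.eq_prime_pow_of_unique_prime_dvd Subgroup.index_ne_zero_of_finite fun {q} hq hdvd => ?_
  by_contra hne
  haveI := Fact.mk hq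
  obtain ⟨T⟩ : Nonempty (Sylow q Q) := inferInstance
  refine T.not_dvd_index (hdvd.trans (index_dvd_of_le (CfsgLib.Coprime.le_pPrimeCore_of_not_dvd
    (Fact.out : p.Prime) fun hp => ?_)))
  obtain ⟨k, hk⟩ := IsPGroup.iff_card.1 T.2
  rw [hk] at hp
  exact hne ((Nat.prime_dvd_prime_iff_eq (Fact.out : p.Prime) hq).1 ((Fact.out : p.Prime).dvd_of_dvd_pow hp)).symm

/-- A coset of an abelian invariant normal `p`-subgroup fixed by the operators is trivial. -/
theorem mem_of_fixed_coset (h : Ops φ K) {p : ℕ} [Fact p.Prime] (hpG : p ∣ Nat.card G) {M : Subgroup G}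
    (hMc : IsMulCommutative M) (hMp : IsPGroup p M) (hinv : ∀ a, ∀ x ∈ M, φ a x ∈ M) {g : G}
    (hg : ∀ a : A, g⁻¹ * φ a g ∈ M) : g ∈ M := by
  classical
  haveI := h.normal
  haveI := h.nilpotent
  haveI := CfsgLib.Coprime.pPrimeCore_characteristic (G := A ⧸ K) p
  set R := Cfsg.pPrimeCore p (A ⧸ K)
  set A₀ : Subgroup A := R.comap (QuotientGroup.mk' K) with hA₀
  have hA₀p : (Nat.card A₀).Coprime p := by
    refine ((Fact.out : p.Prime).coprime_iff_not_dvd.2 fun hd => ?_).symm
    let f : A₀ →* R := ((QuotientGroup.mk' K).subgroupComap R)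
    have hker : f.ker.map A₀.subtype ≤ K := by
      rintro _ ⟨x, hx, rfl⟩
      exact (QuotientGroup.eq_one_iff (x : A)).1 (congrArg Subtype.val (MonoidHom.mem_ker.1 hx))
    have h1 : Nat.card A₀ ∣ Nat.card K * Nat.card R := by
      rw [← Subgroup.card_mul_index f.ker, index_ker]
      refine mul_dvd_mul ?_ (card_subgroup_dvd_card _)
      rw [Nat.card_congr (Subgroup.equivMapOfInjective f.ker A₀.subtype A₀.subtype_injective).toEquiv]
      exact card_dvd_of_le hker
    rcases (Nat.Prime.dvd_mul Fact.out).1 (hd.trans h1) with h2 | h2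
    · exact h.coprime p Fact.out h2 hpG
    · exact ((Fact.out : p.Prime).coprime_iff_not_dvd.1
        (CfsgLib.Coprime.pPrimeCore_coprime (G := A ⧸ K) Fact.out).symm) h2
  haveI hA₀n : A₀.Normal := inferInstance
  have hquot : IsPGroup p (A ⧸ A₀) := by
    intro q
    obtain ⟨a, rfl⟩ := QuotientGroup.mk_surjective q
    obtain ⟨k, hk⟩ := isPGroup_quotient_pPrimeCore (p := p) (Q := A ⧸ K)
      (QuotientGroup.mk (QuotientGroup.mk a : A ⧸ K))
    refine ⟨k, ?_⟩
    rw [← QuotientGroup.mk_pow, QuotientGroup.eq_one_iff] at hk ⊢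
    rw [← QuotientGroup.mk_pow] at hk
    exact hk
  letI : CommGroup M := { (inferInstance : Group M) with mul_comm := isMulCommutative_iff.1 hMc }
  let c : A → M := fun a => ⟨g⁻¹ * φ a g, hg a⟩
  let act : A → M →* M := fun a =>
    { toFun := fun x => ⟨φ a x, hinv a x x.2⟩
      map_one' := Subtype.ext (map_one (φ a))
      map_mul' := fun x y => Subtype.ext (map_mul (φ a) (x : G) y) }
  have hc : ∀ a b, c (a * b) = c a * act a (c b) := fun a b => Subtype.ext (by
    show g⁻¹ * φ (a * b) g = g⁻¹ * φ a g * φ a (g⁻¹ * φ b g)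
    rw [map_mul φ, MulAut.mul_apply, map_mul (φ a), map_inv]
    group)
  haveI := Fintype.ofFinite A₀
  set n := Nat.card A₀ with hn
  have hnM : (Nat.card M).Coprime n := by
    obtain ⟨k, hk⟩ := IsPGroup.iff_card.1 hMp
    rw [hk]
    exact Nat.Coprime.pow_left _ hA₀p.symm
  set s : M := ∏ b : A₀, c b with hs
  obtain ⟨m, hm⟩ : ∃ m : M, m ^ n = s := ⟨(powCoprime hnM).symm s, (powCoprime hnM).apply_symm_apply s⟩
  have hfix0 : ∀ a ∈ A₀, φ a (g * m) = g * m := by
    intro a ha
    have h1 : c a * act a m = m := by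
      refine (powCoprime hnM).injective ?_
      show (c a * act a m) ^ n = m ^ n
      rw [mul_pow, ← map_pow, hm]
      conv_rhs => rw [hs, ← Equiv.prod_comp (Equiv.mulLeft (⟨a, ha⟩ : A₀)) (fun b : A₀ => c b)]
      rw [show (∏ b : A₀, c ((Equiv.mulLeft (⟨a, ha⟩ : A₀)) b : A₀)) = ∏ b : A₀, c a * act a (c b) from
        Finset.prod_congr rfl fun b _ => hc a b, Finset.prod_mul_distrib, Finset.prod_const, Finset.card_univ,
        hn, Nat.card_eq_fintype_card, hs, map_prod]
    have h2 : g⁻¹ * φ a g * φ a (m : G) = m := congrArg Subtype.val h1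
    rw [map_mul]
    calc φ a g * φ a (m : G) = g * (g⁻¹ * φ a g * φ a (m : G)) := by group
      _ = g * m := by rw [h2]
  -- the fixed points of `A₀` on `M` are trivial
  let F : Subgroup G :=
    { carrier := {x | x ∈ M ∧ ∀ a ∈ A₀, φ a x = x}
      one_mem' := ⟨one_mem _, fun a _ => map_one _⟩
      mul_mem' := fun hx hy => ⟨mul_mem hx.1 hy.1, fun a ha => by rw [map_mul, hx.2 a ha, hy.2 a ha]⟩
      inv_mem' := fun hx => ⟨inv_mem hx.1, fun a ha => by rw [map_inv, hx.2 a ha]⟩ }
  have hFact : ∀ (a : A) (x : G), x ∈ F → φ a x ∈ F := fun a x hx => ⟨hinv a x hx.1, fun b hb => by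
    rw [← MulAut.mul_apply, ← map_mul, show b * a = a * (a⁻¹ * b * a) by group, map_mul, MulAut.mul_apply,
      hx.2 _ (by simpa using hA₀n.conj_mem b hb a⁻¹)]⟩
  have hF : F = ⊥ := by
    let θ : A →* Equiv.Perm F :=
      { toFun := fun a =>
          { toFun := fun x => ⟨φ a x, hFact a x x.2⟩
            invFun := fun x => ⟨φ a⁻¹ x, hFact a⁻¹ x x.2⟩
            left_inv := fun x => Subtype.ext (by show φ a⁻¹ (φ a x) = x; simp)
            right_inv := fun x => Subtype.ext (by show φ a (φ a⁻¹ x) = x; simp) }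
        map_one' := Equiv.ext fun x => Subtype.ext (by show φ 1 (x : G) = x; simp)
        map_mul' := fun a b => Equiv.ext fun x => Subtype.ext (by
          show φ (a * b) (x : G) = φ a (φ b x); simp) }
    have hθ : A₀ ≤ θ.ker := fun a ha => MonoidHom.mem_ker.2 (Equiv.ext fun x => Subtype.ext (x.2.2 a ha))
    letI : MulAction (A ⧸ A₀) F := MulAction.compHom F (QuotientGroup.lift A₀ θ hθ)
    have hmod := hquot.card_modEq_card_fixedPoints F
    have hfp : ∀ x : F, x ∈ MulAction.fixedPoints (A ⧸ A₀) F → (x : G) = 1 := fun x hx =>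
      h.fpf _ fun a => congrArg Subtype.val (hx (QuotientGroup.mk a))
    have hone : Nat.card (MulAction.fixedPoints (A ⧸ A₀) F) = 1 := by
      refine Nat.card_eq_one_iff_unique.2
        ⟨⟨fun x y => Subtype.ext (Subtype.ext ((hfp x.1 x.2).trans (hfp y.1 y.2).symm))⟩, ⟨⟨1, ?_⟩⟩⟩
      intro q
      obtain ⟨a, rfl⟩ := QuotientGroup.mk_surjective q
      exact Subtype.ext (map_one (φ a))
    rw [hone] at hmod
    obtain ⟨k, hk⟩ := IsPGroup.iff_card.1 (hMp.to_le (fun x hx => hx.1) : IsPGroup p F)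
    rcases Nat.eq_zero_or_pos k with rfl | hk0
    · exact Subgroup.eq_bot_of_card_eq _ (by rw [hk, pow_zero])
    · have h1 : p ∣ Nat.card F := hk ▸ dvd_pow_self p hk0.ne'
      rw [Nat.ModEq, Nat.mod_eq_zero_of_dvd h1] at hmod
      · exact absurd hmod.symm (by rw [Nat.one_mod_eq_one.2 (Fact.out : p.Prime).ne_one]; norm_num)
  have hall : ∀ a : A, φ a (g * m) = g * m := by
    intro a
    have hd : (g * (m : G))⁻¹ * φ a (g * m) ∈ F := by
      refine ⟨?_, fun b hb => ?_⟩
      · rw [map_mul, show (g * (m : G))⁻¹ * (φ a g * φ a (m : G)) = (m : G)⁻¹ * (g⁻¹ * φ a g * φ a (m : G)) by group]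
        exact mul_mem (inv_mem m.2) (mul_mem (hg a) (hinv a _ m.2))
      · rw [map_mul (φ b), map_inv, hfix0 b hb, ← MulAut.mul_apply, ← map_mul,
          show b * a = a * (a⁻¹ * b * a) by group, map_mul φ, MulAut.mul_apply,
          hfix0 _ (by simpa using hA₀n.conj_mem b hb a⁻¹)]
    rw [hF, mem_bot, inv_mul_eq_one] at hd
    exact hd.symm
  have h1 : g * (m : G) = 1 := h.fpf _ hall
  rw [eq_inv_of_mul_eq_one_left h1]
  exact inv_mem m.2

end CfsgLib.Gold.Fpf
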