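import Cfsg.Agent.Lib.Goldschmidt.Consumers.FpfQuot
import Cfsg.Agent.Lib.Goldschmidt.RankOne.Omega
import Cfsg.Agent.Lib.Lie.Suz.Aut
import Cfsg.Agent.Lib.AutPSL.BalanceField

/-!
# Fixed-point-free operator groups with nilpotent `π`-part: the simple groups `Sz(q)` and `PSL₂(3^odd)`

A cyclic fixed-point-free group of automorphisms fixes no class, and the involutions form one class; as the
outer group is cyclic, the operators meet the inner automorphisms, in the centre modulo the coprime part,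
and this gives a fixed point.
-/

set_option autoImplicit false
set_option linter.style.haveILetI false

namespace CfsgLib.Gold.Fpf

open Subgroup

universe u v

/-- All automorphism groups meeting the inner automorphisms trivially are cyclic. -/
def OutCyclic (L : Type u) [Group L] : Prop :=
  ∀ H : Subgroup (MulAut L), H ⊓ (MulAut.conj : L →* MulAut L).range = ⊥ → ∃ a, H = zpowers a

theorem range_conj_normal (L : Type u) [Group L] : (MulAut.conj : L →* MulAut L).range.Normal :=
  ⟨by
    rintro _ ⟨x, rfl⟩ θ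
    exact ⟨θ x, MulEquiv.ext fun y => by simp⟩⟩

theorem outCyclic_of_surjective {L : Type u} [Group L] {C : Type v} [Group C] [IsCyclic C]
    [(MulAut.conj : L →* MulAut L).range.Normal]
    (f : C →* MulAut L ⧸ (MulAut.conj : L →* MulAut L).range) (hf : Function.Surjective f) : OutCyclic L := by
  haveI : IsCyclic (MulAut L ⧸ (MulAut.conj : L →* MulAut L).range) := isCyclic_of_surjective f hf
  intro H hH
  haveI : IsCyclic H := isCyclic_of_injective ((QuotientGroup.mk' (MulAut.conj : L →* MulAut L).range).comp H.subtype) (by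
    rw [injective_iff_map_eq_one]
    intro x hx
    exact Subtype.ext (mem_bot.1 (hH ▸ mem_inf.2 ⟨x.2, (QuotientGroup.eq_one_iff _).1 hx⟩)))
  obtain ⟨a, ha⟩ := IsCyclic.exists_generator (α := H)
  refine ⟨a, le_antisymm (fun x hx => ?_) (zpowers_le.2 a.2)⟩
  obtain ⟨k, hk⟩ := mem_zpowers_iff.1 (ha ⟨x, hx⟩)
  exact mem_zpowers_iff.2 ⟨k, by simpa using congrArg Subtype.val hk⟩

theorem outCyclic_sz {F : Type} [Field F] [Fintype F] {m : ℕ} (hm : 1 ≤ m)
    (hF : Fintype.card F = 2 ^ (2 * m + 1)) : OutCyclic (Cfsg.Sz F m) := by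
  haveI := range_conj_normal (Cfsg.Sz F m)
  haveI : Fact (Nat.Prime 2) := ⟨Nat.prime_two⟩
  obtain ⟨e⟩ := CfsgLib.AutPSL.exists_ringAut_equiv (F := F) hF
  haveI : IsCyclic (RingAut F) := isCyclic_of_surjective e.symm e.symm.surjective
  let fs : RingAut F →* MulAut (Cfsg.Sz F m) :=
    { toFun := CfsgLib.Lie.Suz.sigAut hm hF
      map_one' := MulEquiv.ext fun _ => Subtype.ext (Subtype.ext (Matrix.ext fun _ _ => rfl))
      map_mul' := fun _ _ => MulEquiv.ext fun _ => Subtype.ext (Subtype.ext (Matrix.ext fun _ _ => rfl)) }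
  set Inn := (MulAut.conj : Cfsg.Sz F m →* MulAut (Cfsg.Sz F m)).range
  refine outCyclic_of_surjective ((QuotientGroup.mk' Inn).comp fs) fun q => ?_
  obtain ⟨θ, rfl⟩ := QuotientGroup.mk_surjective q
  obtain ⟨x, σ, rfl⟩ := CfsgLib.Lie.Suz.aut_decomp hm hF θ
  refine ⟨σ, ?_⟩
  show QuotientGroup.mk' Inn (fs σ) = QuotientGroup.mk' Inn (MulAut.conj x * fs σ)
  rw [map_mul, show QuotientGroup.mk' Inn (MulAut.conj x) = 1 from (QuotientGroup.eq_one_iff _).2 ⟨x, rfl⟩,
    one_mul]

open CfsgLib.AutPSL in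
theorem outCyclic_psl {F : Type} [Field F] [Fintype F] {n : ℕ} (hF : Fintype.card F = 3 ^ (2 * n + 1)) :
    OutCyclic (Matrix.ProjectiveSpecialLinearGroup (Fin 2) F) := by
  classical
  set L := Matrix.ProjectiveSpecialLinearGroup (Fin 2) F
  haveI := range_conj_normal L
  haveI : Fact (Nat.Prime 3) := ⟨Nat.prime_three⟩
  set Inn := (MulAut.conj : L →* MulAut L).range
  let d : GL (Fin 2) F →* MulAut L ⧸ Inn := (QuotientGroup.mk' Inn).comp indHom
  let fs : RingAut F →* MulAut L :=
    { toFun := fun σ => ind 1 σ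
      map_one' := ind_one
      map_mul' := fun σ τ => by rw [ind_mul, map_one, one_mul] }
  let f : RingAut F →* MulAut L ⧸ Inn := (QuotientGroup.mk' Inn).comp fs
  set Sq := (powMonoidHom 2 : Fˣ →* Fˣ).range
  have hSq : Sq.index = 2 := by
    rw [IsCyclic.index_powMonoidHom_range, Nat.card_units, Nat.card_eq_fintype_card]
    have h2 : 2 ∣ Fintype.card F - 1 := by
      rw [hF]
      have : (3 ^ (2 * n + 1)) % 2 = 1 := by rw [Nat.pow_mod]; norm_num
      omega
    exact Nat.gcd_eq_right h2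
  let χ : GL (Fin 2) F →* Fˣ ⧸ Sq := (QuotientGroup.mk' Sq).comp Matrix.GeneralLinearGroup.det
  have hker : χ.ker ≤ d.ker := by
    intro g hg
    obtain ⟨c, hc⟩ := (QuotientGroup.eq_one_iff _).1 (MonoidHom.mem_ker.1 hg)
    have hc' : (c : F) ^ 2 = g.1.det := congrArg Units.val hc
    have hdet : Matrix.det (((c⁻¹ : Fˣ) : F) • g.1) = 1 := by
      rw [Matrix.det_smul, ← hc', Fintype.card_fin, ← mul_pow, ← Units.val_mul, inv_mul_cancel, Units.val_one,
        one_pow]
    set s : Matrix.SpecialLinearGroup (Fin 2) F := ⟨_, hdet⟩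
    have hg' : g = scal c * Matrix.SpecialLinearGroup.toGL s := Units.ext (by
      rw [Units.val_mul, scal_val]
      show g.1 = (c : F) • 1 * ((((c⁻¹ : Fˣ) : F)) • g.1)
      rw [Matrix.smul_mul, one_mul, smul_smul, ← Units.val_mul, mul_inv_cancel, Units.val_one, one_smul])
    refine MonoidHom.mem_ker.2 ((QuotientGroup.eq_one_iff _).2 ⟨proj s, ?_⟩)
    rw [conj_proj, hg', map_mul, show indHom (scal c) = 1 by rw [indHom_apply, ind_scal, ind_one], one_mul]
  have hχcard : Nat.card χ.range ∣ 2 :=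
    (card_subgroup_dvd_card _).trans (dvd_of_eq ((Subgroup.index_eq_card Sq).symm.trans hSq))
  have hdcard : Nat.card d.range ∣ 2 := by
    rw [← Subgroup.index_ker]
    exact (index_dvd_of_le hker).trans (by rw [Subgroup.index_ker]; exact hχcard)
  -- the field automorphisms fix the two classes
  have hfix : ∀ (σ : RingAut F) (g : GL (Fin 2) F), d (glField σ g) = d g := by
    intro σ g
    suffices h : χ (glField σ g) = χ g by
      have h1 : (glField σ g)⁻¹ * g ∈ d.ker := hker (MonoidHom.mem_ker.2 (by rw [map_mul, map_inv, h, inv_mul_cancel]))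
      rw [MonoidHom.mem_ker, map_mul, map_inv] at h1
      exact inv_mul_eq_one.1 h1
    have hdet : Matrix.GeneralLinearGroup.det (glField σ g) =
        Units.map σ.toRingHom.toMonoidHom (Matrix.GeneralLinearGroup.det g) :=
      Units.ext (by
        show (g.1.map σ).det = σ g.1.det
        exact (RingHom.map_det σ.toRingHom g.1).symm)
    show QuotientGroup.mk' Sq _ = QuotientGroup.mk' Sq _
    rw [hdet]
    set x := Matrix.GeneralLinearGroup.det g
    set y := Units.map σ.toRingHom.toMonoidHom x with hy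
    have hiff : x ∈ Sq ↔ y ∈ Sq := by
      constructor
      · rintro ⟨z, hz⟩
        refine ⟨Units.map σ.toRingHom.toMonoidHom z, ?_⟩
        show Units.map σ.toRingHom.toMonoidHom z ^ 2 = y
        rw [← map_pow, show z ^ 2 = x from hz]
      · rintro ⟨z, hz⟩
        refine ⟨Units.map σ.symm.toRingHom.toMonoidHom z, ?_⟩
        show Units.map σ.symm.toRingHom.toMonoidHom z ^ 2 = x
        rw [← map_pow, show z ^ 2 = y from hz, hy]
        exact Units.ext (σ.symm_apply_apply _)
    haveI := Fintype.ofFinite (Fˣ ⧸ Sq)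
    have hcard2 : Fintype.card (Fˣ ⧸ Sq) = 2 := by
      rw [← Nat.card_eq_fintype_card, ← Subgroup.index_eq_card]; exact hSq
    by_cases hx : x ∈ Sq
    · rw [(QuotientGroup.eq_one_iff _).2 (hiff.1 hx) |> fun e => (e : QuotientGroup.mk' Sq y = 1),
        show QuotientGroup.mk' Sq x = 1 from (QuotientGroup.eq_one_iff _).2 hx]
    · by_contra hne
      have h1 : (QuotientGroup.mk' Sq x) ≠ 1 := fun e => hx ((QuotientGroup.eq_one_iff _).1 e)
      have h2 : (QuotientGroup.mk' Sq y) ≠ 1 := fun e => hx (hiff.2 ((QuotientGroup.eq_one_iff _).1 e))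
      have h3 : 2 < Fintype.card (Fˣ ⧸ Sq) := Fintype.two_lt_card_iff.2 ⟨1, _, _, Ne.symm h2, Ne.symm h1, hne⟩
      omega
  have hcomm : ∀ (a : d.range) (b : f.range), Commute (d.range.subtype a) (f.range.subtype b) := by
    rintro ⟨_, g, rfl⟩ ⟨_, σ, rfl⟩
    show QuotientGroup.mk' Inn (ind g 1) * QuotientGroup.mk' Inn (ind 1 σ) =
      QuotientGroup.mk' Inn (ind 1 σ) * QuotientGroup.mk' Inn (ind g 1)
    rw [← map_mul, ← map_mul, ind_mul, ind_mul, one_mul σ, mul_one σ,
      show glField (1 : RingAut F) (1 : GL (Fin 2) F) = 1 from map_one _, mul_one, one_mul]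
    have e : ∀ h : GL (Fin 2) F, ind h σ = ind h 1 * ind 1 σ := fun h => by
      rw [ind_mul, one_mul, map_one, mul_one]
    rw [e g, e (glField σ g), map_mul, map_mul]
    exact congrArg (· * _) (hfix σ g).symm
  haveI : IsCyclic d.range := by
    rcases (Nat.dvd_prime Nat.prime_two).1 hdcard with h | h
    · haveI := (Nat.card_eq_one_iff_unique.1 h).1
      infer_instance
    · haveI : Fact (Nat.Prime 2) := ⟨Nat.prime_two⟩
      exact isCyclic_of_prime_card h
  obtain ⟨e⟩ := CfsgLib.AutPSL.exists_ringAut_equiv (F := F) hF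
  haveI : IsCyclic (RingAut F) := isCyclic_of_surjective e.symm e.symm.surjective
  haveI : IsCyclic f.range := isCyclic_of_surjective f.rangeRestrict f.rangeRestrict_surjective
  have hodd : Odd (Nat.card f.range) := by
    have h1 : Nat.card f.range ∣ 2 * n + 1 :=
      CfsgLib.AutPSL.card_ringAut (F := F) hF ▸ Subgroup.card_range_dvd f
    exact Odd.of_dvd_nat ⟨n, rfl⟩ h1
  haveI : IsCyclic (d.range × f.range) := Group.isCyclic_prod_iff.2
    ⟨inferInstance, inferInstance, ((Nat.coprime_two_left).2 hodd).coprime_dvd_left hdcard⟩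
  refine outCyclic_of_surjective (MonoidHom.noncommCoprod d.range.subtype f.range.subtype hcomm) fun q => ?_
  obtain ⟨θ, rfl⟩ := QuotientGroup.mk_surjective q
  obtain ⟨g, σ, h | ⟨h3, -⟩⟩ := aut_classify (le_refl 2) θ
  · refine ⟨(⟨d g, g, rfl⟩, ⟨f σ, σ, rfl⟩), ?_⟩
    show QuotientGroup.mk' Inn (ind g 1) * QuotientGroup.mk' Inn (ind 1 σ) = QuotientGroup.mk' Inn θ
    rw [h, ← map_mul, ind_mul, map_one, mul_one, one_mul]
  · omega

variable {L : Type u} [Group L] [Finite L] {B : Type v} [Group B] [Finite B] {ψ : B →* MulAut L}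
  {KB : Subgroup B}

/-- No fixed-point-free operators on such a simple group. -/
theorem false_of_simple [IsSimpleGroup L] (hnc : ¬ IsMulCommutative L)
    (hclass : ∀ x y : L, orderOf x = 2 → orderOf y = 2 → IsConj x y) (h2 : 2 ∣ Nat.card L)
    (hout : OutCyclic L) (h : Ops ψ KB) : False := by
  haveI := Fact.mk Nat.prime_two
  have hcentre : center L = ⊥ := by
    rcases (inferInstance : (center L).Normal).eq_bot_or_eq_top with e | e
    · exact e
    · exact absurd (isMulCommutative_iff.2 fun a b => mem_center_iff.1 (e.ge (mem_top b)) a) hnc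
  by_cases hI : ψ.range ⊓ (MulAut.conj : L →* MulAut L).range = ⊥
  · obtain ⟨a, ha⟩ := hout _ hI
    have hfix : ∀ l : L, a l = l → l = 1 := fun l hl => h.fpf l fun b => by
      obtain ⟨k, hk⟩ := mem_zpowers_iff.1 (ha.le (⟨b, rfl⟩ : ψ b ∈ ψ.range))
      have h1 : zpowers a ≤ MulAction.stabilizer (MulAut L) l := zpowers_le.2 hl
      exact h1 (mem_zpowers_iff.2 ⟨k, hk⟩)
    let f : L → L := fun l => l⁻¹ * a l
    have hf : Function.Injective f := fun p q e => by
      have e' : p⁻¹ * a p = q⁻¹ * a q := e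
      refine (mul_inv_eq_one.1 (hfix (q * p⁻¹) ?_)).symm
      rw [map_mul, map_inv, show a q = q * (q⁻¹ * a q) by group, ← e']
      group
    obtain ⟨x, hx⟩ := exists_prime_orderOf_dvd_card' 2 h2
    obtain ⟨g, hg⟩ := isConj_iff.1 (hclass x (a x) hx (by rw [MulEquiv.orderOf_eq, hx]))
    obtain ⟨l, hl⟩ := (Finite.injective_iff_surjective.1 hf) g⁻¹
    have hl' : a l = l * g⁻¹ := by rw [← hl]; show a l = l * (l⁻¹ * a l); group
    have h1 : a (l * x * l⁻¹) = l * x * l⁻¹ := by
      rw [map_mul, map_mul, map_inv, hl', ← hg]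
      group
    have hx1 : x = 1 := conj_eq_one_iff.1 (hfix _ h1)
    rw [hx1, orderOf_one] at hx
    norm_num at hx
  · haveI := range_conj_normal L
    haveI := h.normal
    haveI := h.nilpotent
    set M := ψ.range with hM
    let ρ : B →* M := ψ.rangeRestrict
    set Kb : Subgroup M := KB.map ρ
    haveI : Kb.Normal := (inferInstance : KB.Normal).map ρ ψ.rangeRestrict_surjective
    set I : Subgroup M := (MulAut.conj : L →* MulAut L).range.subgroupOf M
    haveI : I.Normal := Normal.subgroupOf inferInstance M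
    have hIK : I ⊓ Kb = ⊥ := by
      refine disjoint_iff.1 (Subgroup.disjoint_of_coprime_natCard ?_)
      have h1 : Nat.card I ∣ Nat.card L := by
        refine dvd_trans ?_ (Subgroup.card_range_dvd (MulAut.conj : L →* MulAut L))
        rw [Nat.card_congr (equivMapOfInjective I M.subtype M.subtype_injective).toEquiv]
        exact card_dvd_of_le (map_comap_le _ _)
      refine Nat.coprime_of_dvd fun r hr hrI hrK => h.coprime r hr ?_ (hrI.trans h1)
      exact hrK.trans (Subgroup.card_map_dvd KB ρ)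
    have hne : I.map (QuotientGroup.mk' Kb) ≠ ⊥ := fun e => hI (by
      rw [Subgroup.map_eq_bot_iff, QuotientGroup.ker_mk'] at e
      have h0 : I = ⊥ := le_bot_iff.1 ((le_inf le_rfl e).trans hIK.le)
      rwa [subgroupOf_eq_bot, disjoint_comm, disjoint_iff] at h0)
    haveI : Group.IsNilpotent (M ⧸ Kb) :=
      Group.nilpotent_of_surjective (QuotientGroup.map KB Kb ρ (le_comap_map _ _)) (fun q => by
        obtain ⟨m, rfl⟩ := QuotientGroup.mk_surjective q
        obtain ⟨b, rfl⟩ := ψ.rangeRestrict_surjective m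
        exact ⟨QuotientGroup.mk b, rfl⟩)
    haveI : (I.map (QuotientGroup.mk' Kb)).Normal :=
      (inferInstance : I.Normal).map _ (QuotientGroup.mk'_surjective _)
    obtain ⟨q, hq, hq1⟩ := (I.map (QuotientGroup.mk' Kb) ⊓ center (M ⧸ Kb)).bot_or_exists_ne_one.resolve_left
      (CfsgLib.Coprime.nilpotent_inf_center_ne_bot _ hne)
    obtain ⟨⟨i, hiI, rfl⟩, hqc⟩ := hq
    obtain ⟨l, hl⟩ := mem_subgroupOf.1 hiI
    have hl1 : l ≠ 1 := fun e => hq1 (by
      have : i = 1 := Subtype.ext (by rw [← hl, e, map_one]; rfl)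
      rw [this, map_one])
    refine hl1 (h.fpf l fun b => ?_)
    have hcm : ρ b * i * (ρ b)⁻¹ * i⁻¹ ∈ I ⊓ Kb := mem_inf.2
      ⟨mul_mem ((inferInstance : I.Normal).conj_mem i hiI (ρ b)) (inv_mem hiI), by
        rw [← QuotientGroup.eq_one_iff]
        show QuotientGroup.mk' Kb (ρ b * i * (ρ b)⁻¹ * i⁻¹) = 1
        rw [map_mul, map_mul, map_mul, map_inv, map_inv, mem_center_iff.1 hqc, mul_inv_cancel_right,
          mul_inv_cancel]⟩
    rw [hIK, mem_bot] at hcm
    have hcm' : ψ b * (i : MulAut L) * (ψ b)⁻¹ = i := congrArg Subtype.val (mul_inv_eq_one.1 hcm)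
    rw [← hl] at hcm'
    have h4 : MulAut.conj (ψ b l) = MulAut.conj l := by
      rw [← hcm']
      exact MulEquiv.ext fun y => by simp
    have h5 : l⁻¹ * ψ b l ∈ center L := by
      rw [mem_center_iff]
      intro y
      have := DFunLike.congr_fun h4 y
      simp only [MulAut.conj_apply] at this
      calc y * (l⁻¹ * ψ b l) = l⁻¹ * (l * y * l⁻¹) * ψ b l := by group
        _ = l⁻¹ * (ψ b l * y * (ψ b l)⁻¹) * ψ b l := by rw [this]
        _ = l⁻¹ * ψ b l * y := by group
    rw [hcentre, mem_bot, inv_mul_eq_one] at h5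
    exact h5.symm

omit [Finite B] in
/-- Operators along an isomorphism. -/
theorem Ops.transfer (h : Ops ψ KB) {L' : Type u} [Group L'] (e : L ≃* L') :
    ∃ ψ' : B →* MulAut L', Ops ψ' KB := by
  refine ⟨(MulAut.congr e).toMonoidHom.comp ψ, h.normal, fun r hr hrK hr' => h.coprime r hr hrK ?_, h.nilpotent,
    fun y hy => ?_⟩
  · rwa [Nat.card_congr e.toEquiv]
  · have h1 := h.fpf (e.symm y) fun b => by
      have := hy b
      apply e.injective
      simpa using this
    simpa using congrArg e h1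

/-- One class of involutions in a group of the list. -/
theorem isConj_of_form [IsSimpleGroup L] (hform : CfsgLib.Gold.Form L) {x y : L} (hx : orderOf x = 2)
    (hy : orderOf y = 2) : IsConj x y := by
  haveI := Fact.mk Nat.prime_two
  obtain ⟨T⟩ : Nonempty (Sylow 2 L) := inferInstance
  obtain ⟨-, -, k, -, htr⟩ := CfsgLib.Gold.RankOne.omega_facts ‹_› hform T
  have key : ∀ z : L, orderOf z = 2 → ∃ c : L, c * z * c⁻¹ ∈ (T : Subgroup L) ∧
      (c * z * c⁻¹) * (c * z * c⁻¹) = 1 ∧ c * z * c⁻¹ ≠ 1 := by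
    intro z hz
    obtain ⟨c, hc⟩ := CfsgLib.Invol.exists_conj_le_sylow
      (IsPGroup.of_card (n := 1) (by rw [Nat.card_zpowers, hz, pow_one]) : IsPGroup 2 (zpowers z)) T
    refine ⟨c, hc z (mem_zpowers z), ?_, fun e => ?_⟩
    · rw [show c * z * c⁻¹ * (c * z * c⁻¹) = c * z ^ 2 * c⁻¹ by rw [pow_two]; group,
        ← hz, pow_orderOf_eq_one, mul_one, mul_inv_cancel]
    · rw [conj_eq_one_iff] at e
      rw [e, orderOf_one] at hz
      norm_num at hz
  obtain ⟨c, hc, hc2, hc1⟩ := key x hx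
  obtain ⟨d, hd, hd2, hd1⟩ := key y hy
  obtain ⟨i, hi⟩ := htr _ hc hc2 hc1 _ hd hd2 hd1
  refine isConj_iff.2 ⟨d⁻¹ * k ^ i * c, ?_⟩
  rw [show d⁻¹ * k ^ i * c * x * (d⁻¹ * k ^ i * c)⁻¹ = d⁻¹ * (k ^ i * (c * x * c⁻¹) * (k ^ i)⁻¹) * d by group, hi]
  group

end CfsgLib.Gold.Fpf
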