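import Cfsg.Agent.Lib.Goldschmidt.Consumers.FpfSimple
import Cfsg.Agent.Lib.Goldschmidt.ThreeFree
import Cfsg.Agent.Lib.Lie.Suz.Twisted
import Cfsg.Agent.Lib.Classical.ProjLine
import Cfsg.Agent.Lib.Invol.AltEightSubgroups
import Cfsg.Agent.Lib.Coprime.Component
import Cfsg.Agent.Lib.FT.NoMinSimple
import Cfsg.Agent.Lib.Ree.Sections
import Cfsg.Prelude.Def_OddOrderLocal

/-!
# `S₃`-free groups with fixed-point-free operators having a nilpotent Hall `π`-subgroup and a normal
`π`-complement, given Goldschmidt's theorem (S4041)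
-/

set_option autoImplicit false
set_option linter.style.haveILetI false

namespace CfsgLib.Gold.Fpf

open Subgroup

universe u v w

theorem noncomm_congr {L : Type u} [Group L] {M : Type w} [Group M] (e : L ≃* M) (h : ¬ IsMulCommutative L) :
    ¬ IsMulCommutative M := fun hM => h (isMulCommutative_iff.2 fun a b =>
  e.injective (by rw [map_mul, map_mul]; exact isMulCommutative_iff.1 hM _ _))

theorem Ops.transfer' {L : Type u} [Group L] {B : Type v} [Group B] {ψ : B →* MulAut L} {KB : Subgroup B}
    (h : Ops ψ KB) {L' : Type w} [Group L'] (e : L ≃* L') : ∃ ψ' : B →* MulAut L', Ops ψ' KB := by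
  refine ⟨(MulAut.congr e).toMonoidHom.comp ψ, h.normal, fun r hr hrK hr' => h.coprime r hr hrK ?_, h.nilpotent,
    fun y hy => ?_⟩
  · rwa [Nat.card_congr e.toEquiv]
  · have h1 := h.fpf (e.symm y) fun b => by
      have := hy b
      apply e.injective
      simpa using this
    simpa using congrArg e h1

/-- No operators on a simple group of the list. -/
theorem false_of_list {L : Type u} [Group L] [Finite L] [IsSimpleGroup L] (hnc : ¬ IsMulCommutative L)
    (hL : Cfsg.IsSuzukiOrPSL2OddPowerThree L) {B : Type v} [Group B] [Finite B] {ψ : B →* MulAut L}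
    {KB : Subgroup B} (h : Ops ψ KB) : False := by
  haveI := Fact.mk Nat.prime_two
  have hns : ¬ Group.IsSolvable L := fun hs => hnc
    (isMulCommutative_iff.2 (IsSimpleGroup.comm_iff_isSolvable.2 hs))
  have h2 : 2 ∣ Nat.card L := by
    by_contra hd
    exact hns (CfsgLib.FT.isSolvable_of_odd L (Nat.not_even_iff_odd.1 fun e => hd e.two_dvd))
  rcases hL with ⟨F, iF, iF', m, hm, hF, ⟨e⟩⟩ | ⟨F, iF, iF', n, hF, ⟨e⟩⟩
  · obtain ⟨t⟩ := CfsgLib.Lie.Suz.exists_twEquiv (F := F) hm hF
    set f := e.trans t.symm
    haveI : IsSimpleGroup (Cfsg.Sz F m) := f.isSimpleGroup_congr.1 ‹_›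
    obtain ⟨ψ', h'⟩ := h.transfer' f
    refine false_of_simple (noncomm_congr f hnc) (fun x y hx hy => isConj_of_form ?_ hx hy)
      (Nat.card_congr f.toEquiv ▸ h2) (outCyclic_sz hm hF) h'
    exact Or.inr (Or.inr (Or.inl ⟨F, iF, iF', m, hm, hF, ⟨t⟩⟩))
  · haveI : IsSimpleGroup (Matrix.ProjectiveSpecialLinearGroup (Fin 2) F) := e.isSimpleGroup_congr.1 ‹_›
    obtain ⟨ψ', h'⟩ := h.transfer' e
    have hn : 1 ≤ n := by
      by_contra hn
      obtain rfl : n = 0 := by omega
      have hc := CfsgLib.Classical.card_psl2 (F := F)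
      rw [hF] at hc
      norm_num at hc
      have hlt : Nat.card L < 60 := by
        rw [Nat.card_congr e.toEquiv]
        omega
      have := CfsgLib.Invol.AltEightSubgroups.sixty_le hns
      omega
    refine false_of_simple (noncomm_congr e hnc) (fun x y hx hy => isConj_of_form ?_ hx hy)
      (Nat.card_congr e.toEquiv ▸ h2) (outCyclic_psl hF) h'
    refine Or.inl (Or.inl ⟨F, iF, iF', Or.inr ⟨?_, Or.inl ?_⟩, ⟨MulEquiv.refl _⟩⟩)
    · rw [hF]
      exact le_trans (by norm_num) (Nat.pow_le_pow_right (show 3 > 0 by norm_num) (show 3 ≤ 2 * n + 1 by omega))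
    · rw [hF, pow_succ, pow_mul, Nat.mul_mod, Nat.pow_mod]
      norm_num

variable {G : Type u} [Group G] [Finite G]

/-- The centre of a `pCore` is invariant under all automorphisms. -/
theorem center_pCore_invariant {p : ℕ} (θ : MulAut G) {x : G}
    (hx : x ∈ (center (Cfsg.pCore p G : Subgroup G)).map (Cfsg.pCore p G).subtype) :
    θ x ∈ (center (Cfsg.pCore p G : Subgroup G)).map (Cfsg.pCore p G).subtype := by
  haveI := CfsgLib.Coprime.pCore_characteristic (G := G) p
  have hP := Subgroup.characteristic_iff_map_eq.1 (inferInstance : (Cfsg.pCore p G).Characteristic) θ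
  obtain ⟨z, hz, rfl⟩ := hx
  have hmem : θ (z : G) ∈ Cfsg.pCore p G := by
    have := mem_map_of_mem θ.toMonoidHom z.2
    rwa [hP] at this
  refine ⟨⟨θ z, hmem⟩, mem_center_iff.2 fun y => Subtype.ext ?_, rfl⟩
  have hy : (y : G) ∈ (Cfsg.pCore p G).map θ.toMonoidHom := hP.symm ▸ y.2
  obtain ⟨w, hw, e⟩ := hy
  show (y : G) * θ z = θ z * y
  rw [← e]
  show θ w * θ z = θ z * θ w
  rw [← map_mul, ← map_mul]
  exact congrArg θ (congrArg Subtype.val (mem_center_iff.1 hz ⟨w, hw⟩))

/-- The induction. -/
theorem isSolvable_aux (hW : CfsgLib.Walter.Classified.{u}) (hM : CfsgLib.Gold.MainThm.{u}) :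
    ∀ (n : ℕ) (G : Type u) [Group G] [Finite G] (A : Type v) [Group A] [Finite A] (φ : A →* MulAut G)
      (K : Subgroup A), Nat.card G = n → CfsgLib.FourFree.HG G → Ops φ K → Group.IsSolvable G := by
  classical
  intro n
  induction n using Nat.strongRecOn with
  | _ n ih =>
  intro G _ _ A _ _ φ K hn hG h
  haveI := h.normal
  by_cases hp : ∃ p : ℕ, p.Prime ∧ Cfsg.pCore p G ≠ ⊥
  · obtain ⟨p, hp, hP⟩ := hp
    haveI := Fact.mk hp
    set P := Cfsg.pCore p G
    set M := (center P).map P.subtype with hMdef
    haveI : M.Normal := ⟨fun x hx g => center_pCore_invariant (MulAut.conj g) hx⟩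
    have hPp : IsPGroup p P := CfsgLib.Coprime.pCore_isPGroup p
    have hMne : M ≠ ⊥ := by
      haveI : Nontrivial P := nontrivial_iff_ne_bot P |>.2 hP
      have := hPp.center_nontrivial
      exact fun e => (nontrivial_iff_ne_bot _).1 this
        ((Subgroup.map_eq_bot_iff_of_injective _ P.subtype_injective).1 e)
    have hMp : IsPGroup p M := (hPp.to_subgroup (center P)).map P.subtype
    have hMc : IsMulCommutative M := isMulCommutative_iff.2 (by
      rintro ⟨_, a, ha, rfl⟩ ⟨_, b, hb, rfl⟩
      exact Subtype.ext (congrArg Subtype.val (mem_center_iff.1 hb a) : (P.subtype a) * P.subtype b = P.subtype b * P.subtype a))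
    have hinv : ∀ a, ∀ x ∈ M, φ a x ∈ M := fun a x hx => center_pCore_invariant (φ a) hx
    have hpG : p ∣ Nat.card G := by
      obtain ⟨k, hk⟩ := IsPGroup.iff_card.1 hMp
      rcases Nat.eq_zero_or_pos k with rfl | hk0
      · exact absurd (eq_bot_of_card_eq _ (by rw [hk, pow_zero])) hMne
      · exact ((dvd_pow_self p hk0.ne').trans (hk ▸ dvd_rfl)).trans (card_subgroup_dvd_card M)
    have hMmap : ∀ a, M.map (φ a).toMonoidHom = M := fun a => Subgroup.eq_of_le_of_card_ge
      (by rintro _ ⟨x, hx, rfl⟩; exact hinv a x hx)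
      (Nat.card_congr ((φ a).subgroupMap M).toEquiv).le
    let φ' : A →* MulAut (G ⧸ M) :=
      { toFun := fun a => QuotientGroup.congr M M (φ a) (hMmap a)
        map_one' := MulEquiv.ext fun q => by
          obtain ⟨g, rfl⟩ := QuotientGroup.mk_surjective q
          show QuotientGroup.mk (φ 1 g) = QuotientGroup.mk g
          rw [map_one φ]; rfl
        map_mul' := fun a b => MulEquiv.ext fun q => by
          obtain ⟨g, rfl⟩ := QuotientGroup.mk_surjective q
          show QuotientGroup.mk (φ (a * b) g) = QuotientGroup.mk (φ a (φ b g))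
          rw [map_mul φ]; rfl }
    have h' : Ops φ' K := ⟨h.normal,
      fun r hr hrK hrG => h.coprime r hr hrK (hrG.trans (card_quotient_dvd_card M)), h.nilpotent, fun q hq => by
        obtain ⟨g, rfl⟩ := QuotientGroup.mk_surjective q
        exact (QuotientGroup.eq_one_iff g).2 (mem_of_fixed_coset h hpG hMc hMp hinv fun a =>
          QuotientGroup.eq.1 (hq a).symm)⟩
    have hlt : Nat.card (G ⧸ M) < n := by
      rw [← hn, Subgroup.card_eq_card_quotient_mul_card_subgroup M]
      refine lt_mul_of_one_lt_right Nat.card_pos ?_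
      haveI := (nontrivial_iff_ne_bot M).2 hMne
      exact Finite.one_lt_card
    haveI := ih _ hlt (G ⧸ M) A φ' K rfl (hG.quotient (QuotientGroup.mk' M) (QuotientGroup.mk'_surjective M)) h'
    haveI : Group.IsSolvable M := CfsgLib.Coprime.isSolvable_of_isMulCommutative hMc
    exact Group.isSolvable_of_ker_le_range M.subtype (QuotientGroup.mk' M) (by simp)
  · push Not at hp
    by_contra hns
    have hfit : Cfsg.fittingSubgroup G = ⊥ := by
      rw [CfsgLib.Coprime.fitting_eq_iSup_pCore, iSup_eq_bot]
      exact fun p => hp p p.2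
    have hlay : Cfsg.layer G ≠ ⊥ := fun e => hns (by
      have h1 := CfsgLib.Coprime.centralizer_generalizedFitting_le (G := G)
      rw [Cfsg.generalizedFittingSubgroup, e, hfit, sup_bot_eq, le_bot_iff] at h1
      have htop : centralizer ((⊥ : Subgroup G) : Set G) = ⊤ := eq_top_iff.2 fun g _ =>
        mem_centralizer_iff.2 fun x hx => by rw [mem_bot.1 hx, one_mul, mul_one]
      exact Group.isSolvable_of_top_eq_bot G (htop.symm.trans h1))
    obtain ⟨L, hL⟩ : ∃ L : Subgroup G, Cfsg.IsComponent L := by
      by_contra hno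
      push Not at hno
      exact hlay (sSup_eq_bot.2 fun K hK => absurd hK (hno K))
    have hZ : center L = ⊥ := by
      by_contra hne
      haveI := (nontrivial_iff_ne_bot (center L)).2 hne
      obtain ⟨p, hp', hdvd⟩ := Nat.exists_prime_and_dvd (show Nat.card (center L) ≠ 1 from Finite.one_lt_card.ne')
      haveI := Fact.mk hp'
      obtain ⟨z, hz⟩ := exists_prime_orderOf_dvd_card' p hdvd
      have hzL : orderOf (z : L) = p := by rw [Subgroup.orderOf_coe, hz]
      haveI : (zpowers (z : L)).Normal := ⟨fun x hx g => by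
        have hxc : x ∈ center L := zpowers_le.2 z.2 hx
        rw [mem_center_iff.1 hxc g, mul_inv_cancel_right]
        exact hx⟩
      have hle := CfsgLib.Coprime.le_pCore_of_isSubnormal (p := p)
        ((CfsgLib.Coprime.isSubnormal_map_subtype_iff hL.1 _).2 (Normal.isSubnormal ‹_›))
        ((IsPGroup.of_card (n := 1) (by rw [Nat.card_zpowers, hzL, pow_one]) : IsPGroup p (zpowers (z : L))).map L.subtype)
      rw [hp p hp', le_bot_iff, Subgroup.map_eq_bot_iff_of_injective _ L.subtype_injective, zpowers_eq_bot] at hle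
      rw [hle, orderOf_one] at hzL
      exact hp'.ne_one hzL.symm
    haveI hLs : IsSimpleGroup L := by
      have h1 := hL.2.2
      exact (((QuotientGroup.quotientMulEquivOfEq hZ).trans QuotientGroup.quotientBot).isSimpleGroup_congr).1 h1
    have hLnc : ¬ IsMulCommutative L := fun hc =>
      CfsgLib.Coprime.not_isSolvable_of_isComponent hL (CfsgLib.Coprime.isSolvable_of_isMulCommutative hc)
    have hlist : Cfsg.IsSuzukiOrPSL2OddPowerThree L := by
      have hc := CfsgLib.Gold.composition_of_hg hW hM (hG.subgroup L) ⊤ IsSubnormal.top ⊥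
      let e : (↥(⊤ : Subgroup L)) ⧸ (⊥ : Subgroup ↥(⊤ : Subgroup L)) ≃* L :=
        QuotientGroup.quotientBot.trans Subgroup.topEquiv
      rcases hc (e.isSimpleGroup_congr.2 hLs) (noncomm_congr e.symm hLnc) with
        ⟨F, iF, iF', m, hm, hF, ⟨f⟩⟩ | ⟨F, iF, iF', k, hF, ⟨f⟩⟩
      · exact Or.inl ⟨F, iF, iF', m, hm, hF, ⟨e.symm.trans f⟩⟩
      · exact Or.inr ⟨F, iF, iF', k, hF, ⟨e.symm.trans f⟩⟩
    -- the stabilizer
    let act : A → Subgroup G := fun a => L.map (φ a).toMonoidHom
    have hactmul : ∀ a b : A, (act b).map (φ a).toMonoidHom = act (a * b) := fun a b => by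
      show (L.map _).map _ = L.map _
      rw [map_map, map_mul φ]
      rfl
    have hact1 : act 1 = L := by show L.map (φ 1).toMonoidHom = L; rw [map_one φ]; exact map_id L
    let B : Subgroup A :=
      { carrier := {a | act a = L}
        one_mem' := hact1
        mul_mem' := fun {a b} ha hb => by
          show act (a * b) = L
          rw [← hactmul, show act b = L from hb]; exact ha
        inv_mem' := fun {a} ha => by
          show act a⁻¹ = L
          calc act a⁻¹ = (act a).map (φ a⁻¹).toMonoidHom := by rw [show act a = L from ha]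
            _ = act (a⁻¹ * a) := hactmul _ _
            _ = L := by rw [inv_mul_cancel, hact1] }
    have hBmem : ∀ b : B, ∀ l : L, φ (b : A) (l : G) ∈ L := fun b l => by
      have h1 := mem_map_of_mem (φ (b : A)).toMonoidHom l.2
      rw [show L.map (φ (b : A)).toMonoidHom = L from b.2] at h1
      exact h1
    let ψ : B →* MulAut L :=
      { toFun := fun b =>
          { toFun := fun l => ⟨φ (b : A) l, hBmem b l⟩
            invFun := fun l => ⟨φ ((b⁻¹ : B) : A) l, hBmem b⁻¹ l⟩
            left_inv := fun l => Subtype.ext (by show φ ((b⁻¹ : B) : A) (φ (b : A) (l : G)) = l; simp)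
            right_inv := fun l => Subtype.ext (by show φ (b : A) (φ ((b⁻¹ : B) : A) (l : G)) = l; simp)
            map_mul' := fun l l' => Subtype.ext (map_mul (φ (b : A)) (l : G) l') }
        map_one' := MulEquiv.ext fun l => Subtype.ext (by show φ ((1 : B) : A) (l : G) = l; simp)
        map_mul' := fun b c => MulEquiv.ext fun l => Subtype.ext (by
          show φ ((b * c : B) : A) (l : G) = φ (b : A) (φ (c : A) (l : G)); simp) }
    have hops : Ops ψ (K.subgroupOf B) := by
      refine ⟨Normal.subgroupOf inferInstance B, fun r hr hrK hrL => h.coprime r hr ?_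
        (hrL.trans (card_subgroup_dvd_card L)), ?_, ?_⟩
      · refine hrK.trans ?_
        rw [Nat.card_congr (equivMapOfInjective _ B.subtype B.subtype_injective).toEquiv]
        exact card_dvd_of_le (map_comap_le _ _)
      · intro _
        haveI := h.nilpotent
        let f : B ⧸ K.subgroupOf B →* A ⧸ K := QuotientGroup.map _ K B.subtype le_rfl
        have hf : Function.Injective f := by
          rw [injective_iff_map_eq_one]
          intro q hq
          obtain ⟨b, rfl⟩ := QuotientGroup.mk_surjective q
          exact (QuotientGroup.eq_one_iff b).2 (mem_subgroupOf.2 ((QuotientGroup.eq_one_iff (b : A)).1 hq))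
        exact Group.nilpotent_of_mulEquiv (MonoidHom.ofInjective hf).symm
      · intro x hx
        have hfix : ∀ b : B, φ (b : A) (x : G) = x := fun b => congrArg Subtype.val (hx b)
        by_contra hx1
        haveI := Fintype.ofFinite (Set.range act)
        have hwd : ∀ a a' : A, act a = act a' → φ a (x : G) = φ a' x := fun a a' e => by
          have hb : a⁻¹ * a' ∈ B := by
            show act (a⁻¹ * a') = L
            rw [← hactmul, ← e, hactmul, inv_mul_cancel, hact1]
          have := congrArg (φ a) (hfix ⟨_, hb⟩)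
          rw [← MulAut.mul_apply, ← map_mul, mul_inv_cancel_left] at this
          exact this.symm
        have hcompA : ∀ a, Cfsg.IsComponent (act a) := fun a => CfsgLib.Coprime.isComponent_map_equiv _ hL
        let s : Set G := Set.range fun a => φ a (x : G)
        set T := closure s
        have hs : ∀ p ∈ s, ∀ q ∈ s, p * q = q * p := by
          rintro _ ⟨a, rfl⟩ _ ⟨b, rfl⟩
          by_cases e : act a = act b
          · simp only [hwd a b e]
          · exact CfsgLib.Coprime.commutator_eq_bot_iff_forall.1
              (CfsgLib.Coprime.components_commute (hcompA a) (hcompA b) e) _ (mem_map_of_mem _ x.2) _ (mem_map_of_mem _ x.2)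
        have hT1 : T ≤ centralizer s := (closure_le _).2 fun p hp => mem_centralizer_iff.2 fun q hq => hs q hq p hp
        have hT2 : T ≤ centralizer (T : Set G) := (closure_le _).2 fun p hp => mem_centralizer_iff.2 fun q hq =>
          (mem_centralizer_iff.1 (hT1 hq) p hp).symm
        letI : CommGroup T := { (inferInstance : Group T) with
          mul_comm := fun p q => Subtype.ext (mem_centralizer_iff.1 (hT2 q.2) p p.2) }
        choose rep hrep using fun M : Set.range act => M.2
        let f : Set.range act → T := fun M => ⟨φ (rep M) x, subset_closure ⟨rep M, rfl⟩⟩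
        have hfval : ∀ (M : Set.range act) (a : A), act a = (M : Subgroup G) → (f M : G) = φ a x := fun M a ha =>
          hwd _ _ ((hrep M).trans ha.symm)
        set y : T := ∏ M, f M with hy
        have hyfix : ∀ c : A, φ c (y : G) = y := by
          intro c
          have hmapT : ∀ t ∈ T, φ c t ∈ T := fun t ht => by
            have : T ≤ T.comap (φ c).toMonoidHom := (closure_le _).2 (by
              rintro _ ⟨a, rfl⟩
              refine subset_closure ⟨c * a, ?_⟩
              show φ (c * a) (x : G) = φ c (φ a x)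
              rw [map_mul φ]; rfl)
            exact this ht
          let θ : T →* T :=
            { toFun := fun t => ⟨φ c t, hmapT t t.2⟩
              map_one' := Subtype.ext (map_one (φ c))
              map_mul' := fun t t' => Subtype.ext (map_mul (φ c) (t : G) t') }
          let E : Set.range act ≃ Set.range act :=
            { toFun := fun M => ⟨(M : Subgroup G).map (φ c).toMonoidHom, c * rep M, by rw [← hactmul, hrep]⟩
              invFun := fun M => ⟨(M : Subgroup G).map (φ c⁻¹).toMonoidHom, c⁻¹ * rep M, by rw [← hactmul, hrep]⟩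
              left_inv := fun M => Subtype.ext (by
                show ((M : Subgroup G).map _).map _ = (M : Subgroup G)
                rw [← hrep M, hactmul, hactmul, inv_mul_cancel_left])
              right_inv := fun M => Subtype.ext (by
                show ((M : Subgroup G).map _).map _ = (M : Subgroup G)
                rw [← hrep M, hactmul, hactmul, mul_inv_cancel_left]) }
          have hθ : ∀ M, θ (f M) = f (E M) := fun M => Subtype.ext (by
            show φ c (f M : G) = (f (E M) : G)
            rw [hfval (E M) (c * rep M) (by rw [← hactmul, hrep]; rfl), map_mul φ]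
            rfl)
          have h1 : θ y = y := by
            rw [hy, map_prod]
            simp only [hθ]
            exact Equiv.prod_comp E f
          exact congrArg Subtype.val h1
        have hy1 : (y : G) = 1 := h.fpf _ hyfix
        set M0 : Set.range act := ⟨L, 1, hact1⟩
        have hsplit : y = f M0 * ∏ M ∈ Finset.univ.erase M0, f M :=
          (Finset.mul_prod_erase _ _ (Finset.mem_univ M0)).symm
        let C : Subgroup T := (centralizer (L : Set G)).subgroupOf T
        have hrest : (∏ M ∈ Finset.univ.erase M0, f M) ∈ C := Subgroup.prod_mem _ fun M hM => by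
          have hne : (M : Subgroup G) ≠ L := fun e => (Finset.mem_erase.1 hM).1 (Subtype.ext e)
          refine mem_subgroupOf.2 (mem_centralizer_iff.2 fun l hl => ?_)
          have hcm := CfsgLib.Coprime.components_commute hL (hrep M ▸ hcompA (rep M)) hne.symm
          refine CfsgLib.Coprime.commutator_eq_bot_iff_forall.1 hcm l hl _ ?_
          rw [← hrep M]
          exact mem_map_of_mem _ x.2
        have hxC : (f M0 : G) ∈ centralizer (L : Set G) := by
          have h2 : f M0 ∈ C := by
            have e : f M0 = y * (∏ M ∈ Finset.univ.erase M0, f M)⁻¹ := by rw [hsplit, mul_inv_cancel_right]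
            rw [e]
            exact mul_mem (by rw [show y = 1 from Subtype.ext hy1]; exact one_mem _) (inv_mem hrest)
          exact mem_subgroupOf.1 h2
        rw [hfval M0 1 hact1, map_one φ] at hxC
        have hxz : x ∈ center L := mem_center_iff.2 fun l => Subtype.ext (mem_centralizer_iff.1 hxC l l.2)
        rw [hZ, mem_bot] at hxz
        exact hx1 hxz
    exact false_of_list hLnc hlist hops

/-- The statement of S4041, given Goldschmidt's theorem. -/
theorem solvable_of_fixedPointFree (hW : CfsgLib.Walter.Classified.{u}) (hM : CfsgLib.Gold.MainThm.{u})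
    {A : Type v} [Group A] [Finite A] (φ : A →* MulAut G) (hfpf : ∀ g : G, (∀ a : A, φ a g = g) → g = 1)
    (hS3 : ¬ Cfsg.Involves (Equiv.Perm (Fin 3)) G)
    (hHall : ∃ H : Subgroup A, Cfsg.IsPiHall {r : ℕ | r.Prime ∧ r ∣ Nat.card G} H ∧ Group.IsNilpotent H)
    (hcomp : ∃ K : Subgroup A, K.Normal ∧ (∀ r : ℕ, r.Prime → r ∣ Nat.card K → ¬ r ∣ Nat.card G) ∧
      ∀ r : ℕ, r.Prime → r ∣ K.index → r ∣ Nat.card G) :
    Group.IsSolvable G := by
  obtain ⟨H, ⟨hHπ, hHidx⟩, hHn⟩ := hHall
  obtain ⟨K, hKn, hKc, hKi⟩ := hcomp
  refine isSolvable_aux hW hM _ G A φ K rfl (CfsgLib.ReeType.no_three_iff.1 hS3) ⟨hKn, hKc, ?_, hfpf⟩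
  intro _
  haveI := hHn
  have hcopHK : (Nat.card H).Coprime (Nat.card K) := Nat.coprime_of_dvd fun r hr hrH hrK =>
    hKc r hr hrK (hHπ r hr hrH).2
  have hcopI : (K.index).Coprime H.index := Nat.coprime_of_dvd fun r hr hrK hrH =>
    hHidx r hr ⟨hr, hKi r hr hrK⟩ hrH
  have hdvd : K.index ∣ Nat.card H := by
    refine hcopI.dvd_of_dvd_mul_right ?_
    rw [H.card_mul_index]
    exact K.index_dvd_card
  let f : H →* A ⧸ K := (QuotientGroup.mk' K).comp H.subtype
  have hf : Function.Injective f := by
    rw [injective_iff_map_eq_one]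
    intro x hx
    have hxK : (x : A) ∈ K := (QuotientGroup.eq_one_iff _).1 hx
    have := disjoint_iff.1 (Subgroup.disjoint_of_coprime_natCard hcopHK)
    exact Subtype.ext (mem_bot.1 (this ▸ mem_inf.2 ⟨x.2, hxK⟩))
  have hb : Function.Bijective f := (Nat.bijective_iff_injective_and_card f).2 ⟨hf,
    le_antisymm (Nat.card_le_card_of_injective f hf)
      (by rw [← Subgroup.index_eq_card]; exact Nat.le_of_dvd Nat.card_pos hdvd)⟩
  exact Group.nilpotent_of_surjective f hb.2

end CfsgLib.Gold.Fpf
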