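import Cfsg.Agent.Lib.Goldschmidt.Consumers.PrimeToThree
import Cfsg.Agent.Lib.Walter.Consumers.Homogeneous.Basic
import Cfsg.Agent.Lib.Lie.Suz.Sub.Solv

/-!
# `π`-homogeneous groups of order prime to three, `π` odd, given Goldschmidt's theorem

The non-abelian simple sections are Suzuki groups. There the normalizer of a Sylow subgroup of odd order induces
only `2`-elements on it, so no prime of `π` divides the order.
-/

set_option autoImplicit false
set_option linter.style.haveILetI false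
set_option linter.unusedSectionVars false

namespace CfsgLib.Gold.PiHomThree

open Subgroup CfsgLib.PiHom

universe u

variable {π : Set ℕ}

/-- Induction: it suffices to treat simple groups all of whose proper subgroups are closed. -/
theorem closed_of_simple (hodd : ∀ p ∈ π, p ≠ 2)
    (step : ∀ (G : Type u) [Group G] [Finite G] [IsSimpleGroup G], ¬ IsMulCommutative G → ¬ 3 ∣ Nat.card G →
      Hom π G → Closed π G) :
    ∀ (G : Type u) [Group G] [Finite G], ¬ 3 ∣ Nat.card G → Hom π G → Closed π G := by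
  intro G _ _
  induction hn : Nat.card G using Nat.strong_induction_on generalizing G with
  | _ k ih =>
  subst hn
  intro hT hH
  classical
  have hU : ∀ U : Subgroup G, U ≠ ⊤ → Closed π U := fun U hU => by
    refine ih _ (lt_of_le_of_ne (Nat.le_of_dvd Nat.card_pos (card_subgroup_dvd_card U)) fun e => hU ?_) U rfl
      (fun h => hT (h.trans (card_subgroup_dvd_card U))) (hH.subgroup U)
    exact eq_top_of_card_eq U e
  have hquot : ∀ N : Subgroup G, [N.Normal] → N ≠ ⊥ → Nat.card (G ⧸ N) < Nat.card G := fun N _ hb => by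
    rw [← Subgroup.index_eq_card, ← N.card_mul_index]
    exact lt_mul_of_one_lt_left (Nat.pos_of_ne_zero N.index_ne_zero_of_finite)
      ((one_lt_card_iff_ne_bot N).2 hb)
  have hTq : ∀ N : Subgroup G, [N.Normal] → ¬ 3 ∣ Nat.card (G ⧸ N) := fun N _ h =>
    hT (h.trans (card_quotient_dvd_card N))
  by_cases hex : ∃ N : Subgroup G, N.Normal ∧ N ≠ ⊥ ∧ N ≠ ⊤
  · obtain ⟨N, hN, hb, ht⟩ := hex
    haveI := hN
    obtain ⟨K, hK⟩ := hU N ht
    by_cases hK1 : K = ⊥
    · have hNp : PiNum π (Nat.card N) := by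
        intro p hp hd
        by_contra hπ
        haveI := Fact.mk hp
        obtain ⟨x, hx⟩ := exists_prime_orderOf_dvd_card' p hd
        have : x ∈ K := (hK x).2 (hx ▸ (pow_one p ▸ coNum_pow hp hπ 1))
        rw [hK1, mem_bot] at this
        rw [this, orderOf_one] at hx
        exact hp.ne_one hx.symm
      have hcent : ∀ x : G, CoNum π (orderOf x) → x ∈ centralizer (N : Set G) := fun x hx =>
        hH N hNp x (normalizer_eq_top N ▸ mem_top x) hx
      by_cases hC : centralizer (N : Set G) = ⊤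
      · refine closed_of_quotient_piNum hNp (fun n hn g => (mem_centralizer_iff.1 (hC ▸ mem_top g) n hn).symm) ?_
        exact ih _ (hquot N hb) _ rfl (hTq N) (hH.quotient_piNum hNp)
      · obtain ⟨L, hL⟩ := hU _ hC
        refine ⟨L.map (centralizer (N : Set G)).subtype, fun x => ⟨?_, fun hx => ?_⟩⟩
        · rintro ⟨y, hy, rfl⟩
          rw [coe_subtype, orderOf_coe]
          exact (hL y).1 hy
        · exact ⟨⟨x, hcent x hx⟩, (hL _).2 (by rwa [orderOf_mk]), rfl⟩
    · set K' := K.map N.subtype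
      haveI hKn : K'.Normal := ⟨by
        rintro _ ⟨y, hy, rfl⟩ g
        refine ⟨⟨g * (y : G) * g⁻¹, hN.conj_mem _ y.2 g⟩, (hK _).2 ?_, rfl⟩
        rw [orderOf_mk, show g * (y : G) * g⁻¹ = MulAut.conj g (y : G) from rfl, MulEquiv.orderOf_eq,
          orderOf_coe]
        exact (hK y).1 hy⟩
      have hKc : CoNum π (Nat.card K') := by
        rw [card_map_of_injective N.subtype_injective]
        exact coNum_card_iff.2 fun x hx => (hK x).1 hx
      have hKb : K' ≠ ⊥ := fun e => hK1 ((map_eq_bot_iff_of_injective _ N.subtype_injective).1 e)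
      exact closed_of_quotient_coNum hKc
        (ih _ (hquot K' hKb) _ rfl (hTq K')
          (CfsgLib.Walter.Consumers.Homogeneous.hom_quotient_coNum hodd hH hKc))
  push Not at hex
  by_cases hcomm : IsMulCommutative G
  · exact ⟨{ carrier := {x | CoNum π (orderOf x)}
             one_mem' := by simpa using coNum_one
             mul_mem' := fun {a b} ha hb => ((ha.mul hb).of_dvd
               ((Commute.orderOf_mul_dvd_lcm (hcomm.is_comm.comm a b)).trans (Nat.lcm_dvd_mul _ _)))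
             inv_mem' := fun {a} ha => by simpa using ha }, fun x => Iff.rfl⟩
  · haveI : Nontrivial G := by
      by_contra hne
      rw [not_nontrivial_iff_subsingleton] at hne
      exact hcomm ⟨⟨fun a b => Subsingleton.elim _ _⟩⟩
    haveI : IsSimpleGroup G := ⟨fun N hN => or_iff_not_imp_left.2 (hex N hN)⟩
    exact step G hcomm hT hH

section Suzuki

open CfsgLib.Lie.Suz

variable {F : Type} [Field F] [Fintype F] {m : ℕ}

/-- A Sylow subgroup of odd order of `Sz(q)`: the normalizer acts on it by `2`-elements. -/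
theorem sz_normalizer (hm : 1 ≤ m) (hF : Fintype.card F = 2 ^ (2 * m + 1)) {p : ℕ} [Fact p.Prime] (hp2 : p ≠ 2)
    (P : Sylow p (Cfsg.Sz F m)) (hP : (P : Subgroup (Cfsg.Sz F m)) ≠ ⊥) :
    IsMulCommutative (P : Subgroup (Cfsg.Sz F m)) ∧
      ∀ g ∈ normalizer ((P : Subgroup (Cfsg.Sz F m)) : Set (Cfsg.Sz F m)),
        g ∈ centralizer ((P : Subgroup (Cfsg.Sz F m)) : Set (Cfsg.Sz F m)) ∨ IsTwo g := by
  haveI : Nontrivial (P : Subgroup (Cfsg.Sz F m)) := (nontrivial_iff_ne_bot _).2 hP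
  haveI := P.2.center_nontrivial
  obtain ⟨z', hz'⟩ := exists_ne (1 : center ↥(P : Subgroup (Cfsg.Sz F m)))
  set z : Cfsg.Sz F m := ((z' : ↥(P : Subgroup (Cfsg.Sz F m))) : Cfsg.Sz F m) with hzdef
  have hz1 : z ≠ 1 := fun e => hz' (Subtype.ext (Subtype.ext e))
  have hnt : ∀ u ∈ (P : Subgroup (Cfsg.Sz F m)), u ≠ 1 → ¬ IsTwo u := by
    rintro u hu hu1 ⟨i, hi⟩
    obtain ⟨j, hj⟩ := P.2 ⟨u, hu⟩
    have hj' : u ^ p ^ j = 1 := congrArg Subtype.val hj
    have hcop : Nat.Coprime (2 ^ i) (p ^ j) :=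
      Nat.Coprime.pow _ _ ((Nat.coprime_primes Nat.prime_two Fact.out).2 (Ne.symm hp2))
    exact hu1 (orderOf_eq_one_iff.1 (Nat.eq_one_of_dvd_coprimes hcop (orderOf_dvd_of_pow_eq_one hi)
      (orderOf_dvd_of_pow_eq_one hj')))
  have hz := hnt z z'.1.2 hz1
  have hPC : (P : Subgroup (Cfsg.Sz F m)) ≤ centralizer ({z} : Set (Cfsg.Sz F m)) := fun u hu =>
    mem_centralizer_singleton_iff.2 (congrArg Subtype.val ((mem_center_iff.1 z'.2) ⟨u, hu⟩))
  haveI := (nontwo_centralizer hm hF hz).1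
  letI := IsCyclic.commGroup (α := ↥(centralizer ({z} : Set (Cfsg.Sz F m))))
  have hC : ∀ a ∈ centralizer ({z} : Set (Cfsg.Sz F m)), ∀ b ∈ centralizer ({z} : Set (Cfsg.Sz F m)),
      a * b = b * a := fun a ha b hb =>
    congrArg Subtype.val (mul_comm (⟨a, ha⟩ : centralizer ({z} : Set (Cfsg.Sz F m))) ⟨b, hb⟩)
  refine ⟨isMulCommutative_iff.2 fun a b => Subtype.ext (hC a (hPC a.2) b (hPC b.2)), fun g hg => ?_⟩
  by_cases hg2 : IsTwo g
  · exact Or.inr hg2
  refine Or.inl (mem_centralizer_iff.2 fun u hu => hC u (hPC hu) g ?_)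
  refine mem_C_of_nontwo hm hF hz (mem_normalizer_fintype fun x hx => ?_) hg2
  have hgz : g * z * g⁻¹ ∈ (P : Subgroup (Cfsg.Sz F m)) := (mem_normalizer_iff.1 hg z).1 z'.1.2
  rw [SetLike.mem_coe, ← ((nontwo_centralizer hm hF hz).2 _ (hPC hgz) (fun e => hz1 (conj_eq_one_iff.1 e))).2]
  rw [SetLike.mem_coe, mem_centralizer_singleton_iff] at hx
  refine mem_centralizer_singleton_iff.2 ?_
  calc g * x * g⁻¹ * (g * z * g⁻¹) = g * (x * z) * g⁻¹ := by group
    _ = g * (z * x) * g⁻¹ := by rw [hx]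
    _ = _ := by group

/-- No prime of `π` divides the order of a `π`-homogeneous Suzuki group. -/
theorem not_dvd_of_sz (hm : 1 ≤ m) (hF : Fintype.card F = 2 ^ (2 * m + 1)) (hodd : ∀ p ∈ π, p ≠ 2)
    {G : Type u} [Group G] [Finite G] [IsSimpleGroup G] (hna : ¬ IsMulCommutative G) (hH : Hom π G)
    (e : G ≃* Cfsg.Sz F m) {p : ℕ} (hp : p.Prime) (hpπ : p ∈ π) : ¬ p ∣ Nat.card G := by
  intro hd
  haveI := Fact.mk hp
  obtain ⟨P⟩ : Nonempty (Sylow p G) := inferInstance
  let P' : Sylow p (Cfsg.Sz F m) := P.comapOfInjective e.symm.toMonoidHom e.symm.injective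
    (fun y _ => e.symm.surjective y)
  have hmem : ∀ x : G, e x ∈ (P' : Subgroup (Cfsg.Sz F m)) ↔ x ∈ (P : Subgroup G) := fun x => by
    show e.symm (e x) ∈ (P : Subgroup G) ↔ _
    rw [e.symm_apply_apply]
  have hP' : (P' : Subgroup (Cfsg.Sz F m)) ≠ ⊥ := by
    obtain ⟨x, hx, hx1⟩ := (P : Subgroup G).bot_or_exists_ne_one.resolve_left (P.ne_bot_of_dvd_card hd)
    intro h0
    have := (hmem x).2 hx
    rw [h0, mem_bot] at this
    exact hx1 (e.injective (by rw [this, map_one]))
  obtain ⟨hcomm, hN⟩ := sz_normalizer hm hF (hodd p hpπ) P' hP'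
  have hc : ∀ a ∈ (P : Subgroup G), ∀ b ∈ (P : Subgroup G), a * b = b * a := fun a ha b hb =>
    e.injective (by
      rw [map_mul, map_mul]
      exact congrArg Subtype.val (isMulCommutative_iff.1 hcomm ⟨_, (hmem a).2 ha⟩ ⟨_, (hmem b).2 hb⟩))
  have hle : normalizer ((P : Subgroup G) : Set G) ≤ centralizer ((P : Subgroup G) : Set G) := by
    intro g hg
    obtain ⟨j, hj⟩ := P.2.exists_card_eq
    rcases hN (e g) (mem_normalizer_fintype fun y hy => by
      obtain ⟨x, rfl⟩ := e.surjective y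
      rw [SetLike.mem_coe, ← map_inv, ← map_mul, ← map_mul, hmem]
      exact (mem_normalizer_iff.1 hg x).1 ((hmem x).1 hy)) with h | ⟨i, hi⟩
    · exact mem_centralizer_iff.2 fun x hx => e.injective (by
        rw [map_mul, map_mul]; exact mem_centralizer_iff.1 h (e x) ((hmem x).2 hx))
    · refine hH (P : Subgroup G) (hj ▸ piNum_pow hp hpπ j) g hg
        ((coNum_pow Nat.prime_two (fun h => hodd 2 h rfl) i).of_dvd (orderOf_dvd_of_pow_eq_one
          (e.injective (by rw [map_pow, hi, map_one]))))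
  have hcompl := MonoidHom.ker_transferSylow_isComplement' P hle
  rcases (inferInstance : (MonoidHom.transferSylow P hle).ker.Normal).eq_bot_or_eq_top with h | h
  · rw [h, isComplement'_bot_left] at hcompl
    exact hna (isMulCommutative_iff.2 fun a b => hc a (hcompl ▸ mem_top a) b (hcompl ▸ mem_top b))
  · rw [h, isComplement'_top_left] at hcompl
    exact P.ne_bot_of_dvd_card hd hcompl

end Suzuki

/-- The statement of S4045, given Goldschmidt's theorem. -/
theorem closed_of_prime_to_three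
    (hgold : ∀ (X : Type u) [Group X] [Finite X] [IsSimpleGroup X] (S : Sylow 2 X) (A : Subgroup X), A ≠ ⊥ →
      IsMulCommutative A → Cfsg.IsStronglyClosed A (S : Subgroup X) →
      IsMulCommutative (S : Subgroup X) ∨ ∃ H : Subgroup X, Cfsg.IsStronglyEmbedded H)
    {G : Type u} [Group G] [Finite G] (π : Set ℕ) (hodd : ∀ p ∈ π, p.Prime ∧ p ≠ 2) (h3 : ¬ 3 ∣ Nat.card G)
    (hhom : (∀ H : Subgroup G, H ≠ ⊥ → (∀ p : ℕ, p.Prime → p ∣ Nat.card ↥H → p ∈ π) →
        ∀ p : ℕ, p.Prime → p ∣ (Subgroup.centralizer (H : Set G)).relIndex (Subgroup.normalizer (H : Set G)) →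
          p ∈ π)) :
    ∃ K : Subgroup G, ∀ x : G, x ∈ K ↔ ∀ p : ℕ, p.Prime → p ∣ orderOf x → p ∉ π := by
  refine closed_of_simple (fun p hp => (hodd p hp).2) (fun X _ _ _ hna hX hH => ?_) G h3 (hom_of_relIndex hhom)
  suffices h : ∀ p : ℕ, p.Prime → p ∈ π → ¬ p ∣ Nat.card X by
    exact ⟨⊤, fun x => ⟨fun _ p hp hd hπ => h p hp hπ (hd.trans (orderOf_dvd_natCard x)), fun _ => mem_top x⟩⟩
  intro p hp hpπ
  obtain ⟨F, iF, iF', m, hm, hF, ⟨e⟩⟩ :=
    CfsgLib.Gold.FourFreeList.isoSuzuki_of_prime_to_three (hgold X) hna hX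
  obtain ⟨e'⟩ := CfsgLib.Lie.Suz.exists_twEquiv (F := F) hm hF
  exact not_dvd_of_sz hm hF (fun p hp => (hodd p hp).2) hna hH (e.trans e'.symm) hp hpπ

end CfsgLib.Gold.PiHomThree
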