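import Cfsg.Agent.Lib.EqualOrder2.PslFacts

/-!
# Automorphisms of `PSL₂(q)` centralizing the unipotent Sylow subgroup

The conjugates of the root group `U` other than `U` form one orbit of `U` (Bruhat). An automorphism fixing
`U` pointwise and fixing one of them fixes all, hence is trivial.
-/

set_option autoImplicit false
set_option linter.unusedSectionVars false

namespace CfsgLib.Gold.ThreeReal

open Subgroup Matrix
open CfsgLib.EqualOrder2 (rootU mem_rootU)

variable {F : Type} [Field F] [Fintype F]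

local notation "SL2" => Matrix.SpecialLinearGroup (Fin 2) F
local notation "PSL2" => Matrix.ProjectiveSpecialLinearGroup (Fin 2) F
local notation "π" => QuotientGroup.mk' (Subgroup.center (Matrix.SpecialLinearGroup (Fin 2) F))
local notation:max "↟" A:max => ((A : Matrix.SpecialLinearGroup (Fin 2) F) : Matrix (Fin 2) (Fin 2) F)

/-- The Weyl element. -/
def wEl : SL2 := ⟨!![0, 1; -1, 0], by simp [Matrix.det_fin_two]⟩

/-- Upper triangular elements normalize the root group. -/
theorem mem_normalizer_of_upper {b : SL2} (hb : ↟b 1 0 = 0) :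
    π b ∈ normalizer ((rootU : Subgroup PSL2) : Set PSL2) := by
  refine mem_normalizer_fintype fun x hx => ?_
  obtain ⟨t, rfl⟩ := mem_rootU.1 hx
  refine mem_rootU.2 ⟨↟b 0 0 * ↟b 0 0 * t, ?_⟩
  have hdet := b.det_coe
  rw [Matrix.det_fin_two, hb, mul_zero, sub_zero] at hdet
  rw [eq_mul_inv_iff_mul_eq, ← map_mul, ← map_mul]
  refine congrArg π (Subtype.ext ?_)
  rw [MinNonCA.sl2_val_mul, MinNonCA.sl2_val_mul]
  ext i j
  fin_cases i <;> fin_cases j <;> simp [MinNonCA.uT, Matrix.mul_apply, Fin.sum_univ_two, hb]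
  linear_combination (↟b 0 0 * t) * hdet

theorem not_mem_normalizer_wEl : π (wEl : SL2) ∉ normalizer ((rootU : Subgroup PSL2) : Set PSL2) := by
  intro h
  obtain ⟨t, ht⟩ := mem_rootU.1 ((mem_normalizer_iff.1 h _).1 (mem_rootU.2 ⟨1, rfl⟩))
  rw [eq_mul_inv_iff_mul_eq, ← map_mul, ← map_mul] at ht
  rcases MinNonCA.pi_eq_cases ht with e | e <;> rw [MinNonCA.sl2_val_mul, MinNonCA.sl2_val_mul] at e <;>
  · have e1 := congrFun₂ e 1 1
    simp [MinNonCA.uT, wEl, Matrix.mul_apply, Fin.sum_univ_two] at e1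

/-- Bruhat. -/
theorem normalizer_or (g : PSL2) : g ∈ normalizer ((rootU : Subgroup PSL2) : Set PSL2) ∨
    ∃ u ∈ (rootU : Subgroup PSL2), (u * π wEl)⁻¹ * g ∈ normalizer ((rootU : Subgroup PSL2) : Set PSL2) := by
  obtain ⟨M, rfl⟩ := QuotientGroup.mk'_surjective _ g
  by_cases h10 : ↟M 1 0 = 0
  · exact Or.inl (mem_normalizer_of_upper h10)
  refine Or.inr ⟨_, mem_rootU.2 ⟨↟M 0 0 / ↟M 1 0, rfl⟩, ?_⟩
  rw [← map_mul, ← map_inv, ← map_mul]
  refine mem_normalizer_of_upper ?_
  rw [MinNonCA.sl2_val_mul, Matrix.SpecialLinearGroup.coe_inv, MinNonCA.sl2_val_mul, Matrix.mul_apply,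
    Fin.sum_univ_two, Matrix.adjugate_fin_two]
  simp [MinNonCA.uT, wEl, Matrix.mul_apply, Fin.sum_univ_two]
  field_simp
  ring

/-- An automorphism centralizing the root group is conjugation by one of its elements. -/
theorem aut_eq_conj [IsSimpleGroup PSL2] (α : MulAut PSL2)
    (hα : ∀ x ∈ (rootU : Subgroup PSL2), α x = x) : ∃ u ∈ (rootU : Subgroup PSL2), α = MulAut.conj u := by
  set U : Subgroup PSL2 := rootU with hUdef
  set w : PSL2 := π wEl with hw
  set N := normalizer (U : Set PSL2) with hN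
  have hcomm : ∀ x ∈ U, ∀ y ∈ U, x * y = y * x := by
    intro x hx y hy
    obtain ⟨s, rfl⟩ := mem_rootU.1 hx
    obtain ⟨t, rfl⟩ := mem_rootU.1 hy
    rw [← map_mul, ← map_mul, MinNonCA.uT_mul, MinNonCA.uT_mul, add_comm]
  have hαiff : ∀ x, α x ∈ U ↔ x ∈ U := fun x =>
    ⟨fun h => by rw [← α.injective (hα (α x) h)]; exact h, fun h => by rw [hα x h]; exact h⟩
  have hαN : ∀ g, α g ∈ N ↔ g ∈ N := fun g => by
    refine ⟨fun h => mem_normalizer_iff.2 fun x => ?_, fun h => mem_normalizer_iff.2 fun x => ?_⟩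
    · rw [← hαiff (g * x * g⁻¹), map_mul, map_mul, map_inv, ← hαiff x]
      exact mem_normalizer_iff.1 h _
    · obtain ⟨y, rfl⟩ := α.surjective x
      rw [hαiff, ← map_inv, ← map_mul, ← map_mul, hαiff]
      exact mem_normalizer_iff.1 h y
  obtain ⟨u, hu, hun⟩ := (normalizer_or (α w)).resolve_left
    fun h => not_mem_normalizer_wEl ((hαN w).1 h)
  refine ⟨u, hu, ?_⟩
  set β : MulAut PSL2 := (MulAut.conj u)⁻¹ * α with hβ
  have hβU : ∀ x ∈ U, β x = x := fun x hx => by
    show u⁻¹ * α x * u = x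
    rw [hα x hx, mul_assoc, hcomm x hx u hu, inv_mul_cancel_left]
  -- `g⁻¹ (β g)` normalizes `U`
  have hkey : ∀ g, g⁻¹ * β g ∈ N := by
    intro g
    have hNinv : ∀ n ∈ N, n⁻¹ * β n ∈ N := fun n hn => mul_mem (inv_mem hn) (by
      show u⁻¹ * α n * u ∈ N
      exact mul_mem (mul_mem (inv_mem (le_normalizer hu)) ((hαN n).2 hn)) (le_normalizer hu))
    rcases normalizer_or g with hg | ⟨v, hv, hb⟩
    · exact hNinv g hg
    · set b := (v * w)⁻¹ * g with hb'
      have hg : g = v * w * b := by rw [hb']; group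
      have h1 : w⁻¹ * β w ∈ N := by
        show w⁻¹ * (u⁻¹ * α w * u) ∈ N
        rw [show w⁻¹ * (u⁻¹ * α w * u) = (u * w)⁻¹ * α w * u by group]
        exact mul_mem hun (le_normalizer hu)
      have h2 : β b ∈ N := by
        have := mul_mem hb (hNinv b hb)
        rwa [mul_inv_cancel_left] at this
      rw [hg, map_mul, map_mul, hβU v hv,
        show (v * w * b)⁻¹ * (v * β w * β b) = b⁻¹ * (w⁻¹ * β w) * β b by group]
      exact mul_mem (mul_mem (inv_mem hb) h1) h2
  have hcore : N.normalCore = ⊥ := (inferInstance : N.normalCore.Normal).eq_bot_or_eq_top.resolve_right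
    fun e => not_mem_normalizer_wEl (N.normalCore_le (e.ge (mem_top _)))
  have hβ1 : ∀ g, β g = g := by
    intro g
    have hmem : β g * g⁻¹ ∈ N.normalCore := fun y => by
      have h := mul_mem (hkey (g * (y * g)⁻¹)) (inv_mem (hkey (y * g)⁻¹))
      have e : (g * (y * g)⁻¹)⁻¹ * β (g * (y * g)⁻¹) * (((y * g)⁻¹)⁻¹ * β (y * g)⁻¹)⁻¹ =
          y * (β g * g⁻¹) * y⁻¹ := by rw [map_mul]; group
      rwa [e] at h
    rw [hcore, mem_bot, mul_inv_eq_one] at hmem
    exact hmem
  refine MulEquiv.ext fun g => ?_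
  have h3 : u⁻¹ * α g * u = g := hβ1 g
  show α g = u * g * u⁻¹
  calc α g = u * (u⁻¹ * α g * u) * u⁻¹ := by group
    _ = u * g * u⁻¹ := by rw [h3]

end CfsgLib.Gold.ThreeReal
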