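import Cfsg.Agent.Lib.Goldschmidt.Consumers.SymThreeRing
import Cfsg.Agent.Lib.Goldschmidt.Consumers.ComponentThree
import Cfsg.Agent.Lib.FrobSystem.Basic
import Cfsg.Agent.Lib.Coprime.Solvable
import Cfsg.Agent.Lib.Coprime.Fitting
import Cfsg.Agent.Lib.FT.NoMinSimple

/-!
# `3'`-groups with a fixed-point-free group of operators `S₃`, given Goldschmidt's theorem

An automorphism of order three with fixed group of odd order: the group is solvable, as the simple sections are
Suzuki groups, and it acts trivially modulo `O_{2',2}`.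
-/

set_option autoImplicit false
set_option linter.style.haveILetI false
set_option linter.unusedSectionVars false

namespace CfsgLib.Gold.SymThree

open Subgroup

universe u

section Restrict

variable {P : Type u} [Group P] (Z : Subgroup P)

/-- Restriction of automorphisms to a characteristic subgroup. -/
def restrict [hZ : Z.Characteristic] : MulAut P →* MulAut Z where
  toFun θ := (θ.subgroupMap Z).trans (MulEquiv.subgroupCongr (characteristic_iff_map_eq.1 hZ θ))
  map_one' := MulEquiv.ext fun _ => Subtype.ext rfl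
  map_mul' _ _ := MulEquiv.ext fun _ => Subtype.ext rfl

theorem coe_restrict [Z.Characteristic] (θ : MulAut P) (z : Z) : ((restrict Z θ z : Z) : P) = θ z := rfl

/-- Automorphisms of the quotient by a characteristic subgroup. -/
def onQuot [hZ : Z.Characteristic] : MulAut P →* MulAut (P ⧸ Z) where
  toFun θ := QuotientGroup.congr Z Z θ (characteristic_iff_map_eq.1 hZ θ)
  map_one' := MulEquiv.ext fun x => by
    obtain ⟨x, rfl⟩ := QuotientGroup.mk'_surjective Z x
    rfl
  map_mul' _ _ := MulEquiv.ext fun x => by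
    obtain ⟨x, rfl⟩ := QuotientGroup.mk'_surjective Z x
    rfl

theorem onQuot_mk [Z.Characteristic] (θ : MulAut P) (x : P) :
    onQuot Z θ (QuotientGroup.mk' Z x) = QuotientGroup.mk' Z (θ x) := rfl

end Restrict

/-- A coset invariant under an automorphism of order dividing three contains a fixed point. -/
theorem exists_fixed_rep {G : Type u} [Group G] [Finite G] (N : Subgroup G) (h3 : ¬ 3 ∣ Nat.card N)
    (σ : MulAut G) (hσ : σ ^ 3 = 1) (hN : ∀ x ∈ N, σ x ∈ N) (g : G) (hg : g⁻¹ * σ g ∈ N) :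
    ∃ h, σ h = h ∧ g⁻¹ * h ∈ N := by
  classical
  haveI := Fact.mk Nat.prime_three
  haveI := Fintype.ofFinite N
  let f : N → N := fun v => ⟨g⁻¹ * σ (g * v), by
    rw [map_mul, ← mul_assoc]; exact mul_mem hg (hN _ v.2)⟩
  have hf : ∀ v, f (f (f v)) = v := fun v => Subtype.ext (by
    show g⁻¹ * σ (g * (g⁻¹ * σ (g * (g⁻¹ * σ (g * v))))) = v
    rw [mul_inv_cancel_left, mul_inv_cancel_left,
      show σ (σ (σ (g * v))) = (σ ^ 3) (g * v) from rfl, hσ, MulAut.one_apply, inv_mul_cancel_left])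
  let π : Equiv.Perm N := ⟨f, fun v => f (f v), hf, hf⟩
  have hπ : π ^ 3 ^ 1 = 1 := Equiv.ext hf
  obtain ⟨v, hv⟩ := Equiv.Perm.exists_fixed_point_of_prime (by rwa [← Nat.card_eq_fintype_card]) hπ
  refine ⟨g * v, ?_, by rw [inv_mul_cancel_left]; exact v.2⟩
  have h1 : g⁻¹ * σ (g * v) = v := congrArg Subtype.val hv
  exact eq_mul_of_inv_mul_eq h1

/-- A `2`-group with an automorphism of order three without fixed points: the commutator with another
automorphism has order a power of two when it is, modulo inner automorphisms, of odd order prime to three and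
commutes with its commutator with its conjugate. -/
theorem exists_pow_two_eq_one {P : Type u} [Group P] [Finite P] (hP : IsPGroup 2 P) (s x : MulAut P)
    (hs : s ^ 3 = 1) (hfix : ∀ p, s p = p → p = 1) {n : ℕ} (hn : Odd n) (h3 : Nat.Coprime 3 n)
    (t c z : MulAut P) (htdef : t = x * s * x⁻¹ * s⁻¹) (hcdef : c = s ^ 2 * t * (s ^ 2)⁻¹)
    (hzdef : z = t * c * t⁻¹ * c⁻¹) (ht : t ^ n ∈ (MulAut.conj : P →* MulAut P).range)
    (hzn : z ^ n ∈ (MulAut.conj : P →* MulAut P).range)
    (hzt : z * t * z⁻¹ * t⁻¹ ∈ (MulAut.conj : P →* MulAut P).range)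
    (hzc : z * c * z⁻¹ * c⁻¹ ∈ (MulAut.conj : P →* MulAut P).range) : ∃ k, t ^ 2 ^ k = 1 := by
  induction hcard : Nat.card P using Nat.strong_induction_on generalizing P with
  | _ m ih =>
  subst hcard
  rcases subsingleton_or_nontrivial P with hsub | hnt
  · exact ⟨0, MulEquiv.ext fun _ => Subsingleton.elim _ _⟩
  haveI := Fact.mk Nat.prime_two
  -- the involutions of the centre
  let Z : Subgroup P :=
    { carrier := {v | v ∈ center P ∧ v * v = 1}
      one_mem' := ⟨one_mem _, one_mul 1⟩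
      mul_mem' := fun {a b} ha hb => ⟨mul_mem ha.1 hb.1, by
        rw [mul_assoc, ← mul_assoc b a b, mem_center_iff.1 ha.1 b, mul_assoc a b b, hb.2, mul_one, ha.2]⟩
      inv_mem' := fun {a} ha => ⟨inv_mem ha.1, by rw [← mul_inv_rev, ha.2, inv_one]⟩ }
  haveI hZc : Z.Characteristic := characteristic_iff_map_le.2 fun θ => by
    rintro _ ⟨v, hv, rfl⟩
    exact ⟨characteristic_iff_map_le.1 inferInstance θ (mem_map_of_mem _ hv.1), by
      show θ v * θ v = 1
      rw [← map_mul, hv.2, map_one]⟩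
  haveI : Z.Normal := inferInstance
  have hZne : Z ≠ ⊥ := by
    haveI := hP.center_nontrivial
    obtain ⟨v, hv⟩ := exists_prime_orderOf_dvd_card' (G := center P) 2 (by
      obtain ⟨i, hi⟩ := IsPGroup.iff_card.1 (hP.to_subgroup (center P))
      have := Finite.one_lt_card (α := center P)
      rcases Nat.eq_zero_or_pos i with rfl | hi0
      · rw [pow_zero] at hi; omega
      · rw [hi]; exact dvd_pow_self 2 hi0.ne')
    intro h0
    have hmem : (v : P) ∈ Z := ⟨v.2, by
      rw [← Subgroup.coe_mul, ← pow_two, ← hv, pow_orderOf_eq_one]; rfl⟩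
    rw [h0, mem_bot] at hmem
    rw [show v = 1 from Subtype.ext hmem, orderOf_one] at hv
    norm_num at hv
  have hinner : ∀ θ ∈ (MulAut.conj : P →* MulAut P).range, restrict Z θ = 1 := by
    rintro _ ⟨p, rfl⟩
    refine MulEquiv.ext fun v => Subtype.ext ?_
    show p * (v : P) * p⁻¹ = v
    rw [mem_center_iff.1 v.2.1 p, mul_inv_cancel_right]
  -- on `Z` the commutator is trivial
  letI : CommGroup Z := { (inferInstance : Group Z) with
    mul_comm := fun a b => Subtype.ext (mem_center_iff.1 b.2.1 a) }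
  let ι : MulAut Z →* (AddMonoid.End (Additive Z))ˣ := MonoidHom.toHomUnits
    { toFun := fun θ => MonoidHom.toAdditive θ.toMonoidHom
      map_one' := rfl
      map_mul' := fun _ _ => rfl }
  have hι : Function.Injective ι := fun a b h => MulEquiv.ext fun v =>
    congrArg Additive.toMul (DFunLike.congr_fun (congrArg Units.val h) (Additive.ofMul v))
  have h2E : (2 : AddMonoid.End (Additive Z)) = 0 := by
    refine AddMonoidHom.ext fun v => ?_
    rw [← one_add_one_eq_two]
    exact congrArg Additive.ofMul (Subtype.ext v.toMul.2.2 : v.toMul * v.toMul = 1)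
  have hsE : ((ι (restrict Z s) : AddMonoid.End (Additive Z))) ^ 2 + ι (restrict Z s) + 1 = 0 := by
    refine AddMonoidHom.ext fun v => ?_
    set w : P := ((v.toMul : Z) : P)
    have hw : w ∈ center P := v.toMul.2.1
    have hw1 : s w ∈ center P := (restrict Z s v.toMul).2.1
    have hw2 : s (s w) ∈ center P := (restrict Z s (restrict Z s v.toMul)).2.1
    have hfx : s (s (s w) * s w * w) = s (s w) * s w * w := by
      rw [map_mul, map_mul, show s (s (s w)) = (s ^ 3) w from rfl, hs, MulAut.one_apply, mul_assoc w,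
        ← mem_center_iff.1 hw (s (s w) * s w)]
    rw [pow_two]
    exact congrArg Additive.ofMul (Subtype.ext (hfix _ hfx) :
      restrict Z s (restrict Z s v.toMul) * restrict Z s v.toMul * v.toMul = 1)
  have hr1 : ∀ θ ∈ (MulAut.conj : P →* MulAut P).range, ι (restrict Z θ) = 1 := fun θ hθ => by
    rw [hinner θ hθ, map_one]
  have hcomm : ∀ a b : MulAut P, a * b * a⁻¹ * b⁻¹ ∈ (MulAut.conj : P →* MulAut P).range →
      Commute (ι (restrict Z a)) (ι (restrict Z b)) := fun a b h => by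
    have e := hr1 _ h
    simp only [map_mul, map_inv] at e
    rw [mul_inv_eq_one, mul_inv_eq_iff_eq_mul] at e
    exact e
  have htZ : ι (restrict Z t) = 1 := by
    have e := eq_one h2E (ι (restrict Z s)) (ι (restrict Z x)) hsE hn h3 (n := n)
    simp only [← map_inv, ← map_mul, ← map_pow, ← htdef, ← hcdef, ← hzdef] at e
    exact e (hr1 _ ht) (hcomm _ _ hzt) (hcomm _ _ hzc) (hr1 _ hzn)
  have htZ' : ∀ v ∈ Z, t v = v := fun v hv => by
    have e := hι (htZ.trans ι.map_one.symm)
    exact congrArg Subtype.val (DFunLike.congr_fun e (⟨v, hv⟩ : Z))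
  -- the quotient
  set q := onQuot Z
  have hq : ∀ θ ∈ (MulAut.conj : P →* MulAut P).range, q θ ∈ (MulAut.conj : P ⧸ Z →* MulAut (P ⧸ Z)).range := by
    rintro _ ⟨p, rfl⟩
    refine ⟨QuotientGroup.mk' Z p, MulEquiv.ext fun y => ?_⟩
    obtain ⟨y, rfl⟩ := QuotientGroup.mk'_surjective Z y
    rfl
  have hfixq : ∀ y : P ⧸ Z, q s y = y → y = 1 := by
    intro y hy
    obtain ⟨w, rfl⟩ := QuotientGroup.mk'_surjective Z y
    have hZ3 : ¬ 3 ∣ Nat.card Z := by
      obtain ⟨i, hi⟩ := IsPGroup.iff_card.1 (hP.to_subgroup Z)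
      rw [hi]
      exact fun h => by
        have := (Nat.prime_dvd_prime_iff_eq Nat.prime_three Nat.prime_two).1 (Nat.prime_three.dvd_of_dvd_pow h)
        omega
    obtain ⟨h, hh, hwh⟩ := exists_fixed_rep Z hZ3 s hs (fun v hv => (restrict Z s ⟨v, hv⟩).2) w
      (QuotientGroup.eq.1 hy.symm)
    rw [hfix h hh, mul_one] at hwh
    exact (QuotientGroup.eq_one_iff w).2 (inv_mem_iff.1 hwh)
  have hlt : Nat.card (P ⧸ Z) < Nat.card P := by
    rw [← Subgroup.index_eq_card, ← Z.card_mul_index]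
    exact lt_mul_of_one_lt_left (Nat.pos_of_ne_zero Z.index_ne_zero_of_finite) ((one_lt_card_iff_ne_bot Z).2 hZne)
  obtain ⟨k, hk⟩ := ih _ hlt (hP.to_quotient Z) (q s) (q x) (by rw [← map_pow, hs, map_one]) hfixq (q t) (q c)
    (q z) (by rw [htdef]; simp only [map_mul, map_inv]) (by rw [hcdef]; simp only [map_mul, map_inv, map_pow])
    (by rw [hzdef]; simp only [map_mul, map_inv]) (by rw [← map_pow]; exact hq _ ht)
    (by rw [← map_pow]; exact hq _ hzn)
    (by simp only [← map_inv, ← map_mul]; exact hq _ hzt)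
    (by simp only [← map_inv, ← map_mul]; exact hq _ hzc) rfl
  refine ⟨k + 1, MulEquiv.ext fun p => ?_⟩
  set u := t ^ 2 ^ k with hu
  have huZ : ∀ v ∈ Z, u v = v := fun v hv => by
    have hst : t ∈ MulAction.stabilizer (MulAut P) v := htZ' v hv
    exact pow_mem hst (2 ^ k)
  have hd : p⁻¹ * u p ∈ Z := by
    have e : q u (QuotientGroup.mk' Z p) = QuotientGroup.mk' Z p := by rw [hu, map_pow, hk, MulAut.one_apply]
    exact QuotientGroup.eq.1 e.symm
  rw [pow_succ, pow_mul, ← hu, pow_two, MulAut.one_apply]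
  show u (u p) = p
  obtain ⟨d, hdd, e⟩ : ∃ d ∈ Z, u p = p * d := ⟨_, hd, (mul_inv_cancel_left p (u p)).symm⟩
  rw [e, map_mul, huZ d hdd, e, mul_assoc, hdd.2, mul_one]

variable {G : Type u} [Group G] [Finite G]

/-- The simple groups of order prime to three: an automorphism of order three fixes an involution. -/
theorem exists_fixed_involution [IsSimpleGroup G]
    (hgold : ∀ (S : Sylow 2 G) (A : Subgroup G), A ≠ ⊥ → IsMulCommutative A →
      Cfsg.IsStronglyClosed A (S : Subgroup G) →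
      IsMulCommutative (S : Subgroup G) ∨ ∃ H : Subgroup G, Cfsg.IsStronglyEmbedded H)
    (hna : ¬ IsMulCommutative G) (h3 : ¬ 3 ∣ Nat.card G) (θ : MulAut G) (hθ : θ ^ 3 = 1) :
    ∃ u : G, orderOf u = 2 ∧ θ u = u := by
  obtain ⟨F, iF, iF', m, hm, hF, ⟨e₀⟩⟩ := CfsgLib.Gold.FourFreeList.isoSuzuki_of_prime_to_three hgold hna h3
  obtain ⟨e₁⟩ := CfsgLib.Lie.Suz.exists_twEquiv (F := F) hm hF
  let e : G ≃* Cfsg.Sz F m := e₀.trans e₁.symm
  haveI : Finite (Cfsg.Sz F m) := Finite.of_equiv _ e.toEquiv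
  let η : MulAut (Cfsg.Sz F m) := (e.symm.trans θ).trans e
  haveI : Fact (Nat.Prime 3) := ⟨Nat.prime_three⟩
  haveI : Fact (Nat.Prime 2) := ⟨Nat.prime_two⟩
  have hη : η ^ 3 = 1 := MulEquiv.ext fun y => by
    show η (η (η y)) = y
    show e (θ (e.symm (e (θ (e.symm (e (θ (e.symm y)))))))) = y
    rw [e.symm_apply_apply, e.symm_apply_apply,
      show θ (θ (θ (e.symm y))) = (θ ^ 3) (e.symm y) from rfl, hθ, MulAut.one_apply, e.apply_symm_apply]
  obtain ⟨P⟩ : Nonempty (Sylow 3 (ComponentThree.fieldHom hm hF).range) := inferInstance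
  have hPidx : ¬ 3 ∣ ((P : Subgroup (ComponentThree.fieldHom hm hF).range).map
      (ComponentThree.fieldHom hm hF).range.subtype).index := by
    rw [Subgroup.index_map_subtype]
    exact Nat.Prime.not_dvd_mul Nat.prime_three P.not_dvd_index
      (ComponentThree.index_range_fieldHom hm hF ▸ ComponentThree.three_not_dvd hm hF)
  let Q : Sylow 3 (MulAut (Cfsg.Sz F m)) :=
    (P.2.map (ComponentThree.fieldHom hm hF).range.subtype).toSylow hPidx
  obtain ⟨Q', hQ'⟩ := IsPGroup.exists_le_sylow (p := 3) (P := zpowers η) (fun y => by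
    obtain ⟨i, hi⟩ := mem_zpowers_iff.1 y.2
    exact ⟨1, Subtype.ext (by
      rw [Subgroup.coe_pow, ← hi, pow_one, ← zpow_natCast, ← zpow_mul, mul_comm, zpow_mul, zpow_natCast, hη,
        one_zpow]; rfl)⟩)
  obtain ⟨g, hg⟩ := MulAction.exists_smul_eq (MulAut (Cfsg.Sz F m)) Q' Q
  have hgQ : g * η * g⁻¹ ∈ (Q : Subgroup (MulAut (Cfsg.Sz F m))) := by
    rw [← hg, Sylow.coe_subgroup_smul]
    exact ⟨η, hQ' (mem_zpowers η), rfl⟩
  obtain ⟨⟨_, τ, rfl⟩, -, hτ⟩ := hgQ
  replace hτ : ComponentThree.fieldHom hm hF τ = g * η * g⁻¹ := hτ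
  set w : Cfsg.Sz F m := CfsgLib.Lie.Suz.TS hF 0 1
  have hw : g (η (g⁻¹ w)) = w := by
    show (g * η * g⁻¹) w = w
    rw [← hτ]
    show CfsgLib.Lie.Suz.sigAut hm hF τ _ = _
    rw [CfsgLib.Lie.Suz.sigAut_TS, map_zero, map_one]
  have hw1 : orderOf w = 2 := by
    haveI := CfsgLib.Lie.Suz.charTwo (m := m) hF
    refine orderOf_eq_prime ?_ fun h => ?_
    · rw [pow_two, CfsgLib.Lie.Suz.TS_mul' hF]
      simp [CharTwo.add_self_eq_zero]
      exact CfsgLib.Lie.Suz.TS_zero' hF
    · have := CfsgLib.Lie.Suz.TS_injective hF (a₁ := (0, 1)) (a₂ := (0, 0))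
        (h.trans (CfsgLib.Lie.Suz.TS_zero' hF).symm)
      exact one_ne_zero (congrArg Prod.snd this)
  refine ⟨e.symm (g⁻¹ w), by rw [MulEquiv.orderOf_eq, MulEquiv.orderOf_eq, hw1], e.injective ?_⟩
  rw [e.apply_symm_apply]
  show η (g⁻¹ w) = g⁻¹ w
  exact g.injective (hw.trans (g.apply_symm_apply w).symm)

/-- A `3'`-group with an automorphism of order dividing three all of whose fixed points have odd order is
solvable. -/
theorem solvable_of_odd_fixed
    (hgold : ∀ (X : Type u) [Group X] [Finite X] [IsSimpleGroup X] (S : Sylow 2 X) (A : Subgroup X), A ≠ ⊥ →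
      IsMulCommutative A → Cfsg.IsStronglyClosed A (S : Subgroup X) →
      IsMulCommutative (S : Subgroup X) ∨ ∃ H : Subgroup X, Cfsg.IsStronglyEmbedded H) :
    ∀ (G : Type u) [Group G] [Finite G], ¬ 3 ∣ Nat.card G → ∀ σ : MulAut G, σ ^ 3 = 1 →
      (∀ g, σ g = g → Odd (orderOf g)) → Group.IsSolvable G := by
  intro G _ _
  induction hn : Nat.card G using Nat.strong_induction_on generalizing G with
  | _ m ih =>
  subst hn
  intro h3 σ hσ hfix
  classical
  by_cases hex : ∃ N : Subgroup G, N.Normal ∧ N ≠ ⊥ ∧ N ≠ ⊤ ∧ ∀ x ∈ N, σ x ∈ N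
  · obtain ⟨N, hN, hb, ht, hinv⟩ := hex
    haveI := hN
    have hmap : N.map σ.toMonoidHom = N := eq_of_le_of_card_ge
      (by rintro _ ⟨x, hx, rfl⟩; exact hinv x hx) (by rw [card_map_of_injective σ.injective])
    haveI h1 : Group.IsSolvable N := by
      let σN : MulAut N := (σ.subgroupMap N).trans (MulEquiv.subgroupCongr hmap)
      refine ih _ (lt_of_le_of_ne (Nat.le_of_dvd Nat.card_pos (card_subgroup_dvd_card N))
        fun e => ht (eq_top_of_card_eq N e)) N rfl (fun h => h3 (h.trans (card_subgroup_dvd_card N))) σN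
        (MulEquiv.ext fun x => Subtype.ext ?_) fun x hx => ?_
      · show σ (σ (σ x)) = x
        rw [show σ (σ (σ (x : G))) = (σ ^ 3) (x : G) from rfl, hσ]; rfl
      · rw [← Subgroup.orderOf_coe]; exact hfix x (congrArg Subtype.val hx)
    have h2 : Group.IsSolvable (G ⧸ N) := by
      let σQ : MulAut (G ⧸ N) := QuotientGroup.congr N N σ hmap
      have hlt : Nat.card (G ⧸ N) < Nat.card G := by
        rw [← Subgroup.index_eq_card, ← N.card_mul_index]
        exact lt_mul_of_one_lt_left (Nat.pos_of_ne_zero N.index_ne_zero_of_finite) ((one_lt_card_iff_ne_bot N).2 hb)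
      refine ih _ hlt (G ⧸ N) rfl (fun h => h3 (h.trans (card_quotient_dvd_card N))) σQ
        (MulEquiv.ext fun x => ?_) fun x hx => ?_
      · obtain ⟨x, rfl⟩ := QuotientGroup.mk'_surjective N x
        show QuotientGroup.mk' N (σ (σ (σ x))) = _
        rw [show σ (σ (σ x)) = (σ ^ 3) x from rfl, hσ]; rfl
      · obtain ⟨x, rfl⟩ := QuotientGroup.mk'_surjective N x
        obtain ⟨h, hh, hxh⟩ := exists_fixed_rep N (fun h => h3 (h.trans (card_subgroup_dvd_card N))) σ hσ hinv x
          (QuotientGroup.eq.1 hx.symm)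
        rw [show QuotientGroup.mk' N x = QuotientGroup.mk' N h from QuotientGroup.eq.2 hxh]
        exact Odd.of_dvd_nat (hfix h hh) (orderOf_map_dvd _ h)
    rw [Group.isSolvable_iff_subgroup_quotient N]
    exact ⟨h1, h2⟩
  push Not at hex
  rcases subsingleton_or_nontrivial G with hsub | hnt
  · exact Group.isSolvable_of_comm fun a b => Subsingleton.elim _ _
  obtain ⟨L, hL⟩ := Set.Finite.exists_minimal (Set.toFinite {L : Subgroup G | L.Normal ∧ L ≠ ⊥})
    ⟨⊤, inferInstance, top_ne_bot⟩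
  haveI := hL.prop.1
  by_cases hLt : L = ⊤
  · haveI : IsSimpleGroup G := ⟨fun N hN => or_iff_not_imp_left.2 fun hb =>
      top_le_iff.1 (hLt ▸ hL.le_of_le (show N ∈ {L : Subgroup G | L.Normal ∧ L ≠ ⊥} from ⟨hN, hb⟩)
        (hLt ▸ le_top))⟩
    by_cases hc : IsMulCommutative G
    · exact Group.isSolvable_of_comm fun a b => isMulCommutative_iff.1 hc a b
    · obtain ⟨u, hu, hσu⟩ := exists_fixed_involution (hgold G) hc h3 σ hσ
      have := hfix u hσu
      rw [hu] at this
      exact absurd this (by decide)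
  set c := σ.toMonoidHom
  set M := L.map c with hMd
  set M' := M.map c with hM'd
  haveI hMn : M.Normal := hL.prop.1.map _ σ.surjective
  haveI hM'n : M'.Normal := hMn.map _ σ.surjective
  have hc3 : ∀ y, σ (σ (σ y)) = y := fun y => by
    rw [show σ (σ (σ y)) = (σ ^ 3) y from rfl, hσ]; rfl
  have hJ : L ⊔ M ⊔ M' = ⊤ := by
    refine hex (L ⊔ M ⊔ M') inferInstance (fun h => hL.prop.2 (le_bot_iff.1 (h ▸ le_sup_of_le_left le_sup_left)))
      |> fun h => by_contra fun hne => ?_
    obtain ⟨y, hy, hy'⟩ := h hne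
    refine hy' ?_
    have hle : (L ⊔ M ⊔ M').map c ≤ L ⊔ M ⊔ M' := by
      rw [Subgroup.map_sup, Subgroup.map_sup]
      refine sup_le (sup_le (le_sup_of_le_left le_sup_right) le_sup_right) (le_sup_of_le_left (le_sup_of_le_left ?_))
      rintro _ ⟨_, ⟨_, ⟨v, hv, rfl⟩, rfl⟩, rfl⟩
      show σ (σ (σ v)) ∈ L
      rwa [hc3]
    exact hle (mem_map_of_mem c hy)
  have hne1 : L ≠ M := fun e => hLt (by rwa [hM'd, ← e, ← hMd, ← e, sup_idem, sup_idem] at hJ)
  have hne2 : M ≠ M' := fun e => hne1 (map_injective (f := c) σ.injective (hMd.symm.trans e))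
  have hM3 : M'.map c = L := by
    ext y
    constructor
    · rintro ⟨_, ⟨_, ⟨v, hv, rfl⟩, rfl⟩, rfl⟩
      show σ (σ (σ v)) ∈ L
      rwa [hc3]
    · exact fun hy => ⟨σ (σ y), ⟨σ y, ⟨y, hy, rfl⟩, rfl⟩, hc3 y⟩
  have hne3 : M' ≠ L := fun e => hne2 (map_injective (f := c) σ.injective (by
    rw [← hM'd, hM3, e]))
  have hmin : ∀ X : Subgroup G, X.Normal → X ≤ L → X = ⊥ ∨ X = L := fun X hX hle => by
    by_cases hb : X = ⊥
    · exact Or.inl hb
    · exact Or.inr (le_antisymm hle (hL.le_of_le ⟨hX, hb⟩ hle))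
  have hcardM : Nat.card M = Nat.card L := card_map_of_injective σ.injective
  have hcardM' : Nat.card M' = Nat.card L := (card_map_of_injective σ.injective).trans hcardM
  have hdis : ∀ X : Subgroup G, X.Normal → Nat.card X = Nat.card L → L ≠ X → L ⊓ X = ⊥ := by
    intro X hX hcard hne
    haveI := hX
    rcases hmin (L ⊓ X) inferInstance inf_le_left with h | h
    · exact h
    · exact absurd (eq_of_le_of_card_ge (inf_eq_left.1 h) hcard.le) hne
  have hLM : ∀ a ∈ L, ∀ b ∈ M, a * b = b * a := fun a ha b hb =>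
    Subgroup.commute_of_normal_of_disjoint L M hL.prop.1 hMn (disjoint_iff.2 (hdis M hMn hcardM hne1)) a b ha hb
  have hLM' : ∀ a ∈ L, ∀ b ∈ M', a * b = b * a := fun a ha b hb =>
    Subgroup.commute_of_normal_of_disjoint L M' hL.prop.1 hM'n
      (disjoint_iff.2 (hdis M' hM'n hcardM' hne3.symm)) a b ha hb
  have hMM' : ∀ a ∈ M, ∀ b ∈ M', a * b = b * a := by
    rintro _ ⟨a, ha, rfl⟩ _ ⟨b, hb, rfl⟩
    show σ a * σ b = σ b * σ a
    rw [← map_mul, hLM a ha b hb, map_mul]
  have hm1 : ∀ v : L, σ v ∈ M := fun v => ⟨v, v.2, rfl⟩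
  have hm2 : ∀ v : L, σ (σ v) ∈ M' := fun v => ⟨σ v, hm1 v, rfl⟩
  let f : L →* G := MonoidHom.mk' (fun v => (v : G) * σ v * σ (σ v)) fun a b => by
    simp only [Subgroup.coe_mul, map_mul]
    calc (a : G) * b * (σ a * σ b) * (σ (σ a) * σ (σ b))
        = (a : G) * (b * σ a) * σ b * σ (σ a) * σ (σ b) := by group
      _ = (a : G) * (σ a * b) * σ b * σ (σ a) * σ (σ b) := by rw [hLM b b.2 _ (hm1 a)]
      _ = (a : G) * σ a * (b * (σ b * σ (σ a))) * σ (σ b) := by group
      _ = (a : G) * σ a * (b * (σ (σ a) * σ b)) * σ (σ b) := by rw [hMM' _ (hm1 b) _ (hm2 a)]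
      _ = (a : G) * σ a * (b * σ (σ a)) * σ b * σ (σ b) := by group
      _ = (a : G) * σ a * (σ (σ a) * b) * σ b * σ (σ b) := by rw [hLM' b b.2 _ (hm2 a)]
      _ = _ := by group
  haveI : Group.IsSolvable f.range := by
    refine CfsgLib.FT.isSolvable_of_odd _ (Nat.not_even_iff_odd.1 fun he => ?_)
    haveI := Fact.mk Nat.prime_two
    obtain ⟨⟨_, v, rfl⟩, hy⟩ := exists_prime_orderOf_dvd_card' (G := f.range) 2 (even_iff_two_dvd.1 he)
    rw [← Subgroup.orderOf_coe] at hy
    have := hfix (f v) (by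
      show σ ((v : G) * σ v * σ (σ v)) = (v : G) * σ v * σ (σ v)
      rw [map_mul, map_mul, hc3, mul_assoc (σ (v : G)), ← hLM' v v.2 _ (hm2 v), ← mul_assoc,
        ← hLM v v.2 _ (hm1 v)])
    rw [hy] at this
    exact absurd this (by decide)
  have hker : f.ker ≤ center L := fun k hk => by
    have e : (k : G) * σ k * σ (σ k) = 1 := hk
    refine mem_center_iff.2 fun y => Subtype.ext ?_
    show (y : G) * k = k * y
    rw [show (k : G) = (σ k * σ (σ k))⁻¹ from eq_inv_of_mul_eq_one_left (by rw [← mul_assoc]; exact e)]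
    exact ((Commute.mul_right (hLM y y.2 _ (hm1 k)) (hLM' y y.2 _ (hm2 k))).inv_right).eq
  haveI : Group.IsSolvable (center L) := Group.isSolvable_of_comm fun a b => Subtype.ext (mem_center_iff.1 b.2 a.1)
  haveI hLs : Group.IsSolvable L := by
    rw [Group.isSolvable_iff_subgroup_quotient f.ker]
    exact ⟨Group.isSolvable_of_isSolvable_injective (f := Subgroup.inclusion hker) (inclusion_injective hker),
      Group.isSolvable_of_isSolvable_injective (f := (QuotientGroup.quotientKerEquivRange f).toMonoidHom)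
        (MulEquiv.injective _)⟩
  have hMs : Group.IsSolvable M :=
    Group.isSolvable_of_surjective (f := c.subgroupMap L) (c.subgroupMap_surjective L)
  have hM's : Group.IsSolvable M' := by
    haveI := hMs
    exact Group.isSolvable_of_surjective (f := c.subgroupMap M) (c.subgroupMap_surjective M)
  haveI := CfsgLib.FrobSystem.isSolvable_sup (CfsgLib.FrobSystem.isSolvable_sup hLs hMs) hM's
  exact Group.isSolvable_of_surjective
    (f := ((MulEquiv.subgroupCongr hJ).trans Subgroup.topEquiv).toMonoidHom) (MulEquiv.surjective _)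

/-- An automorphism of order three of a solvable `3'`-group with trivial odd core acts trivially modulo `O₂`. -/
theorem inv_mul_mem_pCore [Group.IsSolvable G] (h3 : ¬ 3 ∣ Nat.card G) (hO : Cfsg.pPrimeCore 2 G = ⊥)
    (σ : MulAut G) (hσ : σ ^ 3 = 1) (hfix : ∀ g, σ g = g → Odd (orderOf g)) (g : G) :
    g⁻¹ * σ g ∈ Cfsg.pCore 2 G := by
  haveI := Fact.mk Nat.prime_two
  haveI hPchar : (Cfsg.pCore 2 G).Characteristic := CfsgLib.Coprime.pCore_characteristic 2
  haveI hPn : (Cfsg.pCore 2 G).Normal := inferInstance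
  set P := Cfsg.pCore 2 G with hPdef
  have hP2 : IsPGroup 2 P := CfsgLib.Coprime.pCore_isPGroup 2
  have hC : centralizer (P : Set G) ≤ P := CfsgLib.Coprime.centralizer_pCore_le hO
  set s := restrict P σ
  have hs : s ^ 3 = 1 := by rw [← map_pow, hσ, map_one]
  have hsfix : ∀ p : P, s p = p → p = 1 := fun p hp => by
    have h1 := hfix p (congrArg Subtype.val hp)
    obtain ⟨i, hi⟩ := hP2 p
    rw [Subgroup.orderOf_coe] at h1
    exact orderOf_eq_one_iff.1 (Nat.eq_one_of_dvd_coprimes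
      (Nat.Coprime.pow_left i (Nat.coprime_two_left.2 h1)) (orderOf_dvd_of_pow_eq_one hi) dvd_rfl)
  let φ : G →* MulAut P := MulAut.conjNormal
  have hφσ : ∀ w, φ (σ w) = s * φ w * s⁻¹ := fun w => MulEquiv.ext fun p => Subtype.ext (by
    obtain ⟨p, rfl⟩ := s.surjective p
    show σ w * σ (p : G) * (σ w)⁻¹ = σ ((φ w (s⁻¹ (s p)) : P) : G)
    rw [show s⁻¹ (s p) = p from s.symm_apply_apply p, MulAut.conjNormal_apply, map_mul, map_mul, map_inv])
  have hφP : ∀ w ∈ P, φ w ∈ (MulAut.conj : P →* MulAut P).range := fun w hw =>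
    ⟨⟨w, hw⟩, MulEquiv.ext fun p => Subtype.ext rfl⟩
  -- the quotient by `P`
  have hY2 : Cfsg.pCore 2 (G ⧸ P) = ⊥ := CfsgLib.Coprime.pCore_quotient_eq_bot 2
  set F := Cfsg.fittingSubgroup (G ⧸ P)
  haveI hFc : F.Characteristic := CfsgLib.Coprime.fitting_characteristic
  haveI hFnil : Group.IsNilpotent F := CfsgLib.Coprime.fitting_isNilpotent
  have hFodd : Odd (Nat.card F) := by
    by_contra he
    rw [Nat.not_odd_iff_even, even_iff_two_dvd] at he
    obtain ⟨T⟩ : Nonempty (Sylow 2 F) := inferInstance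
    haveI hTn : (T : Subgroup F).Normal :=
      ((Group.isNilpotent_of_finite_tfae (G := F)).out 0 3 rfl rfl).1 hFnil 2 ⟨Nat.prime_two⟩ T
    haveI : (T : Subgroup F).Characteristic := Sylow.characteristic_of_normal T hTn
    haveI : ((T : Subgroup F).map F.subtype).Normal := inferInstance
    have hle := CfsgLib.Coprime.le_pCore (T.2.map F.subtype)
    rw [hY2, le_bot_iff, map_eq_bot_iff_of_injective _ F.subtype_injective] at hle
    exact T.ne_bot_of_dvd_card he hle
  have hF3 : Nat.Coprime 3 (Nat.card F) := (Nat.Prime.coprime_iff_not_dvd Nat.prime_three).2 fun h =>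
    h3 ((h.trans (card_subgroup_dvd_card F)).trans (card_quotient_dvd_card P))
  let σY : MulAut (G ⧸ P) := onQuot P σ
  let σF : MulAut F := restrict F σY
  -- the upper central series of `F` is fixed
  have key : ∀ k : ℕ, ∀ f ∈ Subgroup.upperCentralSeries F k, σF f = f := by
    intro k
    induction k with
    | zero => intro f hf; rw [Subgroup.upperCentralSeries_zero, mem_bot] at hf; rw [hf, map_one]
    | succ k ihk =>
      intro f hf
      have hinv : ∀ (j : ℕ) (θ : MulAut F) (v : F), v ∈ Subgroup.upperCentralSeries F j → θ v ∈ Subgroup.upperCentralSeries F j :=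
        fun j θ v hv => characteristic_iff_map_le.1 inferInstance θ (mem_map_of_mem _ hv)
      set d := f * (σF f)⁻¹ with hd
      have hdc : ∀ e ∈ Subgroup.upperCentralSeries F k, Commute d e := fun e he => by
        have h1 := ihk (f⁻¹ * e * f) (by
          simpa using (inferInstance : (Subgroup.upperCentralSeries F k).Normal).conj_mem e he f⁻¹)
        rw [map_mul, map_mul, map_inv, ihk e he] at h1
        show f * (σF f)⁻¹ * e = e * (f * (σF f)⁻¹)
        calc f * (σF f)⁻¹ * e = f * ((σF f)⁻¹ * e * σF f) * (σF f)⁻¹ := by group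
          _ = _ := by rw [h1]; group
      have hdk : d ∈ Subgroup.upperCentralSeries F (k + 1) := mul_mem hf (inv_mem (hinv _ _ _ hf))
      set d' := (σF ^ 2) d
      have hz : d * d' * d⁻¹ * d'⁻¹ ∈ Subgroup.upperCentralSeries F k := Subgroup.mem_upperCentralSeries_succ_iff.1 hdk d'
      have hzd : Commute (d * d' * d⁻¹ * d'⁻¹) d := (hdc _ hz).symm
      have hzd' : Commute (d * d' * d⁻¹ * d'⁻¹) d' := by
        have h1 := ((hdc _ hz).map (σF ^ 2).toMonoidHom).symm
        have h2 : (σF ^ 2) (d * d' * d⁻¹ * d'⁻¹) = d * d' * d⁻¹ * d'⁻¹ := by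
          rw [pow_two, MulAut.mul_apply, ihk _ hz, ihk _ hz]
        simpa [MulEquiv.coe_toMonoidHom, h2] using h1
      obtain ⟨g₀, hg₀⟩ := QuotientGroup.mk'_surjective P (f : G ⧸ P)
      set w := g₀ * (σ g₀)⁻¹ with hw
      set w' := σ (σ w) with hw'
      have hwd : QuotientGroup.mk' P w = (d : G ⧸ P) := by
        rw [hw, map_mul, map_inv, hd, Subgroup.coe_mul, Subgroup.coe_inv, ← onQuot_mk, hg₀]; rfl
      have hwd' : QuotientGroup.mk' P w' = (d' : G ⧸ P) := by
        rw [hw', ← onQuot_mk, ← onQuot_mk, hwd]; rfl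
      have hmem : ∀ v : G, (QuotientGroup.mk' P v) = 1 → φ v ∈ (MulAut.conj : P →* MulAut P).range :=
        fun v hv => hφP v ((QuotientGroup.eq_one_iff v).1 hv)
      have hct : φ w' = s ^ 2 * φ w * (s ^ 2)⁻¹ := by rw [hw', hφσ, hφσ, pow_two]; group
      obtain ⟨i, hi⟩ := exists_pow_two_eq_one hP2 s (φ g₀) hs hsfix hFodd hF3 (φ w) (φ w')
        (φ w * φ w' * (φ w)⁻¹ * (φ w')⁻¹)
        (by rw [hw, map_mul, map_inv, hφσ]; group) hct rfl
        (by rw [← map_pow]; exact hmem _ (by rw [map_pow, hwd, ← Subgroup.coe_pow, pow_card_eq_one']; rfl))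
        (by
          simp only [← map_inv, ← map_mul, ← map_pow]
          refine hmem _ ?_
          simp only [map_pow, map_mul, map_inv, hwd, hwd', ← Subgroup.coe_inv, ← Subgroup.coe_mul,
            ← Subgroup.coe_pow, pow_card_eq_one']; rfl)
        (by
          simp only [← map_inv, ← map_mul]
          refine hmem _ ?_
          simp only [map_mul, map_inv, hwd, hwd', ← Subgroup.coe_inv, ← Subgroup.coe_mul]
          rw [hzd.eq, mul_inv_cancel_right, mul_inv_cancel]; rfl)
        (by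
          simp only [← map_inv, ← map_mul]
          refine hmem _ ?_
          simp only [map_mul, map_inv, hwd, hwd', ← Subgroup.coe_inv, ← Subgroup.coe_mul]
          rw [hzd'.eq, mul_inv_cancel_right, mul_inv_cancel]; rfl)
      have hwP : w ^ 2 ^ i ∈ P := hC (mem_centralizer_iff.2 fun p hp => by
        have h1 : φ (w ^ 2 ^ i) (⟨p, hp⟩ : P) = ⟨p, hp⟩ := by rw [map_pow, hi]; rfl
        have h2 := congrArg Subtype.val h1
        rw [MulAut.conjNormal_apply] at h2
        exact (mul_inv_eq_iff_eq_mul.1 h2).symm)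
      have hd1 : d = 1 := orderOf_eq_one_iff.1 (Nat.eq_one_of_dvd_coprimes
        (Nat.Coprime.pow_left i (Nat.coprime_two_left.2 hFodd))
        (orderOf_dvd_of_pow_eq_one (Subtype.ext (by
          rw [Subgroup.coe_pow, ← hwd, ← map_pow]; exact (QuotientGroup.eq_one_iff _).2 hwP)))
        (orderOf_dvd_natCard d))
      exact (mul_inv_eq_one.1 hd1).symm
  obtain ⟨k, hk⟩ := Group.IsNilpotent.nilpotent F
  have hFfix : ∀ f ∈ F, σY f = f := fun f hf => congrArg Subtype.val (key k ⟨f, hf⟩ (hk ▸ mem_top _))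
  -- `σ` acts trivially on `G ⧸ P`
  haveI : Group.IsSolvable (G ⧸ P) := inferInstance
  have hσY : ∀ y, σY y = y := by
    intro y
    set d := y⁻¹ * σY y with hd
    have hdC : d ∈ centralizer (F : Set (G ⧸ P)) := mem_centralizer_iff.2 fun f hf => by
      have h1 := hFfix (y * f * y⁻¹) ((inferInstance : F.Normal).conj_mem f hf y)
      rw [map_mul, map_mul, map_inv, hFfix f hf] at h1
      calc f * d = y⁻¹ * (y * f * y⁻¹) * σY y := by rw [hd]; group
        _ = y⁻¹ * (σY y * f * (σY y)⁻¹) * σY y := by rw [h1]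
        _ = d * f := by rw [hd]; group
    have hdfix := hFfix d (CfsgLib.Coprime.centralizer_fitting_le hdC)
    have hy1 : σY y = y * d := by rw [hd, mul_inv_cancel_left]
    have hσY3 : σY (σY (σY y)) = y := by
      rw [show σY (σY (σY y)) = (σY ^ 3) y from rfl, ← map_pow, hσ, map_one, MulAut.one_apply]
    rw [hy1, map_mul, hy1, hdfix, map_mul, map_mul, hy1, hdfix, mul_assoc, mul_assoc] at hσY3
    have hd3 : d ^ 3 = 1 := by rw [pow_three]; exact mul_left_cancel (hσY3.trans (mul_one y).symm)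
    have hd1 : d = 1 := orderOf_eq_one_iff.1 (Nat.eq_one_of_dvd_coprimes
      ((Nat.Prime.coprime_iff_not_dvd Nat.prime_three).2 fun h => h3 (h.trans (card_quotient_dvd_card P)))
      (orderOf_dvd_of_pow_eq_one hd3) (orderOf_dvd_natCard d))
    rw [hy1, hd1, mul_one]
  exact QuotientGroup.eq.1 (hσY (QuotientGroup.mk' P g)).symm

/-- The statement of S3040, given Goldschmidt's theorem. -/
theorem fpf_sym_three
    (hgold : ∀ (X : Type u) [Group X] [Finite X] [IsSimpleGroup X] (S : Sylow 2 X) (A : Subgroup X), A ≠ ⊥ →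
      IsMulCommutative A → Cfsg.IsStronglyClosed A (S : Subgroup X) →
      IsMulCommutative (S : Subgroup X) ∨ ∃ H : Subgroup X, Cfsg.IsStronglyEmbedded H)
    (h3 : ¬ 3 ∣ Nat.card G) (Sig : Subgroup (MulAut G)) (hS3 : Nonempty (↥Sig ≃* Equiv.Perm (Fin 3)))
    (hfpf : ∀ g : G, (∀ σ ∈ Sig, σ g = g) → g = 1) :
    Group.IsSolvable G ∧ ¬ 2 ∣ (Cfsg.pPrimePCore 2 G).index ∧ ∀ σ ∈ Sig, orderOf σ = 3 →
      Cfsg.pPrimePCore 2 G ⊔ Subgroup.closure {g : G | σ g = g} = ⊤ := by
  haveI := Fact.mk Nat.prime_two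
  obtain ⟨e⟩ := hS3
  have hdec : ∀ a : Equiv.Perm (Fin 3), a * a * a = 1 → a ≠ 1 →
      Equiv.swap 0 1 * a * Equiv.swap 0 1 = a * a ∧ ∀ b : Equiv.Perm (Fin 3),
        b = 1 ∨ b = a ∨ b = a * a ∨ b = Equiv.swap 0 1 ∨ b = Equiv.swap 0 1 * a ∨ b = Equiv.swap 0 1 * (a * a) := by
    decide
  set τ : MulAut G := ((e.symm (Equiv.swap 0 1) : Sig) : MulAut G)
  -- the fixed points of an element of order three have odd order
  have hodd : ∀ σ ∈ Sig, orderOf σ = 3 → ∀ g, σ g = g → Odd (orderOf g) := by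
    intro σ hσS hσ g hg
    set a := e ⟨σ, hσS⟩ with ha
    have hao : orderOf a = 3 := by rw [ha, MulEquiv.orderOf_eq, Subgroup.orderOf_mk, hσ]
    obtain ⟨hinv, hall⟩ := hdec a
      (by
        calc a * a * a = a ^ orderOf a := by rw [hao, pow_succ, pow_two]
          _ = 1 := pow_orderOf_eq_one a)
      (fun h => by rw [h, orderOf_one] at hao; norm_num at hao)
    have htst : τ * σ = σ * σ * τ := by
      have h1 : (e.symm (Equiv.swap 0 1)) * ⟨σ, hσS⟩ * e.symm (Equiv.swap 0 1) =
          (⟨σ, hσS⟩ : Sig) * ⟨σ, hσS⟩ := e.injective (by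
        simp only [map_mul, MulEquiv.apply_symm_apply]; exact hinv)
      have h2 : τ * σ * τ = σ * σ := congrArg Subtype.val h1
      have h3 : τ * τ = 1 := by
        rw [← Subgroup.coe_mul, ← map_mul, Equiv.swap_mul_self, map_one, Subgroup.coe_one]
      rw [← h2, mul_assoc, h3, mul_one]
    let C : Subgroup G :=
      { carrier := {v | σ v = v}
        one_mem' := map_one σ
        mul_mem' := fun {u v} hu hv => by show σ (u * v) = u * v; rw [map_mul, hu, hv]
        inv_mem' := fun {u} hu => by show σ u⁻¹ = u⁻¹; rw [map_inv, hu] }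
    have hτC : ∀ v ∈ C, τ v ∈ C := fun v (hv : σ v = v) => by
      show σ (τ v) = τ v
      have hσσ : σ (σ (τ v)) = τ v := by
        show (σ * σ * τ) v = τ v
        rw [← htst, MulAut.mul_apply, hv]
      have hσ3 : σ (σ (σ (τ v))) = τ v := by
        rw [show σ (σ (σ (τ v))) = (σ ^ 3) (τ v) from rfl, ← hσ, pow_orderOf_eq_one, MulAut.one_apply]
      exact (congrArg σ hσσ).symm.trans hσ3
    have hfix : ∀ v ∈ C, τ v = v → v = 1 := fun v (hv : σ v = v) htv => hfpf v fun b hb => by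
      have hst : ∀ θ : MulAut G, θ ∈ MulAction.stabilizer (MulAut G) v ↔ θ v = v := fun θ => Iff.rfl
      have hs' := (hst σ).2 hv
      have ht' := (hst τ).2 htv
      have key : ∀ q : Sig, (q : MulAut G) ∈ MulAction.stabilizer (MulAut G) v := by
        intro q
        rcases hall (e q) with h | h | h | h | h | h <;>
          rw [← e.symm_apply_apply q, h]
        · rw [map_one]; exact one_mem _
        · rw [ha, e.symm_apply_apply]; exact hs'
        · rw [ha, map_mul, e.symm_apply_apply]; exact mul_mem hs' hs'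
        · exact ht'
        · rw [ha, map_mul, e.symm_apply_apply]; exact mul_mem ht' hs'
        · rw [ha, map_mul, map_mul, e.symm_apply_apply]; exact mul_mem ht' (mul_mem hs' hs')
      exact (hst b).1 (key ⟨b, hb⟩)
    let κ : C → C := fun v => ⟨(v : G)⁻¹ * τ v, mul_mem (inv_mem v.2) (hτC v v.2)⟩
    have hκ : Function.Injective κ := fun u v h => by
      have h1 : (u : G)⁻¹ * τ u = (v : G)⁻¹ * τ v := congrArg Subtype.val h
      have h2 : τ ((v : G) * (u : G)⁻¹) = (v : G) * (u : G)⁻¹ := by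
        rw [map_mul, map_inv, ← mul_inv_cancel_left (v : G) (τ v), ← h1]; group
      exact Subtype.ext (mul_inv_eq_one.1 (hfix _ (mul_mem v.2 (inv_mem u.2)) h2)).symm
    have hττ : ∀ y, τ (τ y) = y := fun y => by
      show (τ * τ) y = y
      rw [← Subgroup.coe_mul, ← map_mul, Equiv.swap_mul_self, map_one, Subgroup.coe_one, MulAut.one_apply]
    refine Nat.not_even_iff_odd.1 fun he => ?_
    obtain ⟨j, hj⟩ := he
    have hgC : g ∈ C := hg
    have hu : g ^ j ∈ C := pow_mem hgC j
    obtain ⟨v, hv⟩ := (Finite.injective_iff_surjective.1 hκ) ⟨g ^ j, hu⟩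
    have hv' : (v : G)⁻¹ * τ v = g ^ j := congrArg Subtype.val hv
    have h2 : g ^ j * g ^ j = 1 := by rw [← pow_add, ← hj, pow_orderOf_eq_one]
    have h1 : τ (g ^ j) = g ^ j := by
      rw [← hv'] at h2 ⊢
      rw [map_mul, map_inv, hττ]
      calc (τ (v : G))⁻¹ * (v : G) = ((v : G)⁻¹ * τ v)⁻¹ := by rw [mul_inv_rev, inv_inv]
        _ = (v : G)⁻¹ * τ v := inv_eq_of_mul_eq_one_left h2
    have hj0 : orderOf g ∣ j := orderOf_dvd_of_pow_eq_one (hfix _ hu h1)
    have := orderOf_pos g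
    rcases Nat.eq_zero_or_pos j with rfl | hjp
    · omega
    · have := Nat.le_of_dvd hjp hj0; omega
  have hex : ∃ σ ∈ Sig, orderOf σ = 3 :=
    ⟨_, (e.symm (Equiv.swap 0 1 * Equiv.swap 1 2)).2, by
      rw [Subgroup.orderOf_coe, MulEquiv.orderOf_eq]; exact orderOf_eq_prime (by decide) (by decide)⟩
  have hsolv : Group.IsSolvable G := by
    obtain ⟨σ, hσS, hσ⟩ := hex
    exact solvable_of_odd_fixed hgold G h3 σ (hσ ▸ pow_orderOf_eq_one σ) (hodd σ hσS hσ)
  haveI := hsolv
  haveI hOc : (Cfsg.pPrimeCore 2 G).Characteristic := CfsgLib.Coprime.pPrimeCore_characteristic 2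
  set M := Cfsg.pPrimePCore 2 G with hM
  have hmain : ∀ σ ∈ Sig, orderOf σ = 3 → ∀ g : G, g⁻¹ * σ g ∈ M := by
    intro σ hσS hσ g
    have hσ3 : σ ^ 3 = 1 := hσ ▸ pow_orderOf_eq_one σ
    set O := Cfsg.pPrimeCore 2 G
    refine mem_comap.2 ?_
    rw [map_mul, map_inv, ← onQuot_mk]
    refine inv_mul_mem_pCore (fun h => h3 (h.trans (card_quotient_dvd_card O)))
      (CfsgLib.Coprime.pPrimeCore_quotient_eq_bot Nat.prime_two) (onQuot O σ) (by rw [← map_pow, hσ3, map_one])
      (fun y hy => ?_) _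
    obtain ⟨y, rfl⟩ := QuotientGroup.mk'_surjective O y
    obtain ⟨h, hh, hyh⟩ := exists_fixed_rep O (fun h => h3 (h.trans (card_subgroup_dvd_card O))) σ hσ3
      (fun v hv => (restrict O σ ⟨v, hv⟩).2) y (QuotientGroup.eq.1 hy.symm)
    rw [show QuotientGroup.mk' O y = QuotientGroup.mk' O h from QuotientGroup.eq.2 hyh]
    exact Odd.of_dvd_nat (hodd σ hσS hσ h hh) (orderOf_map_dvd _ h)
  haveI hMn : M.Normal := (CfsgLib.Coprime.pCore_normal' 2).comap _
  have hrep : ∀ σ ∈ Sig, orderOf σ = 3 → ∀ g : G, ∃ h, σ h = h ∧ g⁻¹ * h ∈ M := fun σ hσS hσ g =>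
    exists_fixed_rep M (fun h => h3 (h.trans (card_subgroup_dvd_card M))) σ (hσ ▸ pow_orderOf_eq_one σ)
      (fun v hv => by simpa using mul_mem hv (hmain σ hσS hσ v)) g (hmain σ hσS hσ g)
  refine ⟨hsolv, ?_, fun σ hσS hσ => ?_⟩
  · intro h2
    obtain ⟨σ, hσS, hσ⟩ := hex
    rw [Subgroup.index_eq_card] at h2
    obtain ⟨y, hy⟩ := exists_prime_orderOf_dvd_card' (G := G ⧸ M) 2 h2
    obtain ⟨y, rfl⟩ := QuotientGroup.mk'_surjective M y
    obtain ⟨h, hh, hyh⟩ := hrep σ hσS hσ y
    rw [show QuotientGroup.mk' M y = QuotientGroup.mk' M h from QuotientGroup.eq.2 hyh] at hy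
    have := Odd.of_dvd_nat (hodd σ hσS hσ h hh) (orderOf_map_dvd (QuotientGroup.mk' M) h)
    rw [hy] at this
    exact absurd this (by decide)
  · refine eq_top_iff.2 fun g _ => ?_
    obtain ⟨h, hh, hgh⟩ := hrep σ hσS hσ g
    rw [show g = (h * (g⁻¹ * h)⁻¹ * h⁻¹) * h by group]
    exact mul_mem (mem_sup_left (hMn.conj_mem _ (inv_mem hgh) h)) (mem_sup_right (subset_closure hh))

end CfsgLib.Gold.SymThree
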