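import Mathlib.Algebra.Group.Units.Basic
import Mathlib.GroupTheory.OrderOfElement
import Mathlib.Tactic.NoncommRing
import Mathlib.Tactic.Group
import Mathlib.Algebra.Ring.Basic

/-!
# An operator of order three without fixed points in characteristic two

If `s` and all its conjugates satisfy `s² + s + 1 = 0`, the commutator `t = [x, s]` satisfies
`t + t⁻¹ = c + c⁻¹` with `c = s² t s⁻²`; for elements of odd order this forces triviality.
-/

set_option autoImplicit false

namespace CfsgLib.Gold.SymThree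

variable {E : Type*} [Ring E]

theorem units_eq_one_of_odd {u : Eˣ} {n : ℕ} (hn : Odd n) (h : u ^ n = 1) {k : ℕ}
    (hk : (u : E) ^ 2 ^ k = 1) : u = 1 := by
  refine orderOf_eq_one_iff.1 (Nat.eq_one_of_dvd_coprimes
    (Nat.Coprime.pow_left k (Nat.coprime_two_left.2 hn)) (orderOf_dvd_of_pow_eq_one ?_)
    (orderOf_dvd_of_pow_eq_one h))
  exact Units.ext (by rw [Units.val_pow_eq_pow_val, hk, Units.val_one])

/-- A commutator of `t` and `c` which commutes with both is trivial when `t + t⁻¹ = c + c⁻¹`. -/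
theorem comm_eq_one (h2 : (2 : E) = 0) (t c : Eˣ) (h : (t : E) + ↑t⁻¹ = ↑c + ↑c⁻¹) {n : ℕ} (hn : Odd n)
    (hzt : Commute (t * c * t⁻¹ * c⁻¹) t) (hzc : Commute (t * c * t⁻¹ * c⁻¹) c)
    (hz : (t * c * t⁻¹ * c⁻¹) ^ n = 1) : Commute t c := by
  obtain ⟨z, hzdef⟩ : ∃ z, z = t * c * t⁻¹ * c⁻¹ := ⟨_, rfl⟩
  rw [← hzdef] at hzt hzc hz
  have hself : ∀ a : E, a + a = 0 := fun a => by rw [← two_mul, h2, zero_mul]
  have htc : t * c * t⁻¹ = z * c := by rw [hzdef]; group
  have htci : t * c⁻¹ * t⁻¹ = z⁻¹ * c⁻¹ := by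
    rw [← hzc.inv_inv.eq.symm, ← mul_inv_rev, ← htc]; group
  -- conjugate the relation by `t`
  have h1 : (c : E) + ↑c⁻¹ = ↑(z * c) + ↑(z⁻¹ * c⁻¹) := by
    calc (c : E) + ↑c⁻¹ = (t : E) + ↑t⁻¹ := h.symm
      _ = (t : E) * (↑t + ↑t⁻¹) * ↑t⁻¹ := by
          simp only [mul_add, add_mul, mul_assoc, Units.mul_inv, mul_one, ← Units.val_mul, mul_inv_cancel,
            inv_mul_cancel, one_mul]
      _ = ↑(t * c * t⁻¹) + ↑(t * c⁻¹ * t⁻¹) := by
          rw [h]; simp only [Units.val_mul]; noncomm_ring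
      _ = _ := by rw [htc, htci]
  -- `(1 + z) (z c² + 1) = 0`
  have h2' : (1 + (z : E)) * ((z : E) * (c : E) ^ 2 + 1) = 0 := by
    have e : ((c : E) + ↑c⁻¹ + (↑(z * c) + ↑(z⁻¹ * c⁻¹))) * ((z : E) * c) = 0 := by rw [← h1, hself, zero_mul]
    have hcz : (c : E) * z = z * c := congrArg Units.val hzc.symm.eq
    have e1 : (↑c⁻¹ : E) * (↑z * ↑c) = ↑z := by rw [← hcz, Units.inv_mul_cancel_left]
    have e2 : (↑(z⁻¹ * c⁻¹) : E) * (↑z * ↑c) = 1 := by
      rw [Units.val_mul, mul_assoc, e1, Units.inv_mul]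
    rw [add_mul, add_mul, add_mul, e1, e2, Units.val_mul, ← mul_assoc (c : E), hcz] at e
    calc (1 + (z : E)) * ((z : E) * (c : E) ^ 2 + 1)
        = (z : E) * c * c + (z : E) + ((z : E) * ((z : E) * c * c) + 1) := by rw [pow_two]; noncomm_ring
      _ = _ := by
          rw [← e, show (z : E) * c * ((z : E) * c) = (z : E) * ((z : E) * c * c) by
            rw [mul_assoc (z : E) c, ← mul_assoc (c : E) z c, hcz]]
  -- conjugating by `t` once more turns `z c²` into `z³ c²`
  have h3 : (1 + (z : E)) * ((z : E) ^ 3 * (c : E) ^ 2 + 1) = 0 := by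
    have e : (t : E) * ((1 + (z : E)) * ((z : E) * (c : E) ^ 2 + 1)) * ↑t⁻¹ = 0 := by
      rw [h2', mul_zero, zero_mul]
    rw [← e]
    symm
    have e1 : t * (z * c ^ 2) * t⁻¹ = z ^ 3 * c ^ 2 := by
      calc t * (z * c ^ 2) * t⁻¹ = t * z * t⁻¹ * ((t * c * t⁻¹) * (t * c * t⁻¹)) := by
            rw [pow_two]; group
        _ = z * ((z * c) * (z * c)) := by rw [htc, ← hzt.eq, mul_inv_cancel_right]
        _ = z ^ 3 * c ^ 2 := by
            rw [mul_assoc z c, ← mul_assoc c z c, ← hzc.eq, pow_two, pow_three]; simp only [mul_assoc]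
    have e2 : (t : E) * z * ↑t⁻¹ = z := by
      rw [show (t : E) * z = z * t from congrArg Units.val hzt.symm.eq, Units.mul_inv_cancel_right]
    have e1' : (t : E) * ((z : E) * (c : E) ^ 2) * ↑t⁻¹ = (z : E) ^ 3 * (c : E) ^ 2 := by
      have := congrArg Units.val e1
      simpa only [Units.val_mul, Units.val_pow_eq_pow_val] using this
    calc (t : E) * ((1 + (z : E)) * ((z : E) * (c : E) ^ 2 + 1)) * ↑t⁻¹
        = ((t : E) * (1 + (z : E)) * ↑t⁻¹) * ((t : E) * ((z : E) * (c : E) ^ 2 + 1) * ↑t⁻¹) := by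
          simp only [mul_assoc, Units.inv_mul_cancel_left]
      _ = _ := by
          rw [mul_add (t : E) 1, mul_add (t : E) ((z : E) * (c : E) ^ 2), add_mul ((t : E) * 1),
            add_mul ((t : E) * ((z : E) * (c : E) ^ 2)), e1', mul_one, Units.mul_inv, e2]
  have h4 : (1 + (z : E)) * ((z : E) ^ 2 + 1) * ((z : E) * (c : E) ^ 2) = 0 := by
    calc (1 + (z : E)) * ((z : E) ^ 2 + 1) * ((z : E) * (c : E) ^ 2)
        = (1 + (z : E)) * ((z : E) ^ 3 * (c : E) ^ 2 + 1) + (1 + (z : E)) * ((z : E) * (c : E) ^ 2 + 1)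
            - ((1 + (z : E)) + (1 + (z : E))) := by noncomm_ring
      _ = 0 := by rw [h3, h2', add_zero, zero_sub, hself, neg_zero]
  have h5 : (1 + (z : E)) * ((z : E) ^ 2 + 1) = 0 := by
    have := congrArg (fun a : E => a * ((z * c ^ 2)⁻¹ : Eˣ)) h4
    rwa [show ((z : E) * (c : E) ^ 2) = ↑(z * c ^ 2) by rw [Units.val_mul, Units.val_pow_eq_pow_val],
      zero_mul, Units.mul_inv_cancel_right] at this
  have h6 : (z : E) ^ 2 ^ 2 = 1 := by
    have e : (1 + (z : E)) * ((1 + (z : E)) * ((z : E) ^ 2 + 1)) = 1 + (z : E) ^ 2 ^ 2 := by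
      calc (1 + (z : E)) * ((1 + (z : E)) * ((z : E) ^ 2 + 1))
          = 1 + (z : E) ^ 2 ^ 2 + 2 * ((z : E) + (z : E) ^ 2 + (z : E) ^ 3) := by
            norm_num; noncomm_ring
        _ = _ := by rw [h2, zero_mul, add_zero]
    rw [h5, mul_zero] at e
    exact (eq_neg_of_add_eq_zero_right e.symm).trans (neg_eq_of_add_eq_zero_left (hself 1))
  have hz1 : z = 1 := units_eq_one_of_odd hn hz h6
  show t * c = c * t
  have := htc
  rw [hz1, one_mul] at this
  exact mul_inv_eq_iff_eq_mul.1 this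

/-- Commuting units `t, a` with `a t` conjugate relations are trivial. -/
theorem eq_one_of_commute (h2 : (2 : E) = 0) (t a c : Eˣ) (hta : Commute t a) (hprod : t * a * c = 1)
    (h : ((t : E) + c) * (1 + (a : E)) = 0) (h' : ((c : E) + a) * (1 + (t : E)) = 0) {n : ℕ} (hn : Odd n)
    (h3 : Nat.Coprime 3 n) (ht : t ^ n = 1) (ha : a ^ n = 1) : a = 1 := by
  have hself : ∀ x : E, x + x = 0 := fun x => by rw [← two_mul, h2, zero_mul]
  have hc : c = (t * a)⁻¹ := eq_inv_of_mul_eq_one_right hprod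
  have hE : (t : E) * a = a * t := congrArg Units.val hta.eq
  have hAT : Commute (1 + (a : E)) (t : E) := (Commute.one_left _).add_left hE.symm
  have hcu : (t : E) * a * c = 1 := by rw [← Units.val_mul, ← Units.val_mul, hprod, Units.val_one]
  have hcc : Commute (c : E) (t : E) := by
    have : Commute c t := by rw [hc]; exact ((Commute.refl t).mul_left hta.symm).inv_left
    exact congrArg Units.val this.eq
  have hca : Commute (c : E) (a : E) := by
    have : Commute c a := by rw [hc]; exact (hta.mul_left (Commute.refl a)).inv_left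
    exact congrArg Units.val this.eq
  set W := 1 + (a : E) with hW
  have hWA : Commute W (a : E) := (Commute.one_left _).add_left (Commute.refl _)
  have hWc : Commute W (c : E) := (Commute.one_left _).add_left hca.symm
  -- `W` absorbs `t = c`
  have k1 : W * t = W * c := by
    have e : W * t + W * c = 0 := by
      rw [← mul_add, ((hAT.add_right hWc)).eq, h]
    calc W * t = W * t + (W * c + W * c) := by rw [hself, add_zero]
      _ = _ := by rw [← add_assoc, e, zero_add]
  have k2 : W * ((a : E) * t * t) = W := by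
    calc W * ((a : E) * t * t) = (a : E) * t * (W * t) := by
          rw [← mul_assoc, (hWA.mul_right hAT).eq, mul_assoc]
      _ = (a : E) * t * (W * c) := by rw [k1]
      _ = W * ((t : E) * a * c) := by
          rw [← mul_assoc, ← (hWA.mul_right hAT).eq, mul_assoc, hE]
      _ = W := by rw [hcu, mul_one]
  -- substitute into the rotated relation
  have k3 : W * (((t : E) + a) * (1 + (t : E))) = 0 := by
    have e : W * (((c : E) + a) * (1 + (t : E))) = 0 := by rw [h', mul_zero]
    rw [← mul_assoc, mul_add W] at e ⊢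
    rw [k1]; exact e
  have k4 : W * (1 + (t : E)) * (1 + (t : E) ^ 3) = 0 := by
    have e : W * (((t : E) + a) * (1 + (t : E))) * ((t : E) * t) = 0 := by rw [k3, zero_mul]
    rw [← e]
    have hW3 : W * (a * (t * t) + t * (t * t)) = W * (1 + (t : E) ^ 3) := by
      rw [mul_add, mul_add, ← mul_assoc (a : E), k2, mul_one, pow_three]
    have hcomm1 : Commute (1 + (t : E)) (1 + (t : E) ^ 3) :=
      ((Commute.one_right _).add_right (((Commute.one_left _).add_left (Commute.refl _)).pow_right 3))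
    have hcomm2 : Commute (1 + (t : E)) ((t : E) * t) :=
      (((Commute.one_left _).add_left (Commute.refl _)).mul_right ((Commute.one_left _).add_left (Commute.refl _)))
    rw [mul_assoc W, hcomm1.eq, ← mul_assoc, ← hW3, mul_assoc, mul_assoc, mul_assoc]
    congr 1
    rw [hcomm2.eq, ← mul_assoc ((t : E) + a), add_mul (t : E), add_comm]
  -- `W (1 + t)` is fixed by `t³`, hence by `t`
  have k5 : W * (1 + (t : E)) * t = W * (1 + (t : E)) := by
    have e : W * (1 + (t : E)) * (t : E) ^ 3 = W * (1 + (t : E)) := by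
      calc W * (1 + (t : E)) * (t : E) ^ 3
          = W * (1 + (t : E)) * (1 + (t : E) ^ 3) + W * (1 + (t : E)) -
              (W * (1 + (t : E)) + W * (1 + (t : E))) + 0 := by noncomm_ring
        _ = _ := by rw [k4, hself]; simp
    obtain ⟨j, hj⟩ := exists_pow_eq_self_of_coprime
      (Nat.Coprime.coprime_dvd_right (orderOf_dvd_of_pow_eq_one ht) h3)
    have hit : ∀ i : ℕ, W * (1 + (t : E)) * ((t : E) ^ 3) ^ i = W * (1 + (t : E)) := fun i => by
      induction i with
      | zero => rw [pow_zero, mul_one]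
      | succ i ih => rw [pow_succ, ← mul_assoc, ih, e]
    have htj : (t : E) = ((t : E) ^ 3) ^ j := by
      rw [← Units.val_pow_eq_pow_val, ← Units.val_pow_eq_pow_val, hj]
    rw [show W * (1 + (t : E)) * (t : E) = W * (1 + (t : E)) * ((t : E) ^ 3) ^ j by rw [← htj], hit]
  have k6 : W * ((t : E) * t) = W := by
    calc W * ((t : E) * t) = W * (1 + (t : E)) * t - W * (1 + (t : E)) + W := by noncomm_ring
      _ = W := by rw [k5, sub_self, zero_add]
  have k7 : W * (a : E) = W := by
    calc W * (a : E) = W * ((t : E) * t) * a := by rw [k6]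
      _ = W * ((a : E) * t * t) := by
          rw [mul_assoc W, mul_assoc (t : E), hE, ← mul_assoc (t : E), hE]
      _ = W := k2
  have h6 : (a : E) ^ 2 ^ 1 = 1 := by
    have e : (a : E) * a + a = 1 + a := by
      rw [add_comm]
      calc (a : E) + a * a = W * a := by rw [hW, add_mul, one_mul]
        _ = 1 + a := k7
    rw [pow_one, pow_two]
    exact add_right_cancel e
  exact units_eq_one_of_odd hn ha h6

/-- The key step: `s` and its conjugate by `x` satisfy `X² + X + 1 = 0`. -/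
theorem eq_one (h2 : (2 : E) = 0) (s x : Eˣ) (hs : (s : E) ^ 2 + s + 1 = 0) {n : ℕ} (hn : Odd n)
    (h3 : Nat.Coprime 3 n) (ht : (x * s * x⁻¹ * s⁻¹) ^ n = 1)
    (hzt : Commute (x * s * x⁻¹ * s⁻¹ * (s ^ 2 * (x * s * x⁻¹ * s⁻¹) * (s ^ 2)⁻¹) *
      (x * s * x⁻¹ * s⁻¹)⁻¹ * (s ^ 2 * (x * s * x⁻¹ * s⁻¹) * (s ^ 2)⁻¹)⁻¹) (x * s * x⁻¹ * s⁻¹))
    (hzc : Commute (x * s * x⁻¹ * s⁻¹ * (s ^ 2 * (x * s * x⁻¹ * s⁻¹) * (s ^ 2)⁻¹) *
      (x * s * x⁻¹ * s⁻¹)⁻¹ * (s ^ 2 * (x * s * x⁻¹ * s⁻¹) * (s ^ 2)⁻¹)⁻¹)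
        (s ^ 2 * (x * s * x⁻¹ * s⁻¹) * (s ^ 2)⁻¹))
    (hz : (x * s * x⁻¹ * s⁻¹ * (s ^ 2 * (x * s * x⁻¹ * s⁻¹) * (s ^ 2)⁻¹) *
      (x * s * x⁻¹ * s⁻¹)⁻¹ * (s ^ 2 * (x * s * x⁻¹ * s⁻¹) * (s ^ 2)⁻¹)⁻¹) ^ n = 1) :
    x * s * x⁻¹ * s⁻¹ = 1 := by
  have hself : ∀ a : E, a + a = 0 := fun a => by rw [← two_mul, h2, zero_mul]
  have hs3 : s ^ 3 = 1 := Units.ext (by
    rw [Units.val_pow_eq_pow_val, Units.val_one]
    calc (s : E) ^ 3 = ((s : E) ^ 2 + s + 1) * ((s : E) - 1) + 1 := by noncomm_ring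
      _ = 1 := by rw [hs]; simp)
  set t := x * s * x⁻¹ * s⁻¹ with htdef
  set a := s * t * s⁻¹ with hadef
  set c := s ^ 2 * t * (s ^ 2)⁻¹ with hcdef
  have hts : (t : E) * s = (x : E) * s * ↑x⁻¹ := by
    rw [← Units.val_mul, htdef, inv_mul_cancel_right, Units.val_mul, Units.val_mul]
  have hh : ((t : E) * s) * ((t : E) * s) + (t : E) * s + 1 = 0 := by
    rw [hts]
    calc (x : E) * s * ↑x⁻¹ * ((x : E) * s * ↑x⁻¹) + (x : E) * s * ↑x⁻¹ + 1
        = (x : E) * ((s : E) ^ 2 + s + 1) * ↑x⁻¹ := by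
          simp only [mul_add, add_mul, mul_assoc, Units.inv_mul_cancel_left, mul_one, Units.mul_inv, pow_two]
      _ = 0 := by rw [hs]; simp
  have hs2 : (s : E) * s = s + 1 := by
    calc (s : E) * s = ((s : E) ^ 2 + s + 1) - ((s : E) + 1) := by noncomm_ring
      _ = -((s : E) + 1) := by rw [hs, zero_sub]
      _ = (s : E) + 1 := neg_eq_of_add_eq_zero_left (hself _)
  have hst : (s : E) * t = (a : E) * s := by rw [hadef, ← Units.val_mul, ← Units.val_mul]; group
  have hss : s ^ 2 * s = 1 := by rw [← pow_succ, hs3]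
  -- the first relation
  have hI : (t : E) * a + t + (t : E) * s + s = 0 := by
    calc (t : E) * a + t + (t : E) * s + s
        = (((t : E) * s) * ((t : E) * s) + (t : E) * s + 1) * s := by
          have e1 : (t : E) * s * ((t : E) * s) * s = (t : E) * a := by
            have : t * s * (t * s) * s = t * a := by
              rw [show t * s * (t * s) * s = t * (s * t * s⁻¹) * (s ^ 2 * s) by rw [pow_two]; group, hss, mul_one]
            simpa only [Units.val_mul] using congrArg Units.val this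
          rw [add_mul, add_mul, e1, mul_assoc (t : E) s s, hs2, one_mul]; noncomm_ring
      _ = 0 := by rw [hh, zero_mul]
  -- conjugated by `s`
  have hII : (a : E) * c + a + (a : E) * s + s = 0 := by
    calc (a : E) * c + a + (a : E) * s + s
        = (s : E) * ((t : E) * a + t + (t : E) * s + s) * ↑s⁻¹ := by
          have e1 : (s : E) * ((t : E) * a) * ↑s⁻¹ = (a : E) * c := by
            rw [← Units.val_mul, ← Units.val_mul, ← Units.val_mul, ← Units.val_mul]
            exact congrArg Units.val (by rw [hadef, hcdef]; group)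
          rw [mul_add, mul_add, mul_add, add_mul, add_mul, add_mul, e1, ← mul_assoc (s : E) t s, hst]
          simp only [mul_assoc, Units.mul_inv, mul_one]
      _ = 0 := by rw [hI]; simp
  have hprod : t * a * c = 1 := by
    have hh3 : (t * s) ^ 3 = 1 := by
      rw [show t * s = x * s * x⁻¹ by rw [htdef, inv_mul_cancel_right], conj_pow, hs3, mul_one, mul_inv_cancel]
    rw [← hh3, show (t * s) ^ 3 = t * a * c * s ^ 3 by rw [hadef, hcdef, pow_three, pow_three, pow_two]; group, hs3, mul_one]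
  have hcyc : a * c * t = 1 := by
    rw [show a * c * t = t⁻¹ * (t * a * c) * t by group, hprod, mul_one, inv_mul_cancel]
  have hti : (↑t⁻¹ : E) = (a : E) * c := by
    rw [← Units.val_mul, eq_inv_of_mul_eq_one_left hcyc]
  have hci : (↑c⁻¹ : E) = (t : E) * a := by
    rw [← Units.val_mul, eq_inv_of_mul_eq_one_left hprod]
  have hcval : (c : E) = (a : E) * s + a + (t : E) * s := by
    rw [hcdef, Units.val_mul, Units.val_mul, Units.val_pow_eq_pow_val, pow_two, hs2,
      show (s ^ 2)⁻¹ = s from inv_eq_of_mul_eq_one_right hss, add_mul, add_mul, one_mul, hst,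
      mul_assoc (a : E), hs2, mul_add, mul_one]
  have hrel : (t : E) + c = (t : E) * a + (a : E) * c := by
    calc (t : E) + c = ((t : E) * a + t + (t : E) * s + s) + ((a : E) * c + a + (a : E) * s + s)
          + ((t : E) + c) - 0 := by rw [hI, hII]; simp
      _ = (t : E) * a + (a : E) * c + (((t : E) + t) + ((c : E) + ((a : E) * s + a + (t : E) * s)) + ((s : E) + s)) := by
          noncomm_ring
      _ = _ := by rw [← hcval]; simp [hself]
  have hrel' : (t : E) + ↑t⁻¹ = (c : E) + ↑c⁻¹ := by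
    rw [hti, hci]
    calc (t : E) + (a : E) * c = ((t : E) + c) + ((a : E) * c + (c : E)) - ((c : E) + c) + 0 := by noncomm_ring
      _ = (c : E) + (t : E) * a := by
          rw [hrel, hself, sub_zero, add_zero]
          calc (t : E) * a + (a : E) * c + ((a : E) * c + c)
              = (c : E) + (t : E) * a + ((a : E) * c + (a : E) * c) := by abel
            _ = _ := by rw [hself, add_zero]
  have htc : Commute t c := comm_eq_one h2 t c hrel' hn hzt hzc hz
  have hac : a = (c * t)⁻¹ := by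
    rw [mul_inv_rev]; exact (eq_inv_mul_iff_mul_eq.2 (eq_inv_of_mul_eq_one_left hprod))
  have hta : Commute t a := by rw [hac]; exact ((htc.mul_right (Commute.refl t))).inv_right
  have hca : Commute c a := by rw [hac]; exact ((Commute.refl c).mul_right htc.symm).inv_right
  have hR : ((t : E) + c) * (1 + (a : E)) = 0 := by
    have e : (t : E) * a + (a : E) * c = ((t : E) + c) * a := by
      rw [add_mul, show (c : E) * a = a * c from congrArg Units.val hca.eq]
    rw [mul_add, mul_one, ← e, ← hrel, hself]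
  have hR' : ((c : E) + a) * (1 + (t : E)) = 0 := by
    have g1 : s * t * s⁻¹ = a := rfl
    have g2 : s * a * s⁻¹ = c := by rw [hadef, hcdef, pow_two]; group
    have g3 : s * c * s⁻¹ = t := by
      rw [hcdef, show s * (s ^ 2 * t * (s ^ 2)⁻¹) * s⁻¹ = s ^ 3 * t * (s ^ 3)⁻¹ by
        rw [pow_two, pow_three]; group, hs3]; simp
    have hk : ∀ u v w : E, (s : E) * ((u + v) * (1 + w)) * ↑s⁻¹ =
        ((s : E) * u * ↑s⁻¹ + (s : E) * v * ↑s⁻¹) * (1 + (s : E) * w * ↑s⁻¹) := fun u v w => by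
      simp only [mul_add, add_mul, mul_assoc, Units.inv_mul_cancel_left, mul_one]
    have conjv : ∀ u v : Eˣ, s * u * s⁻¹ = v → (s : E) * u * ↑s⁻¹ = v := fun u v h => by
      rw [← Units.val_mul, ← Units.val_mul, h]
    have f1 := hk t c a
    rw [conjv t a g1, conjv c t g3, conjv a c g2, hR] at f1
    have f2 := hk a t c
    rw [conjv t a g1, conjv c t g3, conjv a c g2, ← f1] at f2
    rw [← f2]; simp
  have ha1 : a = 1 := eq_one_of_commute h2 t a c hta hprod hR hR' hn h3 ht
    (by rw [hadef, conj_pow, ht, mul_one, mul_inv_cancel])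
  exact conj_eq_one_iff.1 ha1

end CfsgLib.Gold.SymThree
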