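import Cfsg.Agent.Lib.Goldschmidt.ThreeFree
import Cfsg.Agent.Lib.Walter.Main
import Cfsg.Agent.Lib.CIT.PslModel
import Cfsg.Agent.Lib.CIT.TI
import Cfsg.Agent.Lib.Invol.SmallSimple

/-!
# Simple groups whose `3`-elements are not inverted, given Goldschmidt's theorem

No element of order three is inverted, so `S₃` is not involved and the group is a Suzuki group or
`PSL₂(3^(2f+1))` with `f ≥ 1`.
-/

set_option autoImplicit false
set_option linter.style.haveILetI false

namespace CfsgLib.Gold.ThreeIrrational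

open Subgroup

universe u

theorem hg_of_normalizer_le {G : Type u} [Group G]
    (hirr : ∀ x : G, (∀ r : ℕ, r.Prime → r ∣ orderOf x → r = 3) →
      normalizer ((zpowers x : Subgroup G) : Set G) ≤ centralizer {x}) :
    CfsgLib.FourFree.HG G := by
  intro a x hx hax
  have h1 : ∀ r : ℕ, r.Prime → r ∣ orderOf x → r = 3 := fun r hr hd =>
    (Nat.prime_dvd_prime_iff_eq hr Nat.prime_three).1 (hd.trans (orderOf_dvd_of_pow_eq_one hx))
  have hmem : a ∈ normalizer ((zpowers x : Subgroup G) : Set G) := by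
    refine mem_normalizer_iff.2 fun y => ⟨?_, ?_⟩
    · rintro ⟨k, rfl⟩
      exact ⟨-k, by simp only [← conj_zpow, hax, inv_zpow', zpow_neg]⟩
    · rintro ⟨k, hk⟩
      refine ⟨-k, ?_⟩
      have : a⁻¹ * (x ^ k) * a = x ^ (-k) := by
        rw [show a⁻¹ * x ^ k * a = a⁻¹ * (x⁻¹) ^ (-k) * a by rw [inv_zpow', neg_neg], ← hax, conj_zpow]
        group
      show x ^ (-k) = y
      rw [← this, show x ^ k = a * y * a⁻¹ from hk]
      group
  have hc := mem_centralizer_singleton_iff.1 (hirr x h1 hmem)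
  rw [hc, mul_inv_cancel_right] at hax
  have h2 : x ^ 2 = 1 := by rw [pow_two]; nth_rw 2 [hax]; exact mul_inv_cancel x
  calc x = x * x ^ 2 := by rw [h2, mul_one]
    _ = x ^ 3 := by group
    _ = 1 := hx

/-- **S4031**, given Goldschmidt's theorem. -/
theorem psl_or_suzuki (hM : MainThm.{u}) {G : Type u} [Group G] [Finite G] [IsSimpleGroup G]
    (hna : ¬ IsMulCommutative G)
    (hirr : ∀ x : G, (∀ r : ℕ, r.Prime → r ∣ orderOf x → r = 3) →
      normalizer ((zpowers x : Subgroup G) : Set G) ≤ centralizer {x}) :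
    (∃ f : ℕ, 1 ≤ f ∧
      Nonempty (G ≃* Matrix.ProjectiveSpecialLinearGroup (Fin 2) (GaloisField 3 (2 * f + 1)))) ∨
      Cfsg.IsSuzuki G := by
  haveI := Fact.mk Nat.prime_three
  have hg := hg_of_normalizer_le hirr
  have hfree : ¬ Cfsg.Involves (Equiv.Perm (Fin 4)) G := by
    rintro ⟨K, R, hR, ⟨e⟩⟩
    have h4 := (hg.subgroup K).quotient _ (QuotientGroup.mk'_surjective (R.subgroupOf K))
    have h1 := h4 (e.symm (Equiv.swap 1 2)) (e.symm (Equiv.swap 0 1 * Equiv.swap 1 2))
      (by rw [← map_pow, show (Equiv.swap (0 : Fin 4) 1 * Equiv.swap 1 2) ^ 3 = 1 by decide +kernel, map_one])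
      (by rw [← map_inv, ← map_inv, ← map_mul, ← map_mul]; congr 1; decide +kernel)
    rw [← map_one e.symm] at h1
    exact absurd (e.symm.injective h1) (by decide +kernel)
  rcases (Cfsg.Agent.S2755.result
      (isGoldschmidt_of_sfour_free CfsgLib.Walter.classified hM G hna hfree)).2.1
      (CfsgLib.ReeType.no_three_iff.2 hg) with h | ⟨F, iF, iF', n, hF, ⟨e⟩⟩
  · exact Or.inr (CfsgLib.CIT.isSuzuki_of_isoSuzuki h)
  · refine Or.inl ⟨n, ?_, ?_⟩
    · by_contra hn
      have hF3 : Fintype.card F = 3 := by rw [hF, show n = 0 by omega]; norm_num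
      have h1 := CfsgLib.Classical.card_psl2 (F := F)
      rw [hF3, show Nat.gcd 2 (3 - 1) = 2 from rfl, ← Nat.card_congr e.toEquiv] at h1
      have := CfsgLib.Invol.card_eq_sixty_of_le_hundred (G := G) hna (by omega)
      omega
    · haveI : Fintype (GaloisField 3 (2 * n + 1)) := Fintype.ofFinite _
      obtain ⟨f⟩ := CfsgLib.CIT.psl_congr (FiniteField.ringEquivOfCardEq (K := F)
        (K' := GaloisField 3 (2 * n + 1))
        (by rw [hF, ← Nat.card_eq_fintype_card, GaloisField.card 3 (2 * n + 1) (by omega)]))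
      exact ⟨e.trans f⟩

end CfsgLib.Gold.ThreeIrrational
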