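import Cfsg.Agent.Lib.Goldschmidt.ThreeFree
import Cfsg.Agent.Lib.Goldschmidt.Comp.Center
import Cfsg.Agent.Lib.Goldschmidt.Consumers.PslSylowAut
import Cfsg.Agent.Lib.Coprime.Component
import Cfsg.Agent.Lib.Lie.SLUniv.Main
import Cfsg.Agent.Lib.Invol.SmallSimple
import Cfsg.Agent.Lib.CIT.TI

/-!
# Groups generated by `2`-elements in which no element of order three is inverted, given Goldschmidt

Modulo the largest normal subgroup of order prime to three such a group is a direct product of groups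
`PSL₂(3^(2f+1))`: the components are of this type, and a `2`-element acts on each as an element centralizing
one of its Sylow `3`-subgroups, hence by an inner automorphism.
-/

set_option autoImplicit false
set_option linter.style.haveILetI false
set_option linter.unusedSectionVars false

namespace CfsgLib.Gold.ThreeReal

open Subgroup
open CfsgLib.FourFree (HG)

universe u

/-- The conclusion. -/
def Concl (Q : Type u) [Group Q] : Prop :=
  ∃ (k : ℕ) (f : Fin k → ℕ), (∀ i, 1 ≤ f i) ∧
    Nonempty (Q ≃* ((i : Fin k) → Matrix.ProjectiveSpecialLinearGroup (Fin 2) (GaloisField 3 (2 * f i + 1))))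

/-- Generated by the `2`-elements. -/
def TwoGen (Q : Type u) [Group Q] : Prop := closure {g : Q | ∃ k : ℕ, orderOf g = 2 ^ k} = ⊤

theorem TwoGen.of_surjective {Q R : Type u} [Group Q] [Group R] (h : TwoGen Q) (f : Q →* R)
    (hf : Function.Surjective f) : TwoGen R := by
  rw [TwoGen, eq_top_iff, ← map_top_of_surjective f hf, ← h, MonoidHom.map_closure]
  refine closure_mono ?_
  rintro _ ⟨g, ⟨k, hk⟩, rfl⟩
  obtain ⟨j, -, hj⟩ := (Nat.dvd_prime_pow Nat.prime_two).1 ((orderOf_map_dvd f g).trans hk.dvd)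
  exact ⟨j, hj⟩

variable {Q : Type u} [Group Q] [Finite Q]

theorem layer_le_sup {K : Subgroup Q} (hK : Cfsg.IsComponent K) :
    Cfsg.layer Q ≤ K ⊔ centralizer (K : Set Q) := by
  refine sSup_le fun L hL => ?_
  rcases eq_or_ne L K with rfl | hne
  · exact le_sup_left
  · exact (commutator_eq_bot_iff_le_centralizer.1 (CfsgLib.Coprime.components_commute hL hK hne)).trans le_sup_right

/-- The components. -/
theorem component_spec (hW : CfsgLib.Walter.Classified.{u}) (hM : MainThm.{u}) (hg : HG Q)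
    (hO : Cfsg.pPrimeCore 3 Q = ⊥) {K : Subgroup Q} (hK : Cfsg.IsComponent K) :
    center K = ⊥ ∧ ∃ (f : ℕ) (F : Type) (_ : Field F) (_ : Fintype F), 1 ≤ f ∧
      Fintype.card F = 3 ^ (2 * f + 1) ∧ Nonempty (K ≃* Matrix.ProjectiveSpecialLinearGroup (Fin 2) F) := by
  haveI := Fact.mk Nat.prime_three
  haveI := hK.2.2
  have hperf : commutator K = ⊤ := by
    haveI := hK.2.1
    exact Group.IsPerfect.commutator_eq_top (G := K)
  have hnc : ¬ IsMulCommutative (K ⧸ center K) := fun hc => by
    haveI : Group.IsSolvable (center K) := CfsgLib.Coprime.isSolvable_of_isMulCommutative inferInstance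
    haveI : Group.IsSolvable (K ⧸ center K) :=
      Group.isSolvable_of_comm fun a b => isMulCommutative_iff.1 hc a b
    haveI : Group.IsSolvable K :=
      Group.isSolvable_of_ker_le_range (center K).subtype (QuotientGroup.mk' (center K)) (by simp)
    exact CfsgLib.Coprime.not_isSolvable_of_isComponent hK inferInstance
  -- the centre is a `3`-group
  have hkill : ∀ z ∈ center K, ∀ p : ℕ, p.Prime → orderOf z = p → p = 3 := by
    intro z hz p hp hzp
    by_contra hne
    have hn : (zpowers z).Normal := ⟨fun x hx g => by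
      have hc : x ∈ center K := (zpowers_le.2 hz) hx
      rwa [mem_center_iff.1 hc g, mul_inv_cancel_right]⟩
    have hsub : ((zpowers z).map K.subtype).IsSubnormal := hn.isSubnormal.trans' hK.1
    have hle : (zpowers z).map K.subtype ≤ Cfsg.pPrimeCore 3 Q :=
      CfsgLib.Coprime.le_pPrimeCore_of_isSubnormal Nat.prime_three hsub (by
        rw [card_map_of_injective K.subtype_injective, Nat.card_zpowers, hzp]
        exact (Nat.coprime_primes hp Nat.prime_three).2 hne)
    rw [hO, le_bot_iff, map_eq_bot_iff_of_injective _ K.subtype_injective, zpowers_eq_bot] at hle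
    rw [hle, orderOf_one] at hzp
    exact hp.ne_one hzp.symm
  obtain ⟨e, he⟩ : ∃ e, Nat.card (center K) = 3 ^ e := by
    refine ⟨_, Nat.eq_prime_pow_of_unique_prime_dvd Nat.card_pos.ne' fun {p} hp hd => ?_⟩
    haveI := Fact.mk hp
    obtain ⟨z, hz⟩ := exists_prime_orderOf_dvd_card' (G := center K) p hd
    exact hkill z z.2 p hp (by rw [Subgroup.orderOf_coe, hz])
  have hlist : Cfsg.IsSuzukiOrPSL2OddPowerThree (K ⧸ center K) :=
    composition_of_hg hW hM hg K hK.1 (center K) inferInstance hnc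
  rcases hlist with hsz | ⟨F, i1, i2, f, hF, ⟨e'⟩⟩
  · -- the Suzuki groups have order prime to three
    exfalso
    obtain ⟨-, m, -, hc⟩ := CfsgLib.CIT.isSuzuki_of_isoSuzuki hsz
    have h3 : ¬ 3 ∣ Nat.card (K ⧸ center K) := by
      have hq : ∀ m : ℕ, 2 ^ (2 * m + 1) % 3 = 2 := fun m => by
        rw [pow_succ, pow_mul, Nat.mul_mod, Nat.pow_mod]; norm_num
      have hq2 : ((2 ^ (2 * m + 1)) ^ 2) % 3 = 1 := by rw [Nat.pow_mod, hq]
      have h0 : 2 ^ (2 * m + 1) ≥ 1 := Nat.one_le_two_pow
      rw [hc, Nat.dvd_iff_mod_eq_zero, Nat.mul_mod, Nat.mul_mod _ (_ + 1), Nat.add_mod, hq2,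
        show (2 ^ (2 * m + 1) - 1) % 3 = 1 by have := hq m; omega]
      norm_num
    have hZ : center K = ⊥ := by
      refine (Subgroup.eq_bot_iff_forall _).2 fun z hz => ?_
      have hker : commutator K ≤ (MonoidHom.transferCenterPow K).ker := by
        rw [_root_.commutator_def, commutator_le]
        intro a _ b _
        rw [MonoidHom.mem_ker, map_commutatorElement]
        exact commutatorElement_eq_one_iff_commute.2
          (Subtype.ext (mem_center_iff.1 (MonoidHom.transferCenterPow K b).2 _))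
      rw [hperf] at hker
      have h1 : z ^ (center K).index = 1 := by
        have := congrArg Subtype.val (MonoidHom.mem_ker.1 (hker (mem_top z)))
        simpa [MonoidHom.transferCenterPow_apply] using this
      have h2 : orderOf z ∣ 3 ^ e := he ▸ Subgroup.orderOf_dvd_natCard _ hz
      refine orderOf_eq_one_iff.1 (Nat.eq_one_of_dvd_coprimes ?_ (orderOf_dvd_of_pow_eq_one h1) h2)
      exact Nat.Coprime.pow_right e ((Nat.prime_three.coprime_iff_not_dvd.2 h3).symm)
    have hcK : ¬ 3 ∣ Nat.card K := by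
      rwa [Subgroup.card_eq_card_quotient_mul_card_subgroup (center K), hZ, Subgroup.card_bot, mul_one,
        ← hZ]
    have hle : K ≤ Cfsg.pPrimeCore 3 Q :=
      CfsgLib.Coprime.le_pPrimeCore_of_isSubnormal Nat.prime_three hK.1
        (Nat.prime_three.coprime_iff_not_dvd.2 hcK).symm
    rw [hO, le_bot_iff] at hle
    subst hle
    exact hnc ⟨⟨fun a b => QuotientGroup.induction_on a fun x => QuotientGroup.induction_on b fun y =>
      by rw [Subsingleton.elim x y]⟩⟩
  · have hf1 : 1 ≤ f := by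
      by_contra hf0
      have hF3 : Fintype.card F = 3 := by rw [hF, show f = 0 by omega]; norm_num
      have h1 := CfsgLib.Classical.card_psl2 (F := F)
      rw [hF3, show Nat.gcd 2 (3 - 1) = 2 from rfl, ← Nat.card_congr e'.toEquiv] at h1
      have := CfsgLib.Invol.card_eq_sixty_of_le_hundred (G := K ⧸ center K) hnc (by omega)
      omega
    have h4 : 4 < Fintype.card F := by
      rw [hF]
      calc 4 < 3 ^ 3 := by norm_num
        _ ≤ 3 ^ (2 * f + 1) := Nat.pow_le_pow_right (by norm_num) (by omega)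
    have h9 : Fintype.card F ≠ 9 := fun h => by
      rw [hF, show 9 = 3 ^ 2 by norm_num] at h
      have := Nat.pow_right_injective (le_of_lt (by norm_num : 2 < 3)) h
      omega
    have hZ : center K = ⊥ := by
      have hmul := CfsgLib.Lie.SLUniv.psl_multiplier (F := F) (n := 2) le_rfl (fun _ => by omega)
        (by simp only [Set.mem_insert_iff, Set.mem_singleton_iff, Prod.mk.injEq]; omega)
      haveI : NeZero (Nat.gcd 2 (Fintype.card F - 1)) := ⟨(Nat.gcd_pos_of_pos_left _ two_pos).ne'⟩
      haveI : Finite (Matrix.ProjectiveSpecialLinearGroup (Fin 2) F) := Finite.of_equiv _ e'.toEquiv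
      have h := card_center_dvd hmul hperf e'
      rw [Nat.card_congr Multiplicative.toAdd, Nat.card_zmod, he] at h
      have h' := h.trans (Nat.gcd_dvd_left 2 _)
      refine Subgroup.card_eq_one.1 ?_
      rw [he]
      exact Nat.eq_one_of_dvd_coprimes (Nat.Coprime.pow_left e (by norm_num : Nat.Coprime 3 2)) dvd_rfl h'
    exact ⟨hZ, f, F, i1, i2, hf1, hF,
      ⟨((QuotientGroup.quotientMulEquivOfEq hZ).trans (QuotientGroup.quotientBot (G := K))).symm.trans e'⟩⟩

/-- An automorphism of a component fixing a Sylow `3`-subgroup pointwise is inner. -/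
theorem aut_inner {K : Type u} [Group K] [Finite K] {f : ℕ} {F : Type} [Field F] [Fintype F] (hf : 1 ≤ f)
    (hF : Fintype.card F = 3 ^ (2 * f + 1)) (e : K ≃* Matrix.ProjectiveSpecialLinearGroup (Fin 2) F)
    (R : Sylow 3 K) (α : MulAut K) (hα : ∀ x ∈ (R : Subgroup K), α x = x) :
    ∃ v : K, α = MulAut.conj v := by
  haveI := Fact.mk Nat.prime_three
  haveI : CharP F 3 := charP_of_card_eq_prime_pow hF
  haveI : Finite (Matrix.ProjectiveSpecialLinearGroup (Fin 2) F) := Finite.of_equiv _ e.toEquiv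
  haveI : IsSimpleGroup (Matrix.ProjectiveSpecialLinearGroup (Fin 2) F) :=
    Matrix.ProjectiveSpecialLinearGroup.rank_two_simple (by
      rw [Nat.card_eq_fintype_card, hF]
      calc 4 ≤ 3 ^ 3 := by norm_num
        _ ≤ 3 ^ (2 * f + 1) := Nat.pow_le_pow_right (by norm_num) (by omega))
  have hUp : IsPGroup 3 (CfsgLib.EqualOrder2.rootU : Subgroup (Matrix.ProjectiveSpecialLinearGroup (Fin 2) F)) := by
    rintro ⟨x, hx⟩
    obtain ⟨t, rfl⟩ := CfsgLib.EqualOrder2.mem_rootU.1 hx
    exact ⟨1, Subtype.ext (by rw [pow_one]; exact MinNonCA.pi_uT_pow 3 t)⟩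
  let U := hUp.toSylow (CfsgLib.EqualOrder2.not_dvd_index_rootU 3)
  obtain ⟨g, hg⟩ := MulAction.exists_smul_eq (Matrix.ProjectiveSpecialLinearGroup (Fin 2) F)
    (R.mapSurjective (f := e.toMonoidHom) e.surjective) U
  let g' : K ≃* Matrix.ProjectiveSpecialLinearGroup (Fin 2) F := e.trans (MulAut.conj g)
  let β : MulAut (Matrix.ProjectiveSpecialLinearGroup (Fin 2) F) := (g'.symm.trans α).trans g'
  have hβ : ∀ x ∈ (CfsgLib.EqualOrder2.rootU : Subgroup _), β x = x := by
    intro x hx
    have hxU : x ∈ (U : Subgroup (Matrix.ProjectiveSpecialLinearGroup (Fin 2) F)) := hx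
    rw [← hg, Sylow.coe_subgroup_smul] at hxU
    obtain ⟨_, ⟨r, hr, rfl⟩, hrx⟩ := hxU
    have hx' : g' r = x := hrx
    show g' (α (g'.symm x)) = x
    rw [← hx', MulEquiv.symm_apply_apply, hα r hr]
  obtain ⟨u, -, hu⟩ := aut_eq_conj β hβ
  refine ⟨g'.symm u, MulEquiv.ext fun k => g'.injective ?_⟩
  have h1 : β (g' k) = u * g' k * u⁻¹ := by rw [hu]; rfl
  show g' (α k) = g' (g'.symm u * k * (g'.symm u)⁻¹)
  rw [map_mul, map_mul, map_inv, MulEquiv.apply_symm_apply, ← h1]
  show g' (α k) = g' (α (g'.symm (g' k)))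
  rw [MulEquiv.symm_apply_apply]

/-- A `2`-element is a product of an element of the layer and an element centralizing `P`. -/
theorem exists_cent (hg : HG Q) (P : Sylow 3 ↥(Cfsg.layer Q)) {t : Q} {a : ℕ} (ht : t ^ 2 ^ a = 1) :
    ∃ l ∈ Cfsg.layer Q, ∃ c ∈ centralizer (((P : Subgroup (Cfsg.layer Q)).map (Cfsg.layer Q).subtype : Subgroup Q) : Set Q),
      t = l * c := by
  haveI := Fact.mk Nat.prime_three
  haveI := CfsgLib.Coprime.layer_normal (G := Q)
  obtain ⟨n, hn, l, hl, hnl⟩ : ∃ n ∈ normalizer (((P : Subgroup (Cfsg.layer Q)).map (Cfsg.layer Q).subtype) : Set Q), ∃ l ∈ (Cfsg.layer Q), n * l = t :=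
    mem_sup_of_normal_right.1 ((Sylow.normalizer_sup_eq_top P).ge (mem_top t))
  obtain ⟨b, m, hm, hbm⟩ := Nat.exists_eq_two_pow_mul_odd (orderOf_pos n).ne'
  have hcop : Nat.Coprime (2 ^ a) m := Nat.Coprime.pow_left a (Nat.coprime_two_left.2 hm)
  obtain ⟨j, hj1, hj2⟩ := Nat.chineseRemainder hcop 1 0
  have hfac : QuotientGroup.mk' (Cfsg.layer Q) n = QuotientGroup.mk' (Cfsg.layer Q) t := by
    rw [← hnl, map_mul, show QuotientGroup.mk' (Cfsg.layer Q) l = 1 from (QuotientGroup.eq_one_iff l).2 hl, mul_one]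
  have hn2 : (n ^ j) ^ 2 ^ b = 1 := by
    obtain ⟨i, rfl⟩ := Nat.modEq_zero_iff_dvd.1 hj2
    rw [← pow_mul, mul_comm m i, mul_assoc, mul_comm m, ← hbm, mul_comm i, pow_mul, pow_orderOf_eq_one,
      one_pow]
  have hnE : t * (n ^ j)⁻¹ ∈ (Cfsg.layer Q) := by
    rw [← QuotientGroup.eq_one_iff]
    show QuotientGroup.mk' (Cfsg.layer Q) (t * (n ^ j)⁻¹) = 1
    have h1 : (QuotientGroup.mk' (Cfsg.layer Q) t) ^ 2 ^ a = 1 := by rw [← map_pow, ht, map_one]
    have h2 : orderOf (QuotientGroup.mk' (Cfsg.layer Q) t) ∣ 2 ^ a := orderOf_dvd_of_pow_eq_one h1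
    rw [map_mul, map_inv, map_pow, hfac, pow_eq_pow_iff_modEq.2 (hj1.of_dvd h2), pow_one, mul_inv_cancel]
  refine ⟨t * (n ^ j)⁻¹, hnE, n ^ j, mem_centralizer_iff.2 fun s hs => ?_, by group⟩
  have h3 := hg.two_centralizes (S := ((P : Subgroup (Cfsg.layer Q)).map (Cfsg.layer Q).subtype)) (P.2.map (Cfsg.layer Q).subtype) b (n ^ j) hn2
    (fun r hr => (mem_normalizer_iff.1 (pow_mem hn j) r).1 hr) s hs
  exact (mul_inv_eq_iff_eq_mul.1 h3).symm

/-- A component is normal and the whole group induces inner automorphisms on it. -/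
theorem component_split (hW : CfsgLib.Walter.Classified.{u}) (hM : MainThm.{u}) (hg : HG Q)
    (hO : Cfsg.pPrimeCore 3 Q = ⊥) (hgen : TwoGen Q) {K : Subgroup Q} (hK : Cfsg.IsComponent K) :
    K.Normal ∧ K ⊔ centralizer (K : Set Q) = ⊤ := by
  haveI := Fact.mk Nat.prime_three
  obtain ⟨hZ, f, F, iF, iF', hf, hF, ⟨e⟩⟩ := component_spec hW hM hg hO hK
  set E := Cfsg.layer Q
  have hKE : K ≤ E := le_sSup hK
  obtain ⟨R⟩ : Nonempty (Sylow 3 K) := inferInstance
  obtain ⟨P, hP⟩ := ((R.2.map K.subtype).comap_of_injective E.subtype E.subtype_injective).exists_le_sylow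
  have hRP : ∀ r : K, r ∈ (R : Subgroup K) → (r : Q) ∈ (P : Subgroup E).map E.subtype := fun r hr =>
    ⟨⟨r, hKE r.2⟩, hP (mem_map_of_mem K.subtype hr), rfl⟩
  have hR1 : (R : Subgroup K) ≠ ⊥ := R.ne_bot_of_dvd_card (by
    haveI : Finite (Matrix.ProjectiveSpecialLinearGroup (Fin 2) F) := Finite.of_equiv _ e.toEquiv
    rw [Nat.card_congr e.toEquiv]
    exact CfsgLib.EqualOrder2.three_dvd_card)
  have hlay := layer_le_sup hK
  have hKC : K ⊔ centralizer (K : Set Q) ≤ normalizer (K : Set Q) :=
    sup_le le_normalizer (CfsgLib.Coprime.centralizer_le_normalizer_self K)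
  have hcN : ∀ c ∈ centralizer (((P : Subgroup E).map E.subtype : Subgroup Q) : Set Q),
      c ∈ normalizer (K : Set Q) := by
    intro c hc
    obtain ⟨r, hr, hr1⟩ := (R : Subgroup K).bot_or_exists_ne_one.resolve_left hR1
    have hfix : c * (r : Q) * c⁻¹ = r := by
      rw [← mem_centralizer_iff.1 hc _ (hRP r hr), mul_inv_cancel_right]
    have hK' : Cfsg.IsComponent (K.map (MulAut.conj c).toMonoidHom) :=
      CfsgLib.Coprime.isComponent_map_equiv _ hK
    by_cases heq : K.map (MulAut.conj c).toMonoidHom = K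
    · refine mem_normalizer_fintype fun x hx => ?_
      rw [SetLike.mem_coe, ← heq]
      exact ⟨x, hx, rfl⟩
    · exfalso
      have h1 := commutator_eq_bot_iff_le_centralizer.1 (CfsgLib.Coprime.components_commute hK' hK heq)
      have h2 : (r : Q) ∈ K.map (MulAut.conj c).toMonoidHom := ⟨r, r.2, hfix⟩
      refine hr1 ?_
      have h3 : r ∈ center K := mem_center_iff.2 fun k =>
        Subtype.ext (mem_centralizer_iff.1 (h1 h2) k k.2)
      rwa [hZ, mem_bot] at h3
  have hall : ∀ t : Q, (∃ k : ℕ, orderOf t = 2 ^ k) → t ∈ K ⊔ centralizer (K : Set Q) := by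
    rintro t ⟨a, ha⟩
    obtain ⟨l, hl, c, hc, rfl⟩ := exists_cent hg P (t := t) (a := a) (ha ▸ pow_orderOf_eq_one t)
    refine mul_mem (hlay hl) ?_
    set α : MulAut K := normalizerMonoidHom K ⟨c, hcN c hc⟩
    obtain ⟨v, hv⟩ := aut_inner hf hF e R α fun x hx => Subtype.ext (by
      show c * (x : Q) * c⁻¹ = x
      rw [← mem_centralizer_iff.1 hc _ (hRP x hx), mul_inv_cancel_right])
    have hvc : (v : Q)⁻¹ * c ∈ centralizer (K : Set Q) := mem_centralizer_iff.2 fun k hk => by
      have h0 := DFunLike.congr_fun hv (⟨k, hk⟩ : K)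
      have h1 : c * k * c⁻¹ = (v : Q) * k * (v : Q)⁻¹ := congrArg Subtype.val h0
      calc k * ((v : Q)⁻¹ * c) = (v : Q)⁻¹ * ((v : Q) * k * (v : Q)⁻¹) * c := by group
        _ = (v : Q)⁻¹ * c * k := by rw [← h1]; group
    have := mul_mem (mem_sup_left v.2 : (v : Q) ∈ K ⊔ centralizer (K : Set Q)) (mem_sup_right hvc)
    rwa [mul_inv_cancel_left] at this
  have htop : K ⊔ centralizer (K : Set Q) = ⊤ := top_unique (hgen ▸ (closure_le _).2 hall)
  exact ⟨normalizer_eq_top_iff.1 (top_unique (htop ▸ hKC)), htop⟩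

theorem concl_cons {K C : Type u} [Group K] [Group C] {Q : Type u} [Group Q] (e : K × C ≃* Q) {f : ℕ}
    (hf : 1 ≤ f) (eK : K ≃* Matrix.ProjectiveSpecialLinearGroup (Fin 2) (GaloisField 3 (2 * f + 1)))
    (hC : Concl C) : Concl Q := by
  obtain ⟨k, g, hg, ⟨eC⟩⟩ := hC
  refine ⟨k + 1, Fin.cons f g, fun i => ?_, ⟨?_⟩⟩
  · induction i using Fin.cases with
    | zero => simpa using hf
    | succ j => simpa using hg j
  exact e.symm.trans
    { toFun := fun x => Fin.cons (α := fun i => Matrix.ProjectiveSpecialLinearGroup (Fin 2)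
          (GaloisField 3 (2 * (Fin.cons f g : Fin (k + 1) → ℕ) i + 1))) (eK x.1) (eC x.2)
      invFun := fun y => (eK.symm (y 0), eC.symm fun j => y j.succ)
      left_inv := fun x => Prod.ext (eK.symm_apply_apply _) (eC.symm_apply_apply _)
      right_inv := fun y => funext fun i => by
        induction i using Fin.cases with
        | zero => exact eK.apply_symm_apply _
        | succ j => exact congrFun (eC.apply_symm_apply fun j => y j.succ) j
      map_mul' := fun x y => funext fun i => by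
        induction i using Fin.cases with
        | zero => exact map_mul eK _ _
        | succ j => exact congrFun (map_mul eC _ _) j }

/-- The structure. -/
theorem structure_of_hg (hW : CfsgLib.Walter.Classified.{u}) (hM : MainThm.{u}) :
    ∀ (Q : Type u) [Group Q] [Finite Q], HG Q → Cfsg.pPrimeCore 3 Q = ⊥ → TwoGen Q → Concl Q := by
  haveI := Fact.mk Nat.prime_three
  suffices key : ∀ n : ℕ, ∀ (Q : Type u) [Group Q] [Finite Q], Nat.card Q = n → HG Q →
      Cfsg.pPrimeCore 3 Q = ⊥ → TwoGen Q → Concl Q from fun Q _ _ => key _ Q rfl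
  intro n
  induction n using Nat.strong_induction_on with
  | _ n ih =>
  intro Q _ _ hn hg hO hgen
  by_cases hcomp : ∃ K : Subgroup Q, Cfsg.IsComponent K
  · obtain ⟨K, hK⟩ := hcomp
    obtain ⟨hKn, hsup⟩ := component_split hW hM hg hO hgen hK
    haveI := hKn
    obtain ⟨hZ, f, F, iF, iF', hf, hF, ⟨eK⟩⟩ := component_spec hW hM hg hO hK
    set C := centralizer (K : Set Q) with hC
    haveI : C.Normal := Subgroup.normal_centralizer
    have hdis : K ⊓ C = ⊥ := (Subgroup.eq_bot_iff_forall _).2 fun x hx => by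
      have h1 : (⟨x, hx.1⟩ : K) ∈ center K :=
        mem_center_iff.2 fun k => Subtype.ext (mem_centralizer_iff.1 hx.2 k k.2)
      rw [hZ, mem_bot] at h1
      exact congrArg Subtype.val h1
    have hcm : ∀ (a : K) (b : C), Commute (K.subtype a) (C.subtype b) := fun a b =>
      mem_centralizer_iff.1 b.2 a a.2
    let φ : K × C →* Q := MonoidHom.noncommCoprod K.subtype C.subtype hcm
    have hφs : Function.Surjective φ := MonoidHom.range_eq_top.1 (by
      rw [MonoidHom.noncommCoprod_range, range_subtype, range_subtype, hsup])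
    have hφi : Function.Injective φ := (injective_iff_map_eq_one φ).2 fun ⟨a, b⟩ hab => by
      have hab' : (a : Q) * b = 1 := hab
      have ha : (a : Q) ∈ K ⊓ C := ⟨a.2, by rw [eq_inv_of_mul_eq_one_left hab']; exact C.inv_mem b.2⟩
      rw [hdis, mem_bot] at ha
      rw [ha, one_mul] at hab'
      exact Prod.ext (Subtype.ext ha) (Subtype.ext hab')
    let e : K × C ≃* Q := MulEquiv.ofBijective φ ⟨hφi, hφs⟩
    have hcard : Nat.card C < n := by
      have hKne : 1 < Nat.card K := by
        haveI := hK.2.2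
        exact lt_of_lt_of_le (Finite.one_lt_card : 1 < Nat.card (K ⧸ center K))
          (Nat.card_le_card_of_surjective _ (QuotientGroup.mk'_surjective _))
      rw [← hn, ← Nat.card_congr e.toEquiv, Nat.card_prod, mul_comm]
      exact lt_mul_of_one_lt_right Nat.card_pos hKne
    haveI : Finite (Matrix.ProjectiveSpecialLinearGroup (Fin 2) F) := Finite.of_equiv _ eK.toEquiv
    haveI := Fintype.ofFinite (GaloisField 3 (2 * f + 1))
    obtain ⟨eF⟩ := CfsgLib.CIT.psl_congr (FiniteField.ringEquivOfCardEq (K := F) (K' := GaloisField 3 (2 * f + 1))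
      (by rw [hF, ← Nat.card_eq_fintype_card, GaloisField.card 3 _ (by omega)]))
    refine concl_cons e hf (eK.trans eF) (ih _ hcard C rfl (hg.subgroup C) ?_
      (hgen.of_surjective ((MonoidHom.snd K C).comp e.symm.toMonoidHom)
        (Prod.snd_surjective.comp e.symm.surjective)))
    have h1 := CfsgLib.Coprime.pPrimeCore_map_subtype_eq (G := Q) Nat.prime_three C
    rw [hO, bot_inf_eq, map_eq_bot_iff_of_injective _ C.subtype_injective] at h1
    exact h1
  · -- no component
    haveI := CfsgLib.Coprime.pCore_normal' (G := Q) 3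
    have hlay : Cfsg.layer Q = ⊥ := le_bot_iff.1 (sSup_le fun K hK => absurd ⟨K, hK⟩ hcomp)
    have hcent : centralizer (Cfsg.pCore 3 Q : Set Q) = ⊤ := by
      refine top_unique (hgen ▸ (closure_le _).2 ?_)
      rintro t ⟨a, ha⟩
      refine mem_centralizer_iff.2 fun s hs => ?_
      have h := hg.two_centralizes (S := Cfsg.pCore 3 Q) (CfsgLib.Coprime.pCore_isPGroup 3) a t
        (ha ▸ pow_orderOf_eq_one t)
        (fun r hr => (inferInstance : (Cfsg.pCore 3 Q).Normal).conj_mem r hr t) s hs
      exact (mul_inv_eq_iff_eq_mul.1 h).symm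
    have hF : Cfsg.generalizedFittingSubgroup Q = Cfsg.pCore 3 Q := by
      rw [Cfsg.generalizedFittingSubgroup, hlay, bot_sup_eq,
        CfsgLib.Coprime.fitting_eq_pCore_of_pPrimeCore_eq_bot hO]
    have htop : Cfsg.pCore 3 Q = ⊤ := by
      have h := CfsgLib.Coprime.centralizer_generalizedFitting_le (G := Q)
      rw [hF, hcent] at h
      exact top_unique h
    have hone : ∀ x : Q, x = 1 := by
      intro x
      refine (mem_bot.1 ((?_ : (⊤ : Subgroup Q) ≤ ⊥) (mem_top x)))
      refine hgen ▸ (closure_le _).2 ?_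
      rintro t ⟨a, ha⟩
      obtain ⟨k, hk⟩ := IsPGroup.iff_orderOf.1 (CfsgLib.Coprime.pCore_isPGroup (G := Q) 3)
        ⟨t, htop.ge (mem_top t)⟩
      rw [Subgroup.orderOf_mk, ha] at hk
      refine mem_bot.2 (orderOf_eq_one_iff.1 ?_)
      rw [ha]
      exact Nat.eq_one_of_dvd_coprimes (Nat.Coprime.pow a k (by norm_num : Nat.Coprime 2 3)) dvd_rfl hk.dvd
    haveI : Subsingleton Q := ⟨fun a b => (hone a).trans (hone b).symm⟩
    exact ⟨0, Fin.elim0, fun i => i.elim0,
      ⟨{ toFun := fun _ i => i.elim0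
         invFun := fun _ => 1
         left_inv := fun _ => Subsingleton.elim _ _
         right_inv := fun _ => funext fun i => i.elim0
         map_mul' := fun _ _ => funext fun i => i.elim0 }⟩⟩

/-- No element of order three is real exactly when the quotient by the `3'`-core is such a product. -/
theorem no_real_three_iff (hW : CfsgLib.Walter.Classified.{u}) (hM : MainThm.{u}) {G : Type u} [Group G]
    [Finite G] (hgen : TwoGen G) :
    (∀ x : G, orderOf x = 3 → ¬ IsConj x x⁻¹) ↔ Concl (G ⧸ Cfsg.pPrimeCore 3 G) := by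
  haveI := Fact.mk Nat.prime_three
  constructor
  · intro h
    have hg : HG G := fun a x hx hax => by
      by_contra hx1
      exact h x (orderOf_eq_prime hx hx1) (isConj_iff.2 ⟨a, hax⟩)
    exact structure_of_hg hW hM _ (hg.quotient _ (QuotientGroup.mk'_surjective _))
      (CfsgLib.Coprime.pPrimeCore_quotient_eq_bot Nat.prime_three)
      (hgen.of_surjective _ (QuotientGroup.mk'_surjective _))
  · rintro ⟨k, f, hf, ⟨e⟩⟩ x hx hconj
    obtain ⟨a, ha⟩ := isConj_iff.1 hconj
    set π := QuotientGroup.mk' (Cfsg.pPrimeCore 3 G)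
    have hx3 : x ^ 3 = 1 := hx ▸ pow_orderOf_eq_one x
    have h1 : e (π x) = 1 := funext fun i => by
      haveI := Fintype.ofFinite (GaloisField 3 (2 * f i + 1))
      refine CfsgLib.ReeType.hg_psl (n := f i) (by
        rw [← Nat.card_eq_fintype_card, GaloisField.card 3 _ (by omega)]) (e (π a) i) (e (π x) i) ?_ ?_
      · rw [← Pi.pow_apply, ← map_pow, ← map_pow, hx3, map_one, map_one]; rfl
      · have h2 := congrArg (fun g => e (π g)) ha
        simp only [map_mul, map_inv] at h2
        exact congrFun h2 i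
    have hmem : x ∈ Cfsg.pPrimeCore 3 G :=
      (QuotientGroup.eq_one_iff x).1 (e.map_eq_one_iff.1 h1)
    exact CfsgLib.Coprime.pPrimeCore_not_dvd Nat.prime_three
      (hx ▸ Subgroup.orderOf_dvd_natCard _ hmem)

end CfsgLib.Gold.ThreeReal
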