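import Cfsg.Agent.Lib.Fusion.AlperinGoldschmidt
import Cfsg.Agent.Lib.Bender.Suzuki.Classified
import Cfsg.Agent.Lib.Coprime.Core
import Cfsg.Agent.S1174
import Cfsg.Agent.S0205
import Cfsg.Prelude.Def_QuasithinSetup

/-!
# A Sylow `2`-subgroup in a unique maximal `2`-local controlling fusion

If the normalizers of the conjugation family of `T` lie in the maximal `2`-local `M ≥ T`, then `M` controls
the fusion in `T`, so the normal `2`-subgroups of `M` are strongly closed; given Goldschmidt's theorem the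
simple group is then a Bender group. An abelian `T` needs no theorem beyond `S1174`: by even characteristic
`C(t) ≤ N(T)` for every involution `t` of `T`.
-/

set_option autoImplicit false
set_option linter.unusedSectionVars false
set_option linter.style.haveILetI false

namespace CfsgLib.Gold.UniqueLocal

open Subgroup CfsgLib.Fusion.Goldschmidt

universe u

variable {G : Type u} [Group G] [Finite G]

/-- The normalizers of the family control the fusion, so a normal `2`-subgroup of `M` is strongly closed. -/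
theorem stronglyClosed_of_normal [IsSimpleGroup G] (hG : ¬ IsMulCommutative G) (T : Sylow 2 G)
    {M U : Subgroup G} (hTM : (T : Subgroup G) ≤ M)
    (h : ∀ D ∈ Cfsg.agConjFamily (T : Subgroup G), normalizer (D : Set G) ≤ M)
    (_hUM : U ≤ M) (hU : M ≤ normalizer (U : Set G)) (h2 : IsPGroup 2 U) :
    Cfsg.IsStronglyClosed U (T : Subgroup G) := by
  haveI : Fact (Nat.Prime 2) := ⟨Nat.prime_two⟩
  have hUT : U ≤ (T : Subgroup G) :=
    sup_eq_left.1 (T.3 (T.2.to_sup_of_normal_right' h2 (hTM.trans hU)) le_sup_left)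
  have hgood : ∀ E : Subgroup G, Good T E → normalizer (E : Set G) ≤ M := by
    intro E hE
    obtain ⟨hET, hC, hdp, hsyl⟩ := hE
    refine h E ⟨?_, hET, ?_, hC, ?_, hdp.2.2.2.2⟩
    · rintro rfl
      have htop : centralizer ((⊥ : Subgroup G) : Set G) = ⊤ := top_le_iff.1 fun g _ =>
        mem_centralizer_iff.2 fun x hx => by rw [mem_bot.1 hx, one_mul, mul_one]
      have hN : normalizer ((⊥ : Subgroup G) : Set G) = ⊤ := normalizer_eq_top _
      have h1 : corePP 2 (⊥ : Subgroup G) = ⊤ := top_le_iff.1 (htop ▸ hC)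
      obtain ⟨-, -, -, -, h5⟩ := hdp
      rw [sup_bot_eq, h1] at h5
      have hodd : Odd (Nat.card G) := by
        rw [← Subgroup.card_top, ← h5, card_map_of_injective (normalizer _).subtype_injective,
          ← Nat.not_even_iff_odd, even_iff_two_dvd]
        exact fun h2' => Nat.prime_two.coprime_iff_not_dvd.1
          (CfsgLib.Coprime.pPrimeCore_coprime Nat.prime_two).symm h2'
      have hT0 : (T : Subgroup G) = ⊥ := by
        obtain ⟨k, hk⟩ := IsPGroup.iff_card.1 T.2
        refine Subgroup.card_eq_one.1 ?_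
        rcases Nat.eq_zero_or_pos k with rfl | hk0
        · simpa using hk
        · exact absurd (((dvd_pow_self 2 hk0.ne').trans (hk ▸ dvd_refl _)).trans
            (card_subgroup_dvd_card (T : Subgroup G))) (by
              rw [← even_iff_two_dvd]; exact Nat.not_even_iff_odd.2 hodd)
      haveI := Fact.mk Nat.prime_two
      haveI : Group.IsSolvable G := Cfsg.Agent.S0205.result hodd
      exact hG ⟨⟨IsSimpleGroup.comm_iff_isSolvable.2 inferInstance⟩⟩
    · exact ⟨IsPGroup.toSylow (P := ((T : Subgroup G) ⊓ normalizer (E : Set G)).subgroupOf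
        (normalizer (E : Set G))) ((T.2.to_le inf_le_left).comap_of_injective
          (normalizer (E : Set G)).subtype (normalizer (E : Set G)).subtype_injective) hsyl, rfl⟩
    · refine commutator_eq_bot_iff_le_centralizer.2 fun o ho => mem_centralizer_iff.2 fun e he => ?_
      exact (hdp.2.2.1 o ho e he).symm
  have hchain : ∀ {D : Subgroup G} {g : G}, GChain T D g → g ∈ M := by
    intro D g hg
    induction hg with
    | nil D => exact one_mem _
    | cons E x hE hx _ _ ih => exact mul_mem (hgood E hE hx) ih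
  refine ⟨hUT, fun x hx g hg => ?_⟩
  obtain ⟨D, c, k, -, -, hc, hk, hgk⟩ := exists_gchain T {x} g⁻¹
    (Set.singleton_subset_iff.2 (hUT hx)) (by
      rintro _ ⟨a, ha, rfl⟩
      rw [Set.mem_singleton_iff] at ha
      subst ha
      simp only [inv_inv, SetLike.mem_coe]
      exact hg)
  rw [show g = k⁻¹ * c⁻¹ by rw [← mul_inv_rev, ← hgk, inv_inv]]
  have hcx : c⁻¹ * x * c⁻¹⁻¹ = x := by
    rw [inv_inv, mul_assoc, (mem_centralizer_iff.1 hc x rfl), inv_mul_cancel_left]
  have hkU : k⁻¹ * x * k⁻¹⁻¹ ∈ U := (mem_normalizer_iff.1 (hU (inv_mem (hchain hk))) x).1 hx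
  rwa [show k⁻¹ * c⁻¹ * x * (k⁻¹ * c⁻¹)⁻¹ = k⁻¹ * (c⁻¹ * x * c⁻¹⁻¹) * k⁻¹⁻¹ by group, hcx]

/-- A finite simple group with an abelian Sylow `2`-subgroup `T ≠ 1` and even characteristic has a strongly
embedded subgroup. -/
theorem exists_se_of_abelian [IsSimpleGroup G] (hG : ¬ IsMulCommutative G) (T : Sylow 2 G)
    (hT : (T : Subgroup G) ≠ ⊥) (hab : IsMulCommutative (T : Subgroup G))
    (hev : Cfsg.IsOfEvenCharacteristic G) : ∃ H : Subgroup G, Cfsg.IsStronglyEmbedded H := by
  haveI : Fact (Nat.Prime 2) := ⟨Nat.prime_two⟩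
  have hcomm : ∀ a ∈ (T : Subgroup G), ∀ b ∈ (T : Subgroup G), a * b = b * a := fun a ha b hb =>
    congrArg Subtype.val (isMulCommutative_iff.1 hab ⟨a, ha⟩ ⟨b, hb⟩)
  refine Cfsg.Agent.S1174.result T (T : Subgroup G) hT ⟨le_rfl, fun x _ g hg => hg⟩ fun htop => ?_
  have hN : normalizer ((T : Subgroup G) : Set G) = ⊤ := by
    refine top_le_iff.1 (htop ▸ iSup_le fun t => ?_)
    obtain ⟨t, htT, ht⟩ := t
    have hz : normalizer ((zpowers t : Subgroup G) : Set G) = centralizer ({t} : Set G) := by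
      refine le_antisymm (fun g hg => mem_centralizer_singleton_iff.2 ?_) fun g hg => ?_
      · have h1 := (mem_normalizer_iff.1 hg t).1 (mem_zpowers t)
        have h2 : g * t * g⁻¹ = t := by
          obtain ⟨n, hn⟩ := mem_zpowers_iff.1 h1
          rcases Int.even_or_odd' n with ⟨j, rfl | rfl⟩
          · rw [zpow_mul, zpow_two, ← sq, ← ht, pow_orderOf_eq_one, one_zpow] at hn
            exfalso
            have h3 : t = 1 := by rw [eq_comm, conj_eq_one_iff] at hn; exact hn
            rw [h3, orderOf_one] at ht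
            norm_num at ht
          · rw [zpow_add, zpow_mul, zpow_two, ← sq, ← ht, pow_orderOf_eq_one, one_zpow, one_mul, zpow_one] at hn
            exact hn.symm
        calc g * t = g * t * g⁻¹ * g := by group
          _ = t * g := by rw [h2]
      · refine CfsgLib.Coprime.centralizer_le_normalizer_self _ (mem_centralizer_iff.2 ?_)
        rintro x ⟨n, rfl⟩
        exact ((show Commute g t from mem_centralizer_singleton_iff.1 hg).zpow_right n).eq.symm
    have hloc : Cfsg.IsTwoLocal (centralizer ({t} : Set G)) :=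
      ⟨zpowers t, IsPGroup.of_card (n := 1) (by rw [Nat.card_zpowers, ht, pow_one]),
        fun h0 => by
          rw [zpowers_eq_bot] at h0
          rw [h0, orderOf_one] at ht
          norm_num at ht, hz.symm⟩
    have hTC : (T : Subgroup G) ≤ centralizer ({t} : Set G) := fun s hs =>
      mem_centralizer_singleton_iff.2 (hcomm s hs t htT)
    have hchar := hev _ hloc ⟨T, hTC⟩
    set C := centralizer ({t} : Set G)
    haveI := CfsgLib.Coprime.pCore_normal' (G := ↥C) 2
    have hle : Cfsg.pCore 2 ↥C ≤ (T.subtype hTC : Subgroup C) := CfsgLib.Coprime.pCore_le_sylow _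
    have hge : (T.subtype hTC : Subgroup C) ≤ Cfsg.pCore 2 ↥C := fun s hs => hchar
      (mem_centralizer_iff.2 fun z hz' => Subtype.ext (hcomm z (hle hz') s hs))
    have hnorm : (T.subtype hTC : Subgroup C).Normal := le_antisymm hle hge ▸ inferInstance
    intro g hg
    refine mem_normalizer_iff.2 fun x => ⟨fun hx => ?_, fun hx => ?_⟩
    · exact hnorm.conj_mem ⟨x, hTC hx⟩ hx ⟨g, hg⟩
    · have h1 := hnorm.conj_mem ⟨g * x * g⁻¹, hTC hx⟩ hx ⟨g⁻¹, inv_mem hg⟩
      have h2 : g⁻¹ * (g * x * g⁻¹) * g⁻¹⁻¹ ∈ (T : Subgroup G) := h1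
      simpa [mul_assoc] using h2
  haveI : (T : Subgroup G).Normal := normalizer_eq_top_iff.1 hN
  rcases (inferInstance : (T : Subgroup G).Normal).eq_bot_or_eq_top with h0 | h1
  · exact hT h0
  · exact hG (isMulCommutative_iff.2 fun a b => hcomm a (h1 ▸ mem_top a) b (h1 ▸ mem_top b))

/-- The statement of S1847, given Goldschmidt's theorem. -/
theorem bender_of_unique_local [IsSimpleGroup G]
    (hgold : ∀ (S : Sylow 2 G) (A : Subgroup G), A ≠ ⊥ → IsMulCommutative A →
      Cfsg.IsStronglyClosed A (S : Subgroup G) →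
      IsMulCommutative (S : Subgroup G) ∨ ∃ H : Subgroup G, Cfsg.IsStronglyEmbedded H)
    (hG : ¬ IsMulCommutative G) (hQ : Cfsg.IsQTKE G) (T : Sylow 2 G) (M : Subgroup G)
    (hM : Cfsg.maxTwoLocalsContaining (T : Subgroup G) = {M})
    (h : ∀ D ∈ Cfsg.agConjFamily (T : Subgroup G), normalizer (D : Set G) ≤ M) :
    (∀ U : Subgroup G, U ≤ M → M ≤ normalizer (U : Set G) → IsPGroup 2 ↥U →
        Cfsg.IsStronglyClosed U (T : Subgroup G)) ∧
      Cfsg.IsBenderGroup G := by
  haveI : Fact (Nat.Prime 2) := ⟨Nat.prime_two⟩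
  obtain ⟨⟨⟨T₀, hT₀, hT₀1, hMeq⟩, -⟩, hTM⟩ :
      Cfsg.IsMaximalTwoLocal M ∧ (T : Subgroup G) ≤ M := by
    have : M ∈ Cfsg.maxTwoLocalsContaining (T : Subgroup G) := hM ▸ rfl
    exact this
  have hsc : ∀ U : Subgroup G, U ≤ M → M ≤ normalizer (U : Set G) → IsPGroup 2 ↥U →
      Cfsg.IsStronglyClosed U (T : Subgroup G) := fun U h1 h2 h3 =>
    stronglyClosed_of_normal hG T hTM h h1 h2 h3
  refine ⟨hsc, ?_⟩
  set A := (center ↥T₀).map T₀.subtype with hA
  have hAT₀ : A ≤ T₀ := map_subtype_le _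
  have hAM : A ≤ M := hAT₀.trans (hMeq ▸ le_normalizer)
  have hAn : M ≤ normalizer (A : Set G) := by
    rw [hMeq]
    exact CfsgLib.PGroup.normalizer_le_normalizer_map_char T₀ (center ↥T₀)
  have hA1 : A ≠ ⊥ := by
    haveI : Nontrivial T₀ := T₀.nontrivial_iff_ne_bot.2 hT₀1
    haveI := hT₀.center_nontrivial
    rw [hA, Ne, map_eq_bot_iff_of_injective _ T₀.subtype_injective, ← Ne, ← nontrivial_iff_ne_bot]
    infer_instance
  have hAc : IsMulCommutative A := isMulCommutative_iff.2 fun a b => by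
    obtain ⟨a', ha', hae⟩ := a.2
    obtain ⟨b', -, hbe⟩ := b.2
    refine Subtype.ext ?_
    show (a : G) * b = b * a
    rw [← hae, ← hbe, ← map_mul, ← map_mul, (mem_center_iff.1 ha' b').symm]
  have hscA := hsc A hAM hAn (hT₀.to_le hAT₀)
  have hT : (T : Subgroup G) ≠ ⊥ := fun h0 => hA1 (le_bot_iff.1 (h0 ▸ hscA.1))
  obtain ⟨H, hH⟩ : ∃ H : Subgroup G, Cfsg.IsStronglyEmbedded H := by
    rcases hgold T A hA1 hAc hscA with hab | hse
    · exact exists_se_of_abelian hG T hT hab hQ.2.2
    · exact hse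
  rcases CfsgLib.Bender.Suzuki.isoFamilies_of_se CfsgLib.Bender.Suzuki.classified hH with
    ⟨F, i1, i2, ⟨n, hn, hF⟩, hiso⟩ | hsz | hu
  · refine Or.inl ⟨F, i1, i2, CfsgLib.Bender.Suzuki.charTwo_of_card hF, ?_, hiso⟩
    rw [hF]
    exact Nat.pow_le_pow_right two_pos hn
  · exact Or.inr (Or.inr hsz)
  · exact Or.inr (Or.inl hu)

end CfsgLib.Gold.UniqueLocal
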